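import Mathlib
import Cfsg.Agent.KFacts.MulTwo
import Cfsg.Agent.Nodes.Unique
import Cfsg.Agent.Nodes.NormalForm

-- merged: Cfsg.Agent.KFacts.Mult.RelBase
section

/-!
# Calculus in a double cover: commuting lifts

`Ker2 π c` : the kernel of `π : L → Y` is `{1, c}`. `LC π y y'` : all lifts of `y` commute with all lifts of `y'`.
`LC` is a closed under products in each variable, conjugation, and `LC π y ⁅u, v⁆` for free if `y` commutes with `u`
and `v` (`LC.commutator`); `LC.torus` : the same if some `t` centralises `y` and `y' = [t, u]` with `u` commuting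
with `y`.
-/

set_option autoImplicit false
set_option linter.unusedSectionVars false

namespace Cfsg.Agent.KFacts.Mult.RelBase

open Cfsg.Agent.KFacts.MulTwo
open scoped commutatorElement

variable {L Y : Type*} [Group L] [Group Y]

/-- The kernel of `π` is `{1, c}`. -/
structure Ker2 (π : L →* Y) (c : L) : Prop where
  ker : ∀ g, π g = 1 → g = 1 ∨ g = c
  map_c : π c = 1
  cen : ∀ x : L, c * x = x * c
  ne : c ≠ 1

variable {π : L →* Y} {c : L}

theorem Ker2.sq (hk : Ker2 π c) : c * c = 1 := by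
  have h1 : π (c * c) = 1 := by rw [map_mul, hk.map_c, one_mul]
  rcases hk.ker _ h1 with h2 | h2
  · exact h2
  · exact absurd (mul_eq_left.1 h2) hk.ne

theorem Ker2.eq_or (hk : Ker2 π c) {g g' : L} (he : π g = π g') : g = g' ∨ g = c * g' := by
  have h1 : π (g * g'⁻¹) = 1 := by rw [map_mul, map_inv, he, mul_inv_cancel]
  rcases hk.ker _ h1 with h2 | h2
  · left; exact mul_inv_eq_one.1 h2
  · right; exact mul_inv_eq_iff_eq_mul.1 h2

/-- elements with the same image differ by a central element -/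
theorem Ker2.exists_cen (hk : Ker2 π c) {g g' : L} (he : π g = π g') :
    ∃ z : L, (∀ x : L, z * x = x * z) ∧ π z = 1 ∧ g = z * g' := by
  rcases hk.eq_or he with h | h
  · exact ⟨1, fun x => by rw [one_mul, mul_one], map_one π, by rw [h, one_mul]⟩
  · exact ⟨c, hk.cen, hk.map_c, h⟩

/-- All lifts of `y` commute with all lifts of `y'`. -/
def LC (π : L →* Y) (y y' : Y) : Prop := ∀ a b : L, π a = y → π b = y' → a * b = b * a

theorem LC.symm {y y' : Y} (h : LC π y y') : LC π y' y := fun a b ha hb => (h b a hb ha).symm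

/-- enough for one pair of lifts -/
theorem LC.of_lift (hk : Ker2 π c) {a b : L} (h : a * b = b * a) : LC π (π a) (π b) := by
  intro a' b' ha hb
  obtain ⟨z, hz, -, rfl⟩ := hk.exists_cen ha
  obtain ⟨w, hw, -, rfl⟩ := hk.exists_cen hb
  calc z * a * (w * b) = z * (a * w) * b := by group
    _ = z * (w * a) * b := by rw [hw a]
    _ = z * w * (a * b) := by group
    _ = z * w * (b * a) := by rw [h]
    _ = w * z * (b * a) := by rw [hz w]
    _ = w * (z * b) * a := by group
    _ = w * (b * z) * a := by rw [hz b]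
    _ = w * b * (z * a) := by group

theorem LC.one_right (hk : Ker2 π c) (y : Y) : LC π y 1 := by
  intro a b _ hb
  obtain ⟨z, hz, -, e⟩ := hk.exists_cen (g := b) (g' := 1) (by rw [hb, map_one])
  rw [e, mul_one, hz]

theorem LC.one_left (hk : Ker2 π c) (y : Y) : LC π 1 y := (LC.one_right hk y).symm

theorem LC.mul_right {y u v : Y} (hu : u ∈ π.range) (h1 : LC π y u) (h2 : LC π y v) : LC π y (u * v) := by
  obtain ⟨a, rfl⟩ := hu
  intro g b hg hb
  have h3 := h2 g (a⁻¹ * b) hg (by rw [map_mul, map_inv, hb]; group)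
  have h4 := h1 g a hg rfl
  calc g * b = (g * a) * (a⁻¹ * b) := by group
    _ = a * (g * (a⁻¹ * b)) := by rw [h4]; group
    _ = a * ((a⁻¹ * b) * g) := by rw [h3]
    _ = b * g := by group

theorem LC.mul_left {y u v : Y} (hu : u ∈ π.range) (h1 : LC π u y) (h2 : LC π v y) : LC π (u * v) y :=
  (LC.mul_right hu h1.symm h2.symm).symm

theorem LC.inv_right {y u : Y} (h1 : LC π y u) : LC π y u⁻¹ := by
  intro g b hg hb
  have h2 := h1 g b⁻¹ hg (by rw [map_inv, hb, inv_inv])
  calc g * b = b * (b⁻¹ * g) * b := by group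
    _ = b * (g * b⁻¹) * b := by rw [h2]
    _ = b * g := by group

theorem LC.inv_left {y u : Y} (h1 : LC π u y) : LC π u⁻¹ y := h1.symm.inv_right.symm

/-- cancel a factor -/
theorem LC.of_mul_right {y u v : Y} (hv : v ∈ π.range) (h1 : LC π y (u * v)) (h2 : LC π y v) : LC π y u := by
  have h3 : (u * v) * v⁻¹ = u := by group
  rw [← h3]
  by_cases hr : u * v ∈ π.range
  · exact LC.mul_right hr h1 h2.inv_right
  · intro a b _ hb
    exfalso
    apply hr
    rw [h3] at hb
    exact mul_mem ⟨b, hb⟩ hv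

/-- cancel a factor -/
theorem LC.of_mul_left' {y u v : Y} (hu : u ∈ π.range) (h1 : LC π y (u * v)) (h2 : LC π y u) : LC π y v := by
  have h3 : u⁻¹ * (u * v) = v := by group
  rw [← h3]
  exact LC.mul_right (inv_mem hu) h2.inv_right h1

theorem LC.conj {y u g : Y} (hg : g ∈ π.range) (h1 : LC π y u) : LC π (g * y * g⁻¹) (g * u * g⁻¹) := by
  obtain ⟨k, rfl⟩ := hg
  intro a b ha hb
  have h2 := h1 (k⁻¹ * a * k) (k⁻¹ * b * k) (by rw [map_mul, map_mul, map_inv, ha]; group)
    (by rw [map_mul, map_mul, map_inv, hb]; group)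
  calc a * b = k * ((k⁻¹ * a * k) * (k⁻¹ * b * k)) * k⁻¹ := by group
    _ = k * ((k⁻¹ * b * k) * (k⁻¹ * a * k)) * k⁻¹ := by rw [h2]
    _ = b * a := by group

/-- lifts of commuting elements commute up to a central element -/
theorem Ker2.exists_comm (hk : Ker2 π c) {a b : L} (h : Commute (π a) (π b)) :
    ∃ z : L, (∀ x : L, z * x = x * z) ∧ π z = 1 ∧ a * b * a⁻¹ = z * b := by
  apply hk.exists_cen
  rw [map_mul, map_mul, map_inv, h.eq]; group

/-- **(K)** commutators in the centraliser of `y` are free. -/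
theorem LC.commutator (hk : Ker2 π c) {y u v : Y} (hu : u ∈ π.range) (hv : v ∈ π.range) (h1 : Commute y u)
    (h2 : Commute y v) : LC π y ⁅u, v⁆ := by
  obtain ⟨u, rfl⟩ := hu
  obtain ⟨v, rfl⟩ := hv
  intro a b ha hb
  subst ha
  rw [← map_commutatorElement] at hb
  obtain ⟨w, hw, -, rfl⟩ := hk.exists_cen hb
  obtain ⟨z1, hz1, -, e1⟩ := hk.exists_comm h1
  obtain ⟨z2, hz2, -, e2⟩ := hk.exists_comm h2
  have key : a * ⁅u, v⁆ * a⁻¹ = ⁅u, v⁆ := by
    have h3 : a * ⁅u, v⁆ * a⁻¹ = ⁅a * u * a⁻¹, a * v * a⁻¹⁆ := by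
      rw [commutatorElement_def, commutatorElement_def]; group
    rw [h3, e1, e2, commutatorElement_def, commutatorElement_def, mul_inv_rev, mul_inv_rev]
    have hz1' : ∀ x : L, z1⁻¹ * x = x * z1⁻¹ := fun x => by
      rw [inv_mul_eq_iff_eq_mul, ← mul_assoc, hz1 x, mul_assoc, mul_inv_cancel, mul_one]
    have hz2' : ∀ x : L, z2⁻¹ * x = x * z2⁻¹ := fun x => by
      rw [inv_mul_eq_iff_eq_mul, ← mul_assoc, hz2 x, mul_assoc, mul_inv_cancel, mul_one]
    calc z1 * u * (z2 * v) * (u⁻¹ * z1⁻¹) * (v⁻¹ * z2⁻¹)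
        = z1 * (u * (z2 * v) * u⁻¹) * z1⁻¹ * (v⁻¹ * z2⁻¹) := by group
      _ = (u * (z2 * v) * u⁻¹) * z1 * z1⁻¹ * (v⁻¹ * z2⁻¹) := by rw [hz1]
      _ = u * (z2 * (v * (u⁻¹ * (v⁻¹ * z2⁻¹)))) := by group
      _ = u * (v * (u⁻¹ * (v⁻¹ * z2⁻¹)) * z2) := by rw [hz2]
      _ = u * v * u⁻¹ * v⁻¹ := by group
  have key' : a * ⁅u, v⁆ = ⁅u, v⁆ * a := mul_inv_eq_iff_eq_mul.1 key
  calc a * (w * ⁅u, v⁆) = (a * w) * ⁅u, v⁆ := by group
    _ = w * (a * ⁅u, v⁆) := by rw [← hw a]; group
    _ = w * ⁅u, v⁆ * a := by rw [key']; group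

/-- **(T)** `t` centralises `y`, `y' = t u t⁻¹ u⁻¹`, `u` commutes with `y`. -/
theorem LC.torus (hk : Ker2 π c) {y u t : Y} (hu : u ∈ π.range) (ht : t ∈ π.range) (h1 : Commute y t)
    (h2 : Commute y u) : LC π y (t * u * t⁻¹ * u⁻¹) := LC.commutator hk ht hu h1 h2

/-- squares in the centraliser of `y` -/
theorem LC.sq (hk : Ker2 π c) {y u : Y} (hu : u ∈ π.range) (h1 : Commute y u) : LC π y (u * u) := by
  obtain ⟨u, rfl⟩ := hu
  intro a b ha hb
  subst ha
  rw [← map_mul] at hb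
  obtain ⟨w, hw, -, rfl⟩ := hk.exists_cen hb
  obtain ⟨z, hz, hz1, e1⟩ := hk.exists_comm h1
  have hzz : z * z = 1 := by
    rcases hk.ker z hz1 with h | h
    · rw [h, one_mul]
    · rw [h, hk.sq]
  have e2 : a * u = z * u * a := mul_inv_eq_iff_eq_mul.1 e1
  calc a * (w * (u * u)) = (a * w) * (u * u) := by group
    _ = (w * a) * (u * u) := by rw [hw a]
    _ = w * (a * u) * u := by group
    _ = w * (z * u * a) * u := by rw [e2]
    _ = w * z * u * (a * u) := by group
    _ = w * z * u * (z * u * a) := by rw [e2]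
    _ = w * z * (u * z) * u * a := by group
    _ = w * z * (z * u) * u * a := by rw [hz u]
    _ = w * (z * z) * u * u * a := by group
    _ = w * (u * u) * a := by rw [hzz]; group

/-! ### Squares of lifts -/

/-- All lifts of `y` have square `1`. -/
def SqOne (π : L →* Y) (y : Y) : Prop := ∀ a : L, π a = y → a * a = 1

theorem SqOne.of_lift (hk : Ker2 π c) {a : L} (h : a * a = 1) : SqOne π (π a) := by
  intro b hb
  rcases hk.eq_or hb with rfl | rfl
  · exact h
  · calc c * a * (c * a) = c * (a * c) * a := by group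
      _ = c * (c * a) * a := by rw [hk.cen a]
      _ = (c * c) * (a * a) := by group
      _ = 1 := by rw [hk.sq, h, one_mul]

theorem SqOne.conj {y g : Y} (hg : g ∈ π.range) (h : SqOne π y) : SqOne π (g * y * g⁻¹) := by
  obtain ⟨g, rfl⟩ := hg
  intro a ha
  have h1 := h (g⁻¹ * a * g) (by rw [map_mul, map_mul, map_inv, ha]; group)
  calc a * a = g * ((g⁻¹ * a * g) * (g⁻¹ * a * g)) * g⁻¹ := by group
    _ = 1 := by rw [h1]; group

/-- If `u` and `v * u` are conjugate, `v` commutes with `u` on the level of lifts, then lifts of `v` have square 1. -/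
theorem SqOne.of_conj (hk : Ker2 π c) {u v g : Y} (hu : u ∈ π.range) (hg : g ∈ π.range)
    (h1 : g * u * g⁻¹ = v * u) (h2 : LC π v u) (hu2 : u * u = 1) : SqOne π v := by
  obtain ⟨u, rfl⟩ := hu
  obtain ⟨g, rfl⟩ := hg
  intro a ha
  have h3 : π (g * u * g⁻¹) = π (a * u) := by rw [map_mul, map_mul, map_inv, h1, map_mul, ha]
  have h4 := h2 a u ha rfl
  have huu : π (u * u) = 1 := by rw [map_mul, hu2]
  have hcen : ∀ x, (u * u) * x = x * (u * u) := by
    rcases hk.ker _ huu with h | h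
    · rw [h]; intro x; rw [one_mul, mul_one]
    · rw [h]; exact hk.cen
  have h5 : (g * u * g⁻¹) * (g * u * g⁻¹) = u * u := by
    calc (g * u * g⁻¹) * (g * u * g⁻¹) = g * (u * u) * g⁻¹ := by group
      _ = u * u := by rw [← hcen g]; group
  have h6 : (a * u) * (a * u) = u * u := by
    rcases hk.eq_or h3 with h | h
    · rw [← h, h5]
    · rw [← h5, h]
      have : c * (a * u) * (c * (a * u)) = (c * c) * ((a * u) * (a * u)) := by
        calc c * (a * u) * (c * (a * u)) = c * ((a * u) * c) * (a * u) := by group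
          _ = c * (c * (a * u)) * (a * u) := by rw [hk.cen (a * u)]
          _ = (c * c) * ((a * u) * (a * u)) := by group
      rw [this, hk.sq, one_mul]
  have h7 : (a * u) * (a * u) = a * a * (u * u) := by
    calc (a * u) * (a * u) = a * (u * a) * u := by group
      _ = a * (a * u) * u := by rw [h4]
      _ = a * a * (u * u) := by group
  rw [h7] at h6
  exact mul_eq_right.1 h6

end Cfsg.Agent.KFacts.Mult.RelBase

end

-- merged: Cfsg.Agent.KFacts.Mult.Asm
section

/-!
# Double covers of groups with a root group datum: the assembly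

`π : L → Y` has kernel `{1, c}` (`c` a central involution of the perfect finite group `L`) and its range is a group
with root group datum `R : RGD cs h 2 T n X` (it is enough that the range contains the positive root groups and lies in
`GG`). `Xt x`, `x > 0`, are complements of `⟨c⟩` in the preimages of the root groups.

* `Good π c Xt x y` : either `[Xt x, Xt y] ≤ btw Xt x y`, or an element `t` of `L` normalises all `Xt z`, centralises
  `Xt x` and `Xt y = [t, Xt y]` (no commutator formula needed);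
* `false_of_good` : if all pairs of positive roots are good, then `L` does not exist.
-/

set_option autoImplicit false
set_option linter.unusedSectionVars false

namespace Cfsg.Agent.KFacts.Mult.Asm

open CoxeterSystem Cfsg.Agent.ChevalleyStructure.CoxeterGeom Cfsg.Agent.Tits.Roots Cfsg.Agent.Tits.Core
  Cfsg.Agent.Tits.RootComb Cfsg.Agent.Nodes.Comb Cfsg.Agent.Nodes.Reps Cfsg.Agent.Nodes.BNOf
  Cfsg.Agent.Nodes.BNOf.RGD Cfsg.Agent.Nodes.Unique Cfsg.Agent.Nodes.Bruhat Cfsg.Agent.KFacts.MulTwo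
  Cfsg.Agent.KFacts.Mult.RelBase
open scoped commutatorElement

variable {I W Y L : Type*} [Fintype I] [DecidableEq I] [Group W] [Group Y] [Group L] {M : CoxeterMatrix I}
  {cs : CoxeterSystem M W} {A : I → I → ℤ} {h : IsCartan M A} {p : ℕ} {T : Subgroup Y} {n : I → Y}
  {X : (I → ℤ) → Subgroup Y}

variable {π : L →* Y} {c : L}

/-- The complements `Xt x` of `⟨c⟩` in the preimages of the root groups. -/
structure Compl (cs : CoxeterSystem M W) (h : IsCartan M A) (X : (I → ℤ) → Subgroup Y) (π : L →* Y) (c : L)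
    (Xt : (I → ℤ) → Subgroup L) : Prop where
  map : ∀ x ∈ Pos cs h, (Xt x).map π = X x
  nc : ∀ x ∈ Pos cs h, c ∉ Xt x

/-- A pair of positive roots is good. -/
def Good (cs : CoxeterSystem M W) (h : IsCartan M A) (Xt : (I → ℤ) → Subgroup L) (x y : I → ℤ) : Prop :=
  (∀ a ∈ Xt x, ∀ b ∈ Xt y, ⁅a, b⁆ ∈ btw cs h Xt x y) ∨
  ∃ t : L, (∀ z ∈ Pos cs h, ∀ g ∈ Xt z, t * g * t⁻¹ ∈ Xt z) ∧ (∀ a ∈ Xt x, t * a * t⁻¹ = a) ∧
    ∀ b ∈ Xt y, ∃ g ∈ Xt y, b = t * g * t⁻¹ * g⁻¹

theorem btw_le_Sup' {Xt : (I → ℤ) → Subgroup L} {x y : I → ℤ} {S : Set (I → ℤ)}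
    (hS : ∀ z, Btwn cs h x y z → z ∈ S) : btw cs h Xt x y ≤ Sup Xt S := by
  unfold Nodes.Reps.btw
  refine iSup_le ?_
  rintro ⟨z, hz⟩
  exact le_Sup (hS z hz)

theorem map_Sup {Xt : (I → ℤ) → Subgroup L} {S : Set (I → ℤ)} (hS : ∀ x ∈ S, (Xt x).map π = X x) :
    (Sup Xt S).map π = Sup X S := by
  unfold Sup
  rw [Subgroup.map_iSup]
  refine iSup_congr fun z => hS z.1 z.2

variable {Xt : (I → ℤ) → Subgroup L}

/-- If all elements of `Xt x` map the generators of `M` into `M`, then `Xt x` normalises `M`. -/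
theorem le_normalizer_of {H : Subgroup L} {S : Set (I → ℤ)}
    (hH : ∀ a ∈ H, ∀ y ∈ S, ∀ b ∈ Xt y, a * b * a⁻¹ ∈ Sup Xt S) :
    H ≤ Subgroup.normalizer (Sup Xt S : Set L) := by
  have key : ∀ a ∈ H, ∀ b ∈ Sup Xt S, a * b * a⁻¹ ∈ Sup Xt S := by
    intro a ha
    have h1 : Sup Xt S ≤ (Sup Xt S).comap (MulAut.conj a).toMonoidHom := by
      refine Sup_le fun y hy b hb => ?_
      rw [Subgroup.mem_comap]
      exact hH a ha y hy b hb
    intro b hb
    exact h1 hb
  intro a ha
  rw [Subgroup.mem_normalizer_iff]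
  intro b
  refine ⟨fun hb => key a ha b hb, fun hb => ?_⟩
  have h2 := key a⁻¹ (inv_mem ha) _ hb
  have e : a⁻¹ * (a * b * a⁻¹) * a⁻¹⁻¹ = b := by group
  rwa [e] at h2

variable (R : RGD cs h p T n X)

include R

/-- The step: `Xt x` normalises `M = Sup Xt (Fut (w s_i))`, `x = w α_i`. -/
theorem step [Finite W] (hk : Ker2 π c) (hX : Compl cs h X π c Xt) {w : W} {i : I}
    (hw : 0 ≤ rep cs h w (sr i))
    (hg : ∀ y ∈ Fut cs h (w * cs.simple i), Good cs h Xt (rep cs h w (sr i)) y) :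
    Xt (rep cs h w (sr i)) ≤ Subgroup.normalizer (Sup Xt (Fut cs h (w * cs.simple i)) : Set L) := by
  set x := rep cs h w (sr i) with hxdef
  set S := Fut cs h (w * cs.simple i) with hSdef
  have hxr : IsRoot cs h x := ⟨w, i, rfl⟩
  have hxpos : x ∈ Pos cs h := ⟨hxr, hw⟩
  have hSeq : S = Fut cs h w \ {x} := fut_mul hw
  have hSpos : S ⊆ Pos cs h := fut_subset_pos _
  have hmapS : (Sup Xt S).map π = Sup X S := map_Sup fun z hz => hX.map z (hSpos hz)
  -- `π a` normalises `Sup X S`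
  have hnorm : X x ≤ Subgroup.normalizer (Sup X S : Set Y) := by
    rw [hSeq]
    exact normalizer_peel R (fut_subset_pos w) (closed_fut w) (mem_fut hw)
  have hsign : ∀ a ∈ Xt x, ∀ b ∈ Sup Xt S, a * b * a⁻¹ ∈ Sup Xt S ∨ ∃ m ∈ Sup Xt S, a * b * a⁻¹ = c * m := by
    intro a ha b hb
    have h1 : π a ∈ X x := by rw [← hX.map x hxpos]; exact ⟨a, ha, rfl⟩
    have h2 : π b ∈ Sup X S := by rw [← hmapS]; exact ⟨b, hb, rfl⟩
    have h3 : π (a * b * a⁻¹) ∈ Sup X S := by
      rw [map_mul, map_mul, map_inv]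
      exact (Subgroup.mem_normalizer_iff.1 (hnorm h1) _).1 h2
    rw [← hmapS] at h3
    obtain ⟨m, hm, he⟩ := h3
    rcases hk.eq_or he.symm with h4 | h4
    · left; rw [h4]; exact hm
    · right; exact ⟨m, hm, h4⟩
  refine le_normalizer_of fun a ha y hy b hb => ?_
  have hyne : y ≠ x := by
    have := hSeq ▸ hy
    exact this.2
  rcases hg y hy with h1 | ⟨t, ht, htx, hty⟩
  · have h2 := h1 a ha b hb
    have e : a * b * a⁻¹ = ⁅a, b⁆ * b := by rw [commutatorElement_def]; group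
    rw [e]
    refine mul_mem (btw_le_Sup' ?_ h2) (le_Sup hy hb)
    intro z hz
    rw [hSeq]
    have hy' : y ∈ Fut cs h w := by rw [hSeq] at hy; exact hy.1
    exact ⟨closed_fut w x (mem_fut hw) y hy' z hz,
      btwn_ne_left hxr (hSpos hy).1 hw (hSpos hy).2 hyne.symm hz⟩
  · obtain ⟨g, hgy, rfl⟩ := hty b hb
    have htS : ∀ m ∈ Sup Xt S, t * m * t⁻¹ ∈ Sup Xt S := by
      have h1 : Sup Xt S ≤ (Sup Xt S).comap (MulAut.conj t).toMonoidHom := by
        refine Sup_le fun z hz b hb => ?_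
        rw [Subgroup.mem_comap]
        exact le_Sup hz (ht z (hSpos hz) b hb)
      intro m hm
      exact h1 hm
    have e1 : a * (t * g * t⁻¹ * g⁻¹) * a⁻¹ = t * (a * g * a⁻¹) * t⁻¹ * (a * g * a⁻¹)⁻¹ := by
      have h2 : t * a = a * t := by
        have := htx a ha
        exact mul_inv_eq_iff_eq_mul.1 this
      have h3 : t⁻¹ * a⁻¹ = a⁻¹ * t⁻¹ := by rw [← mul_inv_rev, ← mul_inv_rev, h2]
      calc a * (t * g * t⁻¹ * g⁻¹) * a⁻¹ = (a * t) * g * t⁻¹ * g⁻¹ * a⁻¹ := by group
        _ = (t * a) * g * t⁻¹ * g⁻¹ * a⁻¹ := by rw [h2]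
        _ = t * a * g * (a⁻¹ * t⁻¹) * t * a * t⁻¹ * g⁻¹ * a⁻¹ := by group
        _ = t * a * g * (a⁻¹ * t⁻¹) * (t * a) * t⁻¹ * g⁻¹ * a⁻¹ := by group
        _ = t * a * g * (a⁻¹ * t⁻¹) * (a * t) * t⁻¹ * g⁻¹ * a⁻¹ := by rw [h2]
        _ = t * (a * g * a⁻¹) * t⁻¹ * (a * g⁻¹ * a⁻¹) := by group
        _ = t * (a * g * a⁻¹) * t⁻¹ * (a * g * a⁻¹)⁻¹ := by group
    rw [e1]
    rcases hsign a ha g (le_Sup hy hgy) with h2 | ⟨m, hm, h2⟩
    · exact mul_mem (htS _ h2) (inv_mem h2)
    · rw [h2]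
      have e2 : t * (c * m) * t⁻¹ * (c * m)⁻¹ = t * m * t⁻¹ * m⁻¹ := by
        rw [mul_inv_rev]
        have h3 : t * (c * m) = c * (t * m) := by rw [← mul_assoc, ← hk.cen t, mul_assoc]
        rw [h3]
        have h4 : m⁻¹ * c⁻¹ = c⁻¹ * m⁻¹ := by rw [← mul_inv_rev, ← mul_inv_rev, hk.cen m]
        rw [h4]
        have h5 : c * (t * m) * t⁻¹ * (c⁻¹ * m⁻¹) = c * ((t * m * t⁻¹) * c⁻¹) * m⁻¹ := by group
        rw [h5]
        have h6 : (t * m * t⁻¹) * c⁻¹ = c⁻¹ * (t * m * t⁻¹) := by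
          have h7 : Commute c (t * m * t⁻¹) := hk.cen _
          exact h7.inv_left.eq.symm
        rw [h6]; group
      rw [e2]
      exact mul_mem (htS _ hm) (inv_mem hm)

/-- `c` is not in the join of the complements. -/
theorem notMem_fut [Finite W] (hk : Ker2 π c) (hX : Compl cs h X π c Xt)
    (hg : ∀ x ∈ Pos cs h, ∀ y ∈ Pos cs h, x ≠ y → Good cs h Xt x y) (w : W) : c ∉ Sup Xt (Fut cs h w) := by
  induction hn : (Fut cs h w).ncard generalizing w with
  | zero =>
    have h1 := (Set.ncard_eq_zero (finite_fut w)).1 hn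
    rw [h1]
    intro h2
    have h3 : Sup Xt (∅ : Set (I → ℤ)) ≤ ⊥ := Sup_le fun z hz => absurd hz (Set.notMem_empty z)
    exact hk.ne (Subgroup.mem_bot.1 (h3 h2))
  | succ k ih =>
    have hne : (Fut cs h w).Nonempty := by
      rw [Set.nonempty_iff_ne_empty]
      intro h1
      rw [h1, Set.ncard_empty] at hn
      omega
    obtain ⟨y, hy⟩ := hne
    obtain ⟨i, hi⟩ := exists_simple hy
    set x := rep cs h w (sr i) with hxdef
    have hxr : IsRoot cs h x := ⟨w, i, rfl⟩
    have hxpos : x ∈ Pos cs h := ⟨hxr, hi⟩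
    have hcard : (Fut cs h (w * cs.simple i)).ncard = k := by
      rw [fut_mul hi, Set.ncard_sdiff_singleton_of_mem (mem_fut hi), hn]
      rfl
    have hc' := ih (w * cs.simple i) hcard
    have hst := step R hk hX hi (fun y hy => hg x hxpos y (fut_subset_pos _ hy) (by
      rw [fut_mul hi] at hy
      exact (Ne.symm hy.2)))
    intro hmem
    rw [sup_peel (mem_fut hi), ← fut_mul hi] at hmem
    have h1 : c ∈ ((Xt x ⊔ Sup Xt (Fut cs h (w * cs.simple i)) : Subgroup L) : Set L) := hmem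
    rw [Subgroup.coe_mul_of_left_le_normalizer_right _ _ hst, Set.mem_mul] at h1
    obtain ⟨a, ha, b, hb, e⟩ := h1
    have h2 : π a = (π b)⁻¹ := by
      rw [eq_inv_iff_mul_eq_one, ← map_mul, e, hk.map_c]
    have h3 : π a ∈ X x ⊓ Sup X (Fut cs h (w * cs.simple i)) := by
      refine ⟨by rw [← hX.map x hxpos]; exact ⟨a, ha, rfl⟩, ?_⟩
      rw [h2]
      apply Subgroup.inv_mem
      rw [← map_Sup (π := π) (Xt := Xt) fun z hz => hX.map z (fut_subset_pos _ hz)]
      exact ⟨b, hb, rfl⟩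
    rw [hxdef, tail_inf R, Subgroup.mem_bot] at h3
    rcases hk.ker a h3 with h4 | h4
    · rw [h4, one_mul] at e
      exact hc' (e ▸ hb)
    · exact hX.nc x hxpos (h4 ▸ ha)

/-- **The assembly**: if all pairs of positive roots are good, then the double cover `L` does not exist. -/
theorem false_of_good [Finite W] [Finite L] [Finite Y] (hp : p = 2) (hc : Ctr c) (hk : Ker2 π c)
    (hr : π.range ≤ GG cs h T X)
    (hX : Compl cs h X π c Xt) (hg : ∀ x ∈ Pos cs h, ∀ y ∈ Pos cs h, x ≠ y → Good cs h Xt x y) : False := by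
  subst hp
  have : Fact (Nat.Prime 2) := ⟨Nat.prime_two⟩
  have hmap : (Sup Xt (Pos cs h)).map π = Sup X (Pos cs h) := map_Sup fun z hz => hX.map z hz
  have hUr : Sup X (Pos cs h) ≤ π.range := by
    rw [← hmap]; exact Subgroup.map_le_range _ _
  refine hc.false_of_compl (P := (Sup X (Pos cs h)).comap π) (P₁ := Sup Xt (Pos cs h)) ?_ ?_ ?_ ?_
  · rw [Subgroup.mem_comap, hk.map_c]; exact one_mem _
  · rw [Subgroup.index_comap]
    -- `U` is a Sylow subgroup of the range
    have hU : IsPGroup 2 ↥((Sup X (Pos cs h)).subgroupOf π.range) :=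
      (RGD.isPGroup_Upos R).comap_of_injective _ (Subgroup.subtype_injective _)
    let P : Sylow 2 ↥π.range :=
      { toSubgroup := (Sup X (Pos cs h)).subgroupOf π.range
        isPGroup' := hU
        is_maximal' := by
          intro Q hQ hle
          have h1 : Sup X (Pos cs h) ≤ Q.map π.range.subtype := by
            intro u hu
            exact ⟨⟨u, hUr hu⟩, hle (Subgroup.mem_subgroupOf.2 hu), rfl⟩
          have h2 := Nodes.NormalForm.eq_U_of_isPGroup R (P := Q.map π.range.subtype) (hQ.map _) h1 (by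
            rintro _ ⟨q, -, rfl⟩
            exact hr q.2)
          apply le_antisymm _ hle
          intro q hq
          rw [Subgroup.mem_subgroupOf, ← h2]
          exact ⟨q, hq, rfl⟩ }
    have h3 := P.not_dvd_index
    exact h3
  · have := notMem_fut R hk hX hg 1
    rwa [fut_one] at this
  · intro x hx
    rw [Subgroup.mem_comap, ← hmap] at hx
    obtain ⟨m, hm, he⟩ := hx
    rcases hk.eq_or he with h4 | h4
    · left; rw [← h4]; exact hm
    · right
      rw [← h4]; exact hm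

end Cfsg.Agent.KFacts.Mult.Asm

end
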