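import Cfsg.Agent.KFacts.Mult.LacedRGD
import Cfsg.Agent.KFacts.Mult.LacedD

-- merged: Cfsg.Agent.KFacts.Mult.LacedTor
section

/-!
# Weyl elements and torus elements of simply laced systems, characteristic 2 (helper827)

For `S : Laced.Sys B Φ x` (every root has a neighbour at 60 degrees, `2 = 0`):

* `nr x r c = x r c * x (-r) c⁻¹ * x r c`, `hr x r c = nr x r c * nr x r 1`;
* `S.nr_conj` : `nr x r 1 * x u a * (nr x r 1)⁻¹ = x (u - B r u • r) a`;
* `S.hr_conj` : `hr x r c * x u a * (hr x r c)⁻¹ = x u (c ^ B r u * a)`;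
* `S.good_of_two` : orthogonal pairs are good if `F` has an element `c ≠ 0, 1`;
* `noDouble_of_two` : simply laced groups of rank at least 3, `q ≥ 4`, have no perfect double cover;
* `data_of_sys` : `ChevTwo.Data` from `Sys`.
-/

set_option autoImplicit false
set_option linter.unusedSectionVars false

namespace Cfsg.Agent.KFacts.Mult.LacedTor

open scoped commutatorElement
open Cfsg.Agent.OddHalf.SL.Defs Cfsg.Agent.KFacts.Mult.Laced Cfsg.Agent.KFacts.Mult.LacedEnd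

variable {L V F : Type*} [Group L] [AddCommGroup V] [Field F] {B : V → V → ℤ} {Φ : Set V} {x : V → F → L}

/-- `n_r(c)` -/
def nr (x : V → F → L) (r : V) (c : F) : L := x r c * x (-r) c⁻¹ * x r c

/-- `h_r(c) = n_r(c) n_r(1)` -/
def hr (x : V → F → L) (r : V) (c : F) : L := nr x r c * nr x r 1

section

variable (S : Sys B Φ x) (h2 : (2 : F) = 0)

include S

theorem conj_neg {r u : V} (hr : r ∈ Φ) (hu : u ∈ Φ) (h : B r u = -1) (c a : F) :
    x r c * x u a * (x r c)⁻¹ = x (r + u) (c * a) * x u a := by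
  have := S.comm r hr u hu h c a
  rw [commutatorElement_def] at this
  rw [← this]; group

theorem conj_nonneg {r u : V} (hr : r ∈ Φ) (hu : u ∈ Φ) (h : 0 ≤ B r u) (c a : F) :
    x r c * x u a * (x r c)⁻¹ = x u a := by
  rw [(S.one r hr u hu h c a).eq]; group

theorem nr_conj_zero {r u : V} (hr : r ∈ Φ) (hu : u ∈ Φ) (h : B r u = 0) (c a : F) :
    nr x r c * x u a * (nr x r c)⁻¹ = x u a := by
  have h1 := conj_nonneg S hr hu h.ge c a
  have h3 := conj_nonneg S (S.roots.neg_mem r hr) hu (by rw [S.roots.neg_left, h]; norm_num) c⁻¹ a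
  unfold nr
  calc x r c * x (-r) c⁻¹ * x r c * x u a * (x r c * x (-r) c⁻¹ * x r c)⁻¹
      = x r c * (x (-r) c⁻¹ * (x r c * x u a * (x r c)⁻¹) * (x (-r) c⁻¹)⁻¹) * (x r c)⁻¹ := by group
    _ = x u a := by rw [h1, h3, h1]

include h2

theorem sq {r : V} (hr : r ∈ Φ) (a : F) : x r a * x r a = 1 := by
  rw [← S.add r hr, ← two_mul, h2, zero_mul, S.zero hr]

theorem nr_conj_pos {r u : V} (hr : r ∈ Φ) (hu : u ∈ Φ) (h : B r u = 1) {c : F} (hc : c ≠ 0) (a : F) :
    nr x r c * x u a * (nr x r c)⁻¹ = x (u - r) (c⁻¹ * a) := by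
  have hR := S.roots
  have hr' := hR.neg_mem r hr
  have hur : u - r ∈ Φ := hR.sub_mem hu hr (by rw [hR.symm]; exact h)
  have t := hR.two r hr
  have t' := hR.two u hu
  have y := hR.symm u r
  have h1 := conj_nonneg S hr hu (by omega) c a
  have h3 := conj_neg S hr' hu (by rw [hR.neg_left]; omega) c⁻¹ a
  have e3 : -r + u = u - r := by abel
  rw [e3] at h3
  have h4 := conj_neg S hr hur (by rw [hR.sub_right]; omega) c (c⁻¹ * a)
  have e4 : r + (u - r) = u := by abel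
  rw [e4, mul_inv_cancel_left₀ hc] at h4
  have h5 := S.one u hu (u - r) hur (by rw [hR.sub_right]; omega) a (c⁻¹ * a)
  unfold nr
  calc x r c * x (-r) c⁻¹ * x r c * x u a * (x r c * x (-r) c⁻¹ * x r c)⁻¹
      = x r c * (x (-r) c⁻¹ * (x r c * x u a * (x r c)⁻¹) * (x (-r) c⁻¹)⁻¹) * (x r c)⁻¹ := by group
    _ = x r c * (x (u - r) (c⁻¹ * a) * x u a) * (x r c)⁻¹ := by rw [h1, h3]
    _ = (x r c * x (u - r) (c⁻¹ * a) * (x r c)⁻¹) * (x r c * x u a * (x r c)⁻¹) := by group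
    _ = x u a * x (u - r) (c⁻¹ * a) * x u a := by rw [h4, h1]
    _ = x (u - r) (c⁻¹ * a) := by rw [h5.eq, mul_assoc, sq S h2 hu, mul_one]

theorem nr_conj_neg {r u : V} (hr : r ∈ Φ) (hu : u ∈ Φ) (h : B r u = -1) {c : F} (hc : c ≠ 0) (a : F) :
    nr x r c * x u a * (nr x r c)⁻¹ = x (u + r) (c * a) := by
  have hR := S.roots
  have hr' := hR.neg_mem r hr
  have hur : u + r ∈ Φ := hR.add u hu r hr (by rw [hR.symm]; exact h)
  have t := hR.two r hr
  have t' := hR.two u hu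
  have y := hR.symm u r
  have h1 := conj_neg S hr hu h c a
  have e1 : r + u = u + r := add_comm _ _
  rw [e1] at h1
  have h3 := conj_nonneg S hr' hu (by rw [hR.neg_left]; omega) c⁻¹ a
  have h4 := conj_neg S hr' hur (by rw [hR.neg_left, hR.add_right]; omega) c⁻¹ (c * a)
  have e4 : -r + (u + r) = u := by abel
  rw [e4, inv_mul_cancel_left₀ hc] at h4
  have h5 := S.one u hu (u + r) hur (by rw [hR.add_right]; omega) a (c * a)
  have h6 := conj_nonneg S hr hur (by rw [hR.add_right]; omega) c (c * a)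
  unfold nr
  calc x r c * x (-r) c⁻¹ * x r c * x u a * (x r c * x (-r) c⁻¹ * x r c)⁻¹
      = x r c * (x (-r) c⁻¹ * (x r c * x u a * (x r c)⁻¹) * (x (-r) c⁻¹)⁻¹) * (x r c)⁻¹ := by group
    _ = x r c * ((x (-r) c⁻¹ * x (u + r) (c * a) * (x (-r) c⁻¹)⁻¹) *
          (x (-r) c⁻¹ * x u a * (x (-r) c⁻¹)⁻¹)) * (x r c)⁻¹ := by rw [h1]; group
    _ = x r c * (x u a * x (u + r) (c * a) * x u a) * (x r c)⁻¹ := by rw [h4, h3]
    _ = x r c * x (u + r) (c * a) * (x r c)⁻¹ := by rw [h5.eq, mul_assoc _ _ (x u a), sq S h2 hu, mul_one]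
    _ = x (u + r) (c * a) := h6

variable (hne : ∀ r ∈ Φ, ∃ s ∈ Φ, B s r = 1)

include hne

theorem nr_conj_self {r : V} (hr : r ∈ Φ) {c : F} (hc : c ≠ 0) (a : F) :
    nr x r c * x r a * (nr x r c)⁻¹ = x (-r) (c⁻¹ * c⁻¹ * a) := by
  have hR := S.roots
  obtain ⟨s, hs, h⟩ := hne r hr
  have hrs : r - s ∈ Φ := hR.sub_mem hr hs (by rw [hR.symm]; exact h)
  have t := hR.two r hr
  have t' := hR.two s hs
  have y := hR.symm s r
  have e := S.comm s hs (r - s) hrs (by rw [hR.sub_right]; omega) a 1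
  have e1 : s + (r - s) = r := by abel
  rw [e1, mul_one] at e
  have h1 := nr_conj_pos S h2 hr hs (by omega) hc a
  have h3 := nr_conj_pos S h2 hr hrs (by rw [hR.sub_right]; omega) hc 1
  have h4 : nr x r c * x r a * (nr x r c)⁻¹ =
      ⁅nr x r c * x s a * (nr x r c)⁻¹, nr x r c * x (r - s) 1 * (nr x r c)⁻¹⁆ := by
    rw [← e, commutatorElement_def, commutatorElement_def]; group
  have hs' : s - r ∈ Φ := hR.sub_mem hs hr h
  have e5 : r - s - r = -s := by abel
  have h5 := S.comm (s - r) hs' (-s) (hR.neg_mem s hs) (by rw [hR.sub_left, hR.neg_right, hR.neg_right]; omega)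
    (c⁻¹ * a) (c⁻¹ * 1)
  have e6 : s - r + -s = -r := by abel
  rw [h4, h1, h3, e5, h5, e6]
  congr 1
  ring

theorem nr_conj_self_neg {r : V} (hr : r ∈ Φ) {c : F} (hc : c ≠ 0) (a : F) :
    nr x r c * x (-r) a * (nr x r c)⁻¹ = x r (c * c * a) := by
  have hR := S.roots
  obtain ⟨s, hs, h⟩ := hne r hr
  have hrs : r - s ∈ Φ := hR.sub_mem hr hs (by rw [hR.symm]; exact h)
  have hs' : s - r ∈ Φ := hR.sub_mem hs hr h
  have t := hR.two r hr
  have t' := hR.two s hs
  have y := hR.symm s r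
  have e := S.comm (-s) (hR.neg_mem s hs) (s - r) hs' (by rw [hR.neg_left, hR.sub_right]; omega) a 1
  have e1 : -s + (s - r) = -r := by abel
  rw [e1, mul_one] at e
  have h1 := nr_conj_neg S h2 hr (hR.neg_mem s hs) (by rw [hR.neg_right]; omega) hc a
  have h3 := nr_conj_neg S h2 hr hs' (by rw [hR.sub_right]; omega) hc 1
  have h4 : nr x r c * x (-r) a * (nr x r c)⁻¹ =
      ⁅nr x r c * x (-s) a * (nr x r c)⁻¹, nr x r c * x (s - r) 1 * (nr x r c)⁻¹⁆ := by
    rw [← e, commutatorElement_def, commutatorElement_def]; group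
  have e5 : s - r + r = s := by abel
  have e7 : -s + r = r - s := by abel
  have h5 := S.comm (r - s) hrs s hs (by rw [hR.sub_left]; omega) (c * a) (c * 1)
  have e6 : r - s + s = r := by abel
  rw [h4, h1, h3, e5, e7, h5, e6]
  congr 1
  ring

/-- **Weyl elements.** -/
theorem nr_conj {r u : V} (hr : r ∈ Φ) (hu : u ∈ Φ) (a : F) :
    nr x r 1 * x u a * (nr x r 1)⁻¹ = x (u - B r u • r) a := by
  have hR := S.roots
  have b1 := hR.le r hr u hu
  have b2 := hR.ge hr hu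
  rcases (show B r u = -2 ∨ B r u = -1 ∨ B r u = 0 ∨ B r u = 1 ∨ B r u = 2 by omega) with h | h | h | h | h
  · have e : r = -u := hR.eq_neg hr hu h
    subst e
    have := nr_conj_self_neg S h2 hne hr one_ne_zero a
    rw [neg_neg] at this
    rw [this, h]
    congr 1
    · rw [smul_neg, sub_neg_eq_add, neg_smul, two_smul]; abel
    · ring
  · rw [nr_conj_neg S h2 hr hu h one_ne_zero, h]
    congr 1
    · rw [neg_smul, one_smul]; abel
    · ring
  · rw [nr_conj_zero S hr hu h, h, zero_smul, sub_zero]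
  · rw [nr_conj_pos S h2 hr hu h one_ne_zero, h]
    congr 1
    · rw [one_smul]
    · rw [inv_one, one_mul]
  · have e := hR.eq r hr u hu h
    subst e
    rw [nr_conj_self S h2 hne hr one_ne_zero, h]
    congr 1
    · rw [two_smul]; abel
    · rw [inv_one, one_mul, one_mul]

omit hne in
theorem hr_conj_of {r u : V} {c a a' a'' : F} {u' : V} (h1 : nr x r 1 * x u a * (nr x r 1)⁻¹ = x u' a')
    (h3 : nr x r c * x u' a' * (nr x r c)⁻¹ = x u a'') : hr x r c * x u a * (hr x r c)⁻¹ = x u a'' := by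
  unfold hr
  calc nr x r c * nr x r 1 * x u a * (nr x r c * nr x r 1)⁻¹
      = nr x r c * (nr x r 1 * x u a * (nr x r 1)⁻¹) * (nr x r c)⁻¹ := by group
    _ = x u a'' := by rw [h1, h3]

/-- **Torus elements.** -/
theorem hr_conj {r u : V} (hr' : r ∈ Φ) (hu : u ∈ Φ) {c : F} (hc : c ≠ 0) (a : F) :
    hr x r c * x u a * (hr x r c)⁻¹ = x u (c ^ B r u * a) := by
  have hR := S.roots
  have b1 := hR.le r hr' u hu
  have b2 := hR.ge hr' hu
  have t := hR.two r hr'
  rcases (show B r u = -2 ∨ B r u = -1 ∨ B r u = 0 ∨ B r u = 1 ∨ B r u = 2 by omega) with h | h | h | h | h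
  · have e : u = -r := by rw [hR.eq_neg hr' hu h, neg_neg]
    subst e
    rw [h]
    refine hr_conj_of S h2 (nr_conj_self_neg S h2 hne hr' one_ne_zero a) ?_
    rw [nr_conj_self S h2 hne hr' hc]
    congr 1
    rw [zpow_neg, show ((2 : ℤ)) = ((2 : ℕ) : ℤ) by rfl, zpow_natCast]
    field_simp
  · rw [h]
    refine hr_conj_of S h2 (nr_conj_neg S h2 hr' hu h one_ne_zero a) ?_
    have hur : u + r ∈ Φ := hR.add u hu r hr' (by rw [hR.symm]; exact h)
    rw [nr_conj_pos S h2 hr' hur (by rw [hR.add_right]; omega) hc]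
    congr 1
    · abel
    · rw [zpow_neg_one, one_mul]
  · rw [h]
    refine hr_conj_of S h2 (nr_conj_zero S hr' hu h 1 a) ?_
    rw [nr_conj_zero S hr' hu h, zpow_zero, one_mul]
  · rw [h]
    refine hr_conj_of S h2 (nr_conj_pos S h2 hr' hu h one_ne_zero a) ?_
    have hur : u - r ∈ Φ := hR.sub_mem hu hr' (by rw [hR.symm]; exact h)
    rw [nr_conj_neg S h2 hr' hur (by rw [hR.sub_right]; omega) hc]
    congr 1
    · abel
    · rw [zpow_one, inv_one, one_mul]
  · have e := hR.eq r hr' u hu h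
    subst e
    rw [h]
    refine hr_conj_of S h2 (nr_conj_self S h2 hne hr' one_ne_zero a) ?_
    rw [nr_conj_self_neg S h2 hne hr' hc]
    congr 1
    rw [show ((2 : ℤ)) = ((2 : ℕ) : ℤ) by rfl, zpow_natCast]
    ring

/-- **Orthogonal pairs are good if `q ≥ 4`.** -/
theorem good_of_two {c : F} (hc : c ≠ 0) (hc1 : c ≠ 1) {r s : V} (hr' : r ∈ Φ) (hs : s ∈ Φ) (h0 : B r s = 0) :
    Good B Φ x r s := by
  refine Or.inr (Or.inr ⟨hr x r c, c ^ 2, ?_, ?_, ?_⟩)
  · intro h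
    have h3 : (c - 1) * (c - 1) = 0 := by linear_combination h + (1 - c) * h2
    exact hc1 (sub_eq_zero.1 (mul_self_eq_zero.1 h3))
  · intro a
    rw [hr_conj S h2 hne hr' hr' hc, S.roots.two r hr', zpow_ofNat]
  · intro b
    rw [hr_conj S h2 hne hr' hs hc, h0, zpow_zero, one_mul]

end

/-! ### Root group data -/

section RGD

open CoxeterSystem Cfsg.Agent.ChevalleyStructure.CoxeterGeom Cfsg.Agent.Tits.Roots Cfsg.Agent.Tits.Core
  Cfsg.Agent.Tits.RootComb Cfsg.Agent.Nodes.Comb Cfsg.Agent.Nodes.Reps Cfsg.Agent.Nodes.BNOf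
  Cfsg.Agent.OddHalf.SL.Index Cfsg.Agent.OddHalf.SL Cfsg.Agent.KFacts Cfsg.Agent.KFacts.Mult.LacedRGD
  Cfsg.Agent.KFacts.MulDef Cfsg.Agent.Nodes.Bruhat Cfsg.Agent.Nodes.Coroot

variable {I W Y K : Type*} [Fintype I] [DecidableEq I] [Group W] [Group Y] [Field K] {M : CoxeterMatrix I}
  {cs : CoxeterSystem M W} {A : I → I → ℤ} {h : IsCartan M A} {e : (I → ℤ) → K → Y}
  {T : Subgroup Y} {n : I → Y} {X : (I → ℤ) → Subgroup Y}

/-- **Simply laced root group data with coordinates, rank at least 3, `q ≥ 4`: no perfect double cover.** -/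
theorem noDouble_of_two [Finite W] [Finite Y] (R : RGD cs h 2 T n X) (S : Sys (Bf A) {x | IsRoot cs h x} e)
    (h2 : (2 : K) = 0) (inj : ∀ x, IsRoot cs h x → ∀ t, e x t = 1 → t = 0)
    (hX : ∀ x, IsRoot cs h x → ∀ g, g ∈ X x ↔ ∃ t, g = e x t)
    (h4 : ∀ i j, M i j ≠ 4) (h6 : ∀ i j, M i j ≠ 6)
    (hirr : ∀ J : Set I, J.Nonempty → Jᶜ.Nonempty → ∃ i ∈ J, ∃ j ∈ Jᶜ, M i j ≠ 2) (h3 : 3 ≤ Fintype.card I)
    (hG : Cfsg.Agent.Nodes.RGDLib.G1 cs h X = ⊤) {c : K} (hc : c ≠ 0) (hc1 : c ≠ 1) : NoDouble Y :=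
  noDouble_of_rgd R S h2 inj hX h4 h6 hirr h3 hG fun _ hr _ hs h0 =>
    good_of_two S h2 (fun _ hr => exists_one h4 h6 hirr h3 hr) hc hc1 hr hs h0

/-- `ChevTwo.Data` from a simply laced system. -/
theorem data_of_sys [Finite W] (h4 : ∀ i j, M i j ≠ 4) (h6 : ∀ i j, M i j ≠ 6)
    (S : Sys (Bf A) {x | IsRoot cs h x} e) (h2 : (2 : K) = 0) (inj : ∀ x, IsRoot cs h x → ∀ t, e x t = 1 → t = 0)
    (hne : ∀ r ∈ {x | IsRoot cs h x}, ∃ s ∈ {x | IsRoot cs h x}, Bf A s r = 1) : ChevTwo.Data cs h e where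
  two t := by rw [← two_mul, h2, zero_mul]
  add x hx t u := S.add x hx t u
  inj := inj
  refl i x hx t := by
    have h1 := nr_conj S h2 hne (isRoot_sr cs h i) hx t
    rw [S.roots.symm, bf_sr] at h1
    rw [rep_simple_eq]
    exact h1
  tor i x hx c hc t := by
    have h1 := hr_conj S h2 hne (isRoot_sr cs h i) hx hc t
    rw [S.roots.symm, bf_sr] at h1
    exact h1
  lace x y hx hy h1 h3 := by
    rw [← bf_eq_cpr h4 h6 x hy]
    exact ⟨S.roots.le x hx y hy, S.roots.ge hx hy⟩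
  comm0 x y hx hy h1 h3 h5 t u := by
    rw [← bf_eq_cpr h4 h6 x hy] at h5
    exact commutatorElement_eq_one_iff_commute.2 (S.one x hx y hy h5 t u)
  comm1 x y hx hy h1 h3 t u := S.comm x hx y hy (by rw [bf_eq_cpr h4 h6 x hy]; exact h1) t u
  comm2 x y hx hy h1 h3 t u := by
    exfalso
    rw [← bf_eq_cpr h4 h6 x hy] at h1
    rw [← bf_eq_cpr h4 h6 y hx, S.roots.symm] at h3
    omega

end RGD

end Cfsg.Agent.KFacts.Mult.LacedTor

end

-- merged: Cfsg.Agent.KFacts.Mult.LacedDRow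
section

/-!
# `PΩ⁺_{2m}(q)`, `q` even: `ChevTwo.Data`, no perfect double covers (helper827)

* `data_OPlus` : `ChevTwo.Data` of the root elements of `PΩ⁺` of helper507's root group datum;
* `noDouble_OPlus_two` : `m ≥ 3`, `q ≥ 4`;
* `oplus` : the literal row `LieND.oplus`.
-/

set_option autoImplicit false
set_option linter.unusedSectionVars false

namespace Cfsg.Agent.KFacts.Mult.LacedDRow

open Cfsg
open CoxeterSystem Cfsg.Agent.ChevalleyStructure.CoxeterGeom Cfsg.Agent.Tits.Roots Cfsg.Agent.Tits.Core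
  Cfsg.Agent.Nodes.Reps Cfsg.Agent.Nodes.BNOf Cfsg.Agent.Nodes.RGDLib Cfsg.Agent.OddHalf.SL
  Cfsg.Agent.OddHalf.SL.Index Cfsg.Agent.KFacts.Mult.Calc Cfsg.Agent.KFacts.Mult.Laced
  Cfsg.Agent.KFacts.Mult.LacedEnd Cfsg.Agent.KFacts.MulDef Cfsg.Agent.KFacts.Mult.LacedRGD
  Cfsg.Agent.KFacts.SLRow.TypeD Cfsg.Agent.KFacts.SLRow.OPlus Cfsg.Agent.KFacts.Mult.LacedTor
open Cfsg.Agent.Nodes.TypeD
open Cfsg.Agent.LieClassical Cfsg.Agent.LieClassical.OrthCore Cfsg.Agent.LieClassical.OrthTrans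
open Cfsg.Agent.LieClassical.OrthSimple Cfsg.Agent.LieClassical.OrthFinite
open Cfsg.Agent.LieClassical.OrthForms Cfsg.Agent.Nodes.WittInst Cfsg.Agent.TitsThree.KSideO

variable {n : ℕ} {F : Type*} [Field F]

theorem h4 (i j : Fin (n + 2)) : M n i j ≠ 4 := (M_ne i j).1

theorem h6 (i j : Fin (n + 2)) : M n i j ≠ 6 := (M_ne i j).2

/-- the coordinates of `PΩ⁺` -/
theorem data_OPlus (hn : 1 ≤ n) (h2 : (2 : F) = 0) (hG : Good (plusForm (n + 2) F)) {C : Type*} [Group C] [Finite C]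
    (cs : CoxeterSystem (M n) C) :
    ChevTwo.Data cs (isCartan n) (fun x t => toPOmega hG (eE (wplus (n + 2) F) x t)) :=
  data_of_sys h4 h6 (sysK cs h2 (adm_plus (F := F) (n + 2)) (toPOmega hG)) h2
    (fun x hx t ht => inj_K cs h2 (adm_plus _) _ (ker_toPOmega hG) hn hx ht)
    (fun r hr => exists_one h4 h6 (conn_D hn) (by rw [Fintype.card_fin]; omega) hr)

/-- `q ≥ 4` -/
theorem noDouble_OPlus_two [Finite F] {m : ℕ} (hm : 3 ≤ m) (h2 : (2 : F) = 0) {c : F} (hc : c ≠ 0) (hc1 : c ≠ 1) :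
    NoDouble (Cfsg.POmega F (Cfsg.quadFormPlus m F)) := by
  obtain ⟨n, rfl⟩ : ∃ n, m = n + 2 := ⟨m - 2, by omega⟩
  have : Fact (Nat.Prime 2) := ⟨Nat.prime_two⟩
  have : CharP F 2 := charP_two h2
  rw [← coe_plusForm]
  have hG : Good (plusForm (n + 2) F) := good_plus (by omega) F
  let cs := (M n).toCoxeterSystem
  have hW : Finite (M n).Group := finite_W cs
  have R := rgdD_model (wplus (n + 2) F) hG (amb_plus _) (adm_plus _) (p := 2) cs
  have hgen := G1D_eq_top (wplus (n + 2) F) (toPOmega hG) (toPOmega_surjective hG) (adm_plus _) cs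
  have S := sysK cs h2 (adm_plus (F := F) (n + 2)) (toPOmega hG)
  have hfin : Finite (Cfsg.POmega F ⇑(plusForm (n + 2) F)) := by
    have : Finite ↥(E (plusForm (n + 2) F)) := by
      have : Finite (((Fin (n + 2) ⊕ Fin (n + 2)) → F) ≃ₗ[F] ((Fin (n + 2) ⊕ Fin (n + 2)) → F)) :=
        Finite.of_injective (fun g : (((Fin (n + 2) ⊕ Fin (n + 2)) → F) ≃ₗ[F] ((Fin (n + 2) ⊕ Fin (n + 2)) → F)) =>
          (g : (((Fin (n + 2) ⊕ Fin (n + 2)) → F) → ((Fin (n + 2) ⊕ Fin (n + 2)) → F)))) DFunLike.coe_injective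
      infer_instance
    exact Finite.of_surjective _ (toPOmega_surjective hG)
  exact noDouble_of_two R S h2 (fun x hx t ht => inj_K cs h2 (adm_plus _) _ (ker_toPOmega hG) (by omega) hx ht)
    (fun x hx g => mem_XD cs h2 (adm_plus _) _ hx g) h4 h6 (conn_D (by omega)) (by rw [Fintype.card_fin]; omega) hgen
    hc hc1

/-- The literal row `LieND.oplus` of D9/D10. -/
theorem oplus : ∀ (F : Type) [Field F] [Fintype F] (a m : ℕ), 1 ≤ a → Fintype.card F = 2 ^ a → 4 ≤ m →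
    (m = 4 → 2 ≤ a) → NoDouble (POmega F (quadFormPlus m F)) := by
  intro F _ _ a m ha hF hm h4a
  have h2 : (2 : F) = 0 := by
    have h := FiniteField.cast_card_eq_zero F
    rw [hF, Nat.cast_pow] at h
    exact_mod_cast (pow_eq_zero_iff (by omega)).1 h
  by_cases hm5 : 5 ≤ m
  · exact LacedD.noDouble_OPlus hm5 h2
  · classical
    have ha2 := h4a (by omega)
    obtain ⟨c, hc⟩ : ∃ c : F, c ∉ ({0, 1} : Finset F) := by
      by_contra hcon
      push Not at hcon
      have h3 := Finset.card_le_card (fun e _ => hcon e : (Finset.univ : Finset F) ⊆ {0, 1})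
      rw [Finset.card_univ, hF] at h3
      have h5 : ({0, 1} : Finset F).card ≤ 2 := Finset.card_le_two
      have h6 : 2 ^ 2 ≤ 2 ^ a := Nat.pow_le_pow_right (by norm_num) ha2
      omega
    simp only [Finset.mem_insert, Finset.mem_singleton, not_or] at hc
    exact noDouble_OPlus_two (by omega) h2 hc.1 hc.2

end Cfsg.Agent.KFacts.Mult.LacedDRow

end
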