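import Cfsg.Agent.KFacts.Mult.WittW
import Cfsg.Agent.KFacts.Mult.Calc
import Cfsg.Agent.KFacts.Mult.Num
import Cfsg.Agent.TitsThree.KSideO

-- merged: Cfsg.Agent.KFacts.Mult.OMinusAb
section

/-!
# Commutative preimages of the root groups of an orthogonal Witt frame of characteristic 2, at least three indices

`Fr` a Witt frame with `Adm.tr = 1`, at least three indices, `I` a group containing all root elements.
If for every `x`, `y` with different index some `k` centralises all `X x (-y) t` and acts on `X x y` by a scalar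
`≠ 1` (`TorHyp`), then the root groups of type II have commutative preimages in every double cover (`abPre_Z`):
Hall-Witt for `[Z_x(p), [X_{x,-y}(1), Z_y(q)]]`.

`OC H` : `σ = id`, `ε = 1`. `torHyp` : `TorHyp` from a scalar `≠ 0, 1`.
-/

set_option autoImplicit false
set_option linter.unusedSectionVars false

namespace Cfsg.Agent.KFacts.Mult.OMinusAb

open Cfsg.Agent.KFacts.MulDef Cfsg.Agent.KFacts.Mult.RGDW Cfsg.Agent.KFacts.Mult.Calc
open Cfsg.Agent.Nodes.WittRoot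
open Cfsg.Agent.TitsThree.Siegel Cfsg.Agent.TitsThree.WittFrame Cfsg.Agent.TitsThree.WittWeyl
open scoped commutatorElement

variable {F : Type*} [Field F] {V : Type*} [AddCommGroup V] [Module F V] {H : HForm F V} {m : ℕ}
  (Fr : Frame H (Fin m)) (I : Subgroup (V ≃ₗ[F] V))

/-- `I` contains the root elements. -/
structure Con : Prop where
  X : ∀ x y t, Fr.X x y t ∈ I
  Z : ∀ x p, Fr.Z x p ∈ I

variable {Fr I} (C : Con Fr I)

/-- root elements of `I` -/
def Con.x (C : Con Fr I) (x y : Fin m × Bool) (t : F) : I := ⟨Fr.X x y t, C.X x y t⟩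

/-- root elements of `I` -/
def Con.z (C : Con Fr I) (x : Fin m × Bool) (p : Fr.Adm) : I := ⟨Fr.Z x p, C.Z x p⟩

theorem X_add (x y : Fin m × Bool) (s t : F) : C.x x y (s + t) = C.x x y s * C.x x y t :=
  Subtype.ext (Fr.X_add x y s t)

theorem comm_XX {x y z : Fin m × Bool} (hxy : x.1 ≠ y.1) (hyz : y.1 ≠ z.1) (hxz : x.1 ≠ z.1) (s t : F) :
    ⁅C.x x y s, C.x (neg y) z t⁆ = C.x x z (s * t) := by
  rw [commutatorElement_def, mul_inv_eq_iff_eq_mul]
  exact Subtype.ext (Fr.conj_X_X hxy hyz hxz s t)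

theorem comm_XZ {x y : Fin m × Bool} (hxy : x.1 ≠ y.1) (t : F) (p : Fr.Adm) :
    ⁅C.x x (neg y) t, C.z y p⁆ =
      C.z x (Frame.Adm.smul (H.σ t) p) * C.x x y (-(H.ε⁻¹ * Fr.η y * H.σ p.c * t)) := by
  rw [commutatorElement_def, mul_inv_eq_iff_eq_mul]
  exact Subtype.ext (Fr.conj_X_Z hxy t p)

theorem comm_ZZ {x y : Fin m × Bool} (hxy : x.1 ≠ y.1) (p q : Fr.Adm) :
    ⁅C.z x p, C.z y q⁆ = C.x x y (-(Fr.η y * H.σ (H.h p.w q.w))) := by
  have e := Fr.Z_mul_Z hxy p q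
  have e' : Fr.Z x p * Fr.Z y q * (Fr.Z x p)⁻¹ = Fr.X x y (-(Fr.η y * H.σ (H.h p.w q.w))) * Fr.Z y q := by
    rw [e]; group
  rw [commutatorElement_def, mul_inv_eq_iff_eq_mul]
  exact Subtype.ext e'

theorem commute_same (htr : ∀ a : F, (Frame.Adm.tr a : Fr.Adm) = 1) {x y : Fin m × Bool} (hxy : x.1 ≠ y.1)
    (s t : F) : Commute (C.x x y s) (C.x x (neg y) t) := by
  have e := Fr.X_mul_X_same hxy s t
  rw [htr, Fr.Z_one, one_mul] at e
  exact Subtype.ext e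

theorem commute_XX {x y z u : Fin m × Bool} (h1 : z ≠ neg x) (h2 : z ≠ neg y) (h3 : u ≠ neg x)
    (h4 : u ≠ neg y) (s t : F) : Commute (C.x x y s) (C.x z u t) :=
  Subtype.ext (Fr.commute_XX h1 h2 h3 h4 s t).eq

theorem commute_ZX {x y z : Fin m × Bool} (h1 : y ≠ neg x) (h2 : z ≠ neg x) (p : Fr.Adm) (t : F) :
    Commute (C.z x p) (C.x y z t) :=
  Subtype.ext (Fr.commute_ZX h1 h2 p t).eq

/-- at least three indices -/
def Three (m : ℕ) : Prop := ∀ i j : Fin m, ∃ k, k ≠ i ∧ k ≠ j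

theorem three_of_le (hm : 3 ≤ m) : Three m := by
  intro i j
  by_contra hcon
  push Not at hcon
  have h1 : ∀ k : Fin m, k = i ∨ k = j := fun k => by
    by_cases hk : k = i
    · exact Or.inl hk
    · exact Or.inr (hcon k hk)
  have h2 : (Finset.univ : Finset (Fin m)) ⊆ {i, j} := fun k _ => by simpa using h1 k
  have h3 := Finset.card_le_card h2
  have h4 : ({i, j} : Finset (Fin m)).card ≤ 2 := Finset.card_le_two
  rw [Finset.card_univ, Fintype.card_fin] at h3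
  omega

theorem ne_neg_of {x y : Fin m × Bool} (h : x.1 ≠ y.1) : x ≠ neg y := fun e => h (by rw [e]; rfl)

variable {L : Type*} [Group L] {π : L →* I} (h : CE π)

/-- torus elements separating `X x y` from `X x (-y)` -/
def TorHyp (C : Con Fr I) : Prop := ∀ x y : Fin m × Bool, x.1 ≠ y.1 → ∃ (k : I) (μ : F), μ ≠ 1 ∧
  (∀ s, k * C.x x y s * k⁻¹ = C.x x y (μ * s)) ∧ ∀ t, Commute (C.x x (neg y) t) k

include h

theorem lc_ZX (h3 : Three m) {x y : Fin m × Bool} (hxy : x.1 ≠ y.1) (p : Fr.Adm) (s : F) :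
    h.lc (C.z x p) (C.x x y s) = 1 := by
  obtain ⟨k, hkx, hky⟩ := h3 x.1 y.1
  have e := comm_XX C (x := x) (y := (k, true)) (z := y) hkx.symm hky hxy s 1
  rw [mul_one] at e
  rw [← e]
  apply h.lc_comm_eq_one
  · exact commute_ZX C (ne_neg_self x) (ne_neg_of hkx) p s
  · exact commute_ZX C (ne_neg_of (x := neg (k, true)) hkx) (ne_neg_of hxy.symm) p 1

theorem lc_XX (h3 : Three m) {x y : Fin m × Bool} (hxy : x.1 ≠ y.1) (s t : F) :
    h.lc (C.x x y s) (C.x x y t) = 1 := by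
  obtain ⟨k, hkx, hky⟩ := h3 x.1 y.1
  have e := comm_XX C (x := x) (y := (k, true)) (z := y) hkx.symm hky hxy t 1
  rw [mul_one] at e
  rw [← e]
  apply h.lc_comm_eq_one
  · exact commute_XX C (ne_neg_self x) (ne_neg_of hxy) (ne_neg_of hkx) (ne_neg_of hky) s t
  · exact commute_XX C (ne_neg_of (x := neg (k, true)) hkx) (ne_neg_of (x := neg (k, true)) hky)
      (ne_neg_of hxy.symm) (ne_neg_self y) s 1

theorem lc_orth (htr : ∀ a : F, (Frame.Adm.tr a : Fr.Adm) = 1) (ht : TorHyp C) {x y : Fin m × Bool}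
    (hxy : x.1 ≠ y.1) (s t : F) : h.lc (C.x x (neg y) t) (C.x x y s) = 1 := by
  obtain ⟨k, μ, hμ, h1, h2⟩ := ht x y hxy
  set r : F := (μ - 1)⁻¹ * s with hr
  have hμ' : μ - 1 ≠ 0 := sub_ne_zero.2 hμ
  have e : ⁅k, C.x x y r⁆ = C.x x y s := by
    rw [commutatorElement_def, h1, mul_inv_eq_iff_eq_mul, ← X_add]
    congr 1
    rw [hr]; field_simp; ring
  rw [← e]
  exact h.lc_comm_eq_one (h2 t) (commute_same C htr hxy r t).symm

theorem lc_ZZ (h3 : Three m) (htr : ∀ a : F, (Frame.Adm.tr a : Fr.Adm) = 1) (ht : TorHyp C)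
    (x : Fin m × Bool) (p q : Fr.Adm) : h.lc (C.z x p) (C.z x q) = 1 := by
  obtain ⟨k, hkx, -⟩ := h3 x.1 x.1
  set y : Fin m × Bool := (k, true) with hy
  have hxy : x.1 ≠ y.1 := hkx.symm
  have hc : Commute (C.z x p) (C.x x (neg y) 1) := commute_ZX C (ne_neg_self x) (ne_neg_of (x := neg y) hkx) p 1
  have e1 := comm_XZ C hxy 1 q
  rw [map_one, Frame.Adm.one_smul, mul_one] at e1
  have e2 := comm_ZZ C hxy p q
  have e3 := h.hw (b := C.z y q) hc
  rw [e1, e2] at e3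
  have hcX : ∀ s, Commute (C.z x p) (C.x x y s) := fun s => commute_ZX C (ne_neg_self x) (ne_neg_of hkx) p s
  have hcZ : ∀ s, Commute (C.x x y s) (C.x x y (-(H.ε⁻¹ * Fr.η y * H.σ q.c))) := fun s =>
    commute_XX C (ne_neg_self x) (ne_neg_of hxy) (ne_neg_of hkx) (ne_neg_self y) s _
  have e4 : ∀ s, h.lc (C.x x y s) (C.z x q) = 1 := fun s => by
    rw [h.lc_swap, lc_ZX C h h3 hxy q s, inv_one]
  rw [h.lc_mul_right (hcX _), lc_ZX C h h3 hxy, mul_one, lc_orth C h htr ht hxy, one_mul,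
    h.lc_mul_right (hcZ _), e4, lc_XX C h h3 hxy, mul_one] at e3
  exact e3

omit h

/-- `CE` from `Dbl` -/
theorem ce_of_dbl {c : L} (hd : Dbl π c) : CE π :=
  CE.of_ker hd.surj hd.cen fun x hx => (hd.ker x).1 hx

/-- The root groups of type II. -/
theorem abPre_Z (h3 : Three m) (htr : ∀ a : F, (Frame.Adm.tr a : Fr.Adm) = 1) (ht : TorHyp C) (x : Fin m × Bool) :
    AbPre ((ZG Fr x).subgroupOf I) := by
  intro L _ _ π c hd a b ha hb
  have h := ce_of_dbl hd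
  obtain ⟨p, hp⟩ := ha
  obtain ⟨q, hq⟩ := hb
  have hp' : π a = C.z x p := Subtype.ext hp
  have hq' : π b = C.z x q := Subtype.ext hq
  refine (h.commute_of_lc ?_).eq
  rw [hp', hq']
  exact lc_ZZ C h h3 htr ht x p q

/-! ### Torus elements -/

/-- orthogonal type -/
structure OC (H : HForm F V) : Prop where
  σ : ∀ a, H.σ a = a
  ε : H.ε = 1

section Tor

variable (Fr) (ho : OC H) [CharP F 2]

include ho in
omit [CharP F 2] in
theorem η_eq (x : Fin m × Bool) : Fr.η x = 1 := by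
  rw [Frame.η, ho.ε]; simp

omit [CharP F 2] in
theorem inv_apply_of {g : V ≃ₗ[F] V} {u v : V} (h : g u = v) : g⁻¹ v = u := by
  rw [← h]; exact g.symm_apply_apply u

theorem neg_vec {F : Type*} [Field F] {V : Type*} [AddCommGroup V] [Module F V] [CharP F 2] (v : V) : -v = v := by
  have h2 : (2 : F) = 0 := CharTwo.two_eq_zero
  have : v + v = 0 := by rw [← two_smul F v, h2, zero_smul]
  exact neg_eq_of_add_eq_zero_left this

omit [CharP F 2] in
theorem tX_self {x y : Fin m × Bool} (h : x.1 ≠ y.1) {t : F} (ht : t ≠ 0) :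
    (nX Fr x y t * (nX Fr x y 1)⁻¹) (Fr.b x) = t • Fr.b x := by
  have e := nX_apply_neg Fr h (t := (1 : F)) one_ne_zero
  rw [one_smul] at e
  rw [mul_apply', inv_apply_of e, nX_apply_neg Fr h ht]

include ho

theorem tX_other {x y : Fin m × Bool} (h : x.1 ≠ y.1) {t : F} (ht : t ≠ 0) :
    (nX Fr x y t * (nX Fr x y 1)⁻¹) (Fr.b y) = t • Fr.b y := by
  have e := nX_apply_neg' Fr h (t := (1 : F)) one_ne_zero
  have e' := nX_apply_neg' Fr h ht
  rw [neg_vec (F := F), η_eq Fr ho, η_eq Fr ho, ho.σ, ho.ε] at e e'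
  simp only [inv_one, one_mul, one_smul] at e e'
  rw [mul_apply', inv_apply_of e, e']

theorem tX_neg_other {x y : Fin m × Bool} (h : x.1 ≠ y.1) {t : F} (ht : t ≠ 0) :
    (nX Fr x y t * (nX Fr x y 1)⁻¹) (Fr.b (neg y)) = t⁻¹ • Fr.b (neg y) := by
  have e := nX_apply_self Fr h (t := (1 : F)) one_ne_zero
  have e' := nX_apply_self Fr h ht
  rw [neg_vec (F := F)] at e e'
  simp only [inv_one, one_smul] at e
  rw [mul_apply', inv_apply_of e, e']

/-- The torus elements separate `X x y` and `X x (-y)`. -/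
theorem torHyp (C : Con Fr I) (hq : ∃ t : F, t ≠ 0 ∧ t ≠ 1) : TorHyp C := by
  obtain ⟨t, ht, ht1⟩ := hq
  intro x y hxy
  have hn : ∀ t, nX Fr x y t ∈ I := fun t => mul_mem (mul_mem (C.X _ _ _) (C.X _ _ _)) (C.X _ _ _)
  have hmem : nX Fr x y t * (nX Fr x y 1)⁻¹ ∈ I := mul_mem (hn t) (inv_mem (hn 1))
  have hiso : H.IsIso (nX Fr x y t * (nX Fr x y 1)⁻¹) :=
    HForm.IsIso.mul H (isIso_nX Fr x y t) (HForm.IsIso.inv H (isIso_nX Fr x y 1))
  have hxy' : x.1 ≠ (neg y).1 := hxy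
  refine ⟨⟨nX Fr x y t * (nX Fr x y 1)⁻¹, hmem⟩, t * t, ?_, ?_, ?_⟩
  · intro h
    apply ht1
    have h2 : (t - 1) ^ 2 = 0 := by rw [sub_pow_char, pow_two, h]; simp
    exact sub_eq_zero.1 (pow_eq_zero_iff (two_ne_zero) |>.1 h2)
  · intro s
    have e := conj_X Fr hiso hxy hxy (tX_self Fr hxy ht) (tX_other Fr ho hxy ht) s
    rw [ho.σ, η_eq Fr ho, inv_one, mul_one, mul_one] at e
    exact Subtype.ext e
  · intro s
    have e := conj_X Fr hiso (x := x) (y := neg y) hxy' hxy' (tX_self Fr hxy ht) (tX_neg_other Fr ho hxy ht) s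
    rw [ho.σ, η_eq Fr ho, inv_one, mul_one, mul_one, mul_inv_cancel₀ ht, one_mul] at e
    exact Subtype.ext (mul_inv_eq_iff_eq_mul.1 e).symm

end Tor

end Cfsg.Agent.KFacts.Mult.OMinusAb

end

-- merged: Cfsg.Agent.KFacts.Mult.OMinusTor
section

/-!
# The torus of an orthogonal Witt frame of minus type, characteristic 2

`Th Fr θ β`: `θ` preserves `V0`, the reflections satisfy `r θ = (β + θ) r` on `V0`, and `u`, `θ u` span `V0` for
every `u ≠ 0`. `T0`: the good isometries fixing the lines of the frame and commuting with `θ` on `V0`;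
`torT : TorT Fr p0 (T0 ..)`.
-/

set_option autoImplicit false
set_option linter.unusedSectionVars false

namespace Cfsg.Agent.KFacts.Mult.OMinusTor

open Cfsg.Agent.ChevalleyStructure.CoxeterGeom Cfsg.Agent.Tits.Roots Cfsg.Agent.Nodes.TypeC
open Cfsg.Agent.Nodes.Comb Cfsg.Agent.Nodes.Reps Cfsg.Agent.Nodes.WittRoot Cfsg.Agent.Nodes.BNOf
  Cfsg.Agent.Nodes.WittRGD
open Cfsg.Agent.TitsThree.Siegel Cfsg.Agent.TitsThree.WittFrame Cfsg.Agent.TitsThree.WittWeyl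
open Cfsg.Agent.KFacts.Mult.WittT Cfsg.Agent.KFacts.Mult.WittW Cfsg.Agent.KFacts.Mult.OMinusAb
open scoped commutatorElement

variable {F : Type*} [Field F] {V : Type*} [AddCommGroup V] [Module F V] {H : HForm F V} {n : ℕ}
  (Fr : Frame H (Fin n))

/-- The data of `θ`. -/
structure Th (θ : V →ₗ[F] V) (β : F) : Prop where
  V0 : ∀ v ∈ Fr.V0, θ v ∈ Fr.V0
  refl : ∀ p : Fr.Adm, p.c ≠ 0 → ∀ v ∈ Fr.V0, θ v + (H.ε⁻¹ * p.c⁻¹ * H.h (θ v) p.w) • p.w =
    β • (v + (H.ε⁻¹ * p.c⁻¹ * H.h v p.w) • p.w) + θ (v + (H.ε⁻¹ * p.c⁻¹ * H.h v p.w) • p.w)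
  span : ∀ u ∈ Fr.V0, u ≠ 0 → ∀ w ∈ Fr.V0, ∃ a b : F, w = a • u + b • θ u

/-- `g` preserves `V0`. -/
def PV (g : V ≃ₗ[F] V) : Prop := ∀ v ∈ Fr.V0, g v ∈ Fr.V0

/-- `g` commutes with `θ` on `V0`. -/
def Cm (θ : V →ₗ[F] V) (g : V ≃ₗ[F] V) : Prop := ∀ v ∈ Fr.V0, g (θ v) = θ (g v)

/-- `g θ = (β + θ) g` on `V0`. -/
def An (θ : V →ₗ[F] V) (β : F) (g : V ≃ₗ[F] V) : Prop := ∀ v ∈ Fr.V0, g (θ v) = β • g v + θ (g v)

variable {Fr} {θ : V →ₗ[F] V} {β : F}

theorem PV.mul {g k : V ≃ₗ[F] V} (hg : PV Fr g) (hk : PV Fr k) : PV Fr (g * k) := fun v hv => hg _ (hk v hv)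

theorem Cm.mul {g k : V ≃ₗ[F] V} (hg : Cm Fr θ g) (hk : Cm Fr θ k) (hk' : PV Fr k) : Cm Fr θ (g * k) := by
  intro v hv
  rw [mul_apply', hk v hv, hg _ (hk' v hv)]; rfl

theorem An.mul_cm {g k : V ≃ₗ[F] V} (hg : An Fr θ β g) (hk : Cm Fr θ k) (hk' : PV Fr k) : An Fr θ β (g * k) := by
  intro v hv
  rw [mul_apply', hk v hv, hg _ (hk' v hv)]; rfl

theorem Cm.mul_an {g k : V ≃ₗ[F] V} (hg : Cm Fr θ g) (hk : An Fr θ β k) (hk' : PV Fr k) : An Fr θ β (g * k) := by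
  intro v hv
  rw [mul_apply', hk v hv, map_add, map_smul, hg _ (hk' v hv)]; rfl

theorem An.mul [CharP F 2] {g k : V ≃ₗ[F] V} (hg : An Fr θ β g) (hk : An Fr θ β k) (hk' : PV Fr k) :
    Cm Fr θ (g * k) := by
  intro v hv
  have h2 : (2 : F) = 0 := CharTwo.two_eq_zero
  rw [mul_apply', hk v hv, map_add, map_smul, hg _ (hk' v hv), ← add_assoc, ← add_smul]
  have : β + β = 0 := by rw [← two_mul, h2, zero_mul]
  rw [this, zero_smul, zero_add]; rfl

theorem Cm.inv {g : V ≃ₗ[F] V} (hg : Cm Fr θ g) (hg' : PV Fr g⁻¹) : Cm Fr θ g⁻¹ := by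
  intro v hv
  have h1 := hg _ (hg' v hv)
  have h3 : ∀ v, g (g⁻¹ v) = v := fun v => g.apply_symm_apply v
  have h4 : ∀ v, g⁻¹ (g v) = v := fun v => g.symm_apply_apply v
  rw [h3] at h1
  rw [← h1, h4]

theorem An.inv [CharP F 2] {g : V ≃ₗ[F] V} (hg : An Fr θ β g) (hg' : PV Fr g⁻¹) : An Fr θ β g⁻¹ := by
  intro v hv
  have h1 := hg _ (hg' v hv)
  have h3 : ∀ v, g (g⁻¹ v) = v := fun v => g.apply_symm_apply v
  have h4 : ∀ v, g⁻¹ (g v) = v := fun v => g.symm_apply_apply v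
  rw [h3] at h1
  have h5 : θ v = g (θ (g⁻¹ v)) + β • v := by
    rw [h1, add_comm (β • v), add_assoc, ← add_smul]
    have h2 : (2 : F) = 0 := CharTwo.two_eq_zero
    have : β + β = 0 := by rw [← two_mul, h2, zero_mul]
    rw [this, zero_smul, add_zero]
  rw [h5, map_add, h4, map_smul, add_comm]

theorem Cm.pow {g : V ≃ₗ[F] V} (hg : Cm Fr θ g) (hg' : PV Fr g) (k : ℕ) : Cm Fr θ (g ^ k) := by
  induction k with
  | zero => intro v _; rw [pow_zero]; rfl
  | succ k ih => rw [pow_succ]; exact ih.mul hg hg'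

variable (hV0 : ∀ v, (∀ x, H.h v (Fr.b x) = 0) → v ∈ Fr.V0)

/-! ### The Weyl elements -/

theorem pv_nX {x y : Fin n × Bool} (h : x.1 ≠ y.1) (t : F) : PV Fr (nX Fr x y t) := fun v hv => by
  rw [nX_apply_V0 Fr h hv]; exact hv

theorem cm_nX (hθ : Th Fr θ β) {x y : Fin n × Bool} (h : x.1 ≠ y.1) (t : F) : Cm Fr θ (nX Fr x y t) := fun v hv => by
  rw [nX_apply_V0 Fr h hv, nX_apply_V0 Fr h (hθ.V0 v hv)]

theorem pv_nZ (x : Fin n × Bool) {p : Fr.Adm} (hp : p.c ≠ 0) : PV Fr (nZ Fr x p) := fun v hv => by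
  rw [nZ_apply_V0 Fr x p hp hv]
  exact Submodule.add_mem _ hv (Submodule.smul_mem _ _ (Fr.ok_mem p.ok))

theorem an_nZ (hθ : Th Fr θ β) (x : Fin n × Bool) {p : Fr.Adm} (hp : p.c ≠ 0) : An Fr θ β (nZ Fr x p) :=
  fun v hv => by
  rw [nZ_apply_V0 Fr x p hp hv, nZ_apply_V0 Fr x p hp (hθ.V0 v hv)]
  exact hθ.refl p hp v hv

theorem pv_inv_nX {x y : Fin n × Bool} (h : x.1 ≠ y.1) (t : F) : PV Fr (nX Fr x y t)⁻¹ := fun v hv => by
  rw [inv_apply_of (nX_apply_V0 Fr h hv t)]; exact hv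

include hV0

/-- the permutation of `nZ` -/
theorem mono_nZ' (i : Fin n) {p : Fr.Adm} (hp : p.c ≠ 0) :
    Mono Fr (nZ Fr (i, true) p) (fun x => if x.1 = i then ng x else x) := by
  have h3 := H.ε_ne
  have hσ : H.σ p.c ≠ 0 := by simpa using hp
  have hη := Fr.η_ne (i, true)
  intro x
  by_cases h1 : x.1 = i
  · obtain ⟨j, s⟩ := x
    simp only at h1
    subst h1
    try dsimp only
    rw [if_pos rfl]
    cases s
    · exact ⟨Fr.η (j, true) * p.c, mul_ne_zero hη hp, nZ_apply_neg Fr (j, true) p hp⟩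
    · exact ⟨_, by simp [*], nZ_apply_self Fr (j, true) p hp⟩
  · refine ⟨1, one_ne_zero, ?_⟩
    try dsimp only
    rw [one_smul, if_neg h1]
    exact nZ_apply_of_ne Fr (x := (i, true)) (z := x) h1 p

theorem swap_swap (i : Fin n) (x : Fin n × Bool) :
    (fun x : Fin n × Bool => if x.1 = i then ng x else x) ((fun x : Fin n × Bool => if x.1 = i then ng x else x) x) = x := by
  by_cases h1 : x.1 = i
  · simp only [h1, if_true, ng_fst, ng_ng]
  · simp only [h1, if_false]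

theorem pv_inv_nZ [Finite V] (i : Fin n) {p : Fr.Adm} (hp : p.c ≠ 0) : PV Fr (nZ Fr (i, true) p)⁻¹ := fun _ hv =>
  Good.map_V0 hV0 (good_nZ (i, true) hp).inv ((mono_nZ' hV0 i hp).inv (swap_swap hV0 i)) (swap_swap hV0 i) hv

theorem pv_nn {p0 : Fr.Adm} (hp0 : p0.c ≠ 0) (i : Fin n) : PV Fr (nn Fr p0 i) := by
  unfold Cfsg.Agent.Nodes.WittRGD.nn
  split_ifs with h
  · exact pv_nX (nx_ne h) 1
  · exact pv_nZ _ hp0

theorem pv_inv_nn [Finite V] {p0 : Fr.Adm} (hp0 : p0.c ≠ 0) (i : Fin n) : PV Fr (nn Fr p0 i)⁻¹ := by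
  unfold Cfsg.Agent.Nodes.WittRGD.nn
  split_ifs with h
  · exact pv_inv_nX (nx_ne h) 1
  · exact pv_inv_nZ hV0 i hp0

/-! ### The torus -/

variable (Fr θ) in
/-- The torus. -/
def T0 [Finite V] (hV0 : ∀ v, (∀ x, H.h v (Fr.b x) = 0) → v ∈ Fr.V0) : Subgroup (V ≃ₗ[F] V) where
  carrier := {g | Good Fr g ∧ Mono Fr g id ∧ Cm Fr θ g}
  one_mem' := ⟨Good.one, Mono.one, fun _ _ => rfl⟩
  mul_mem' := fun ⟨h1, h2, h3⟩ ⟨h4, h5, h6⟩ =>
    ⟨h1.mul h4, h2.mul h5, h3.mul h6 fun _ hv => Good.map_V0 hV0 h4 h5 (ρ := id) (fun _ => rfl) hv⟩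
  inv_mem' := fun ⟨h1, h2, h3⟩ => ⟨h1.inv, h2.inv fun _ => rfl,
    h3.inv fun _ hv => Good.map_V0 hV0 h1.inv (h2.inv fun _ => rfl) (ρ := id) (fun _ => rfl) hv⟩

theorem cop [Finite V] [CharP F 2] (hθ : Th Fr θ β) : (Nat.card (T0 Fr θ hV0)).Coprime 2 := by
  have : Finite (V ≃ₗ[F] V) := Finite.of_injective (fun g : V ≃ₗ[F] V => (g : V → V)) DFunLike.coe_injective
  have hp : Fact (Nat.Prime 2) := ⟨Nat.prime_two⟩
  rw [Nat.coprime_comm, Nat.prime_two.coprime_iff_not_dvd]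
  intro hdvd
  obtain ⟨⟨g, hgT⟩, hg⟩ := exists_prime_orderOf_dvd_card' 2 hdvd
  have hgp : g ^ 2 = 1 := by
    have := pow_orderOf_eq_one (⟨g, hgT⟩ : T0 Fr θ hV0)
    rw [hg] at this
    exact congrArg Subtype.val this
  obtain ⟨h1, h2, h3⟩ := hgT
  have hb := Mono.apply_of_pow h2 hgp
  have hPV : PV Fr g := fun _ hv => Good.map_V0 hV0 h1 h2 (ρ := id) (fun _ => rfl) hv
  have hgg : ∀ v, g (g v) = v := fun v => by
    rw [← mul_apply', ← pow_two, hgp]; rfl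
  have hch : ∀ v : V, v + v = 0 := fun v => by
    have h2 : (2 : F) = 0 := CharTwo.two_eq_zero
    rw [← two_smul F v, h2, zero_smul]
  have key : g = 1 := by
    apply eq_one_of_fix' hV0 hb
    intro w hw
    by_contra hne
    set u := g w + w with hu
    have hu0 : u ≠ 0 := by
      intro h
      apply hne
      have h4 : g w = -w := eq_neg_of_add_eq_zero_left h
      rw [h4, neg_vec (F := F)]
    have huV : u ∈ Fr.V0 := Submodule.add_mem _ (hPV w hw) hw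
    have hgu : g u = u := by
      rw [hu, map_add, hgg, add_comm]
    have hgθ : g (θ u) = θ u := by rw [h3 u huV, hgu]
    obtain ⟨a, b, hab⟩ := hθ.span u huV hu0 w hw
    apply hne
    rw [hab, map_add, map_smul, map_smul, hgu, hgθ]
  subst key
  have h4 : (⟨1, ⟨h1, h2, h3⟩⟩ : T0 Fr θ hV0) = 1 := rfl
  rw [h4, orderOf_one] at hg
  exact absurd hg (by norm_num)

theorem even_B {i j : Fin n} (hij : i ≠ j) (h : (¬ (i : ℕ) + 1 < n) ∨ ¬ (j : ℕ) + 1 < n) :
    ∃ k, CoxeterMatrix.B n i j = 2 * k := by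
  have hi := i.2
  have hj := j.2
  have hne : (i : ℕ) ≠ j := fun e => hij (Fin.ext e)
  show ∃ k, (if i = j then 1 else (if (i : ℕ) = n - 1 ∧ (j : ℕ) = n - 2 ∨ (j : ℕ) = n - 1 ∧ (i : ℕ) = n - 2 then 4
    else (if (j : ℕ) + 1 = i ∨ (i : ℕ) + 1 = j then 3 else 2)) : ℕ) = 2 * k
  rw [if_neg hij]
  split_ifs with h1 h2
  · exact ⟨2, rfl⟩
  · exfalso
    omega
  · exact ⟨1, rfl⟩

theorem cm_rel [Finite V] [CharP F 2] (hθ : Th Fr θ β) {p0 : Fr.Adm} (hp0 : p0.c ≠ 0) (i j : Fin n) :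
    Cm Fr θ ((nn Fr p0 i * nn Fr p0 j) ^ CoxeterMatrix.B n i j) := by
  have hpi := pv_nn hV0 hp0 i
  have hpj := pv_nn hV0 hp0 j
  have hX : ∀ i : Fin n, (i : ℕ) + 1 < n → Cm Fr θ (nn Fr p0 i) := fun i hi => by
    unfold Cfsg.Agent.Nodes.WittRGD.nn; rw [if_pos hi]; exact cm_nX hθ (nx_ne hi) 1
  have hZ : ∀ i : Fin n, ¬ (i : ℕ) + 1 < n → An Fr θ β (nn Fr p0 i) := fun i hi => by
    unfold Cfsg.Agent.Nodes.WittRGD.nn; rw [if_neg hi]; exact an_nZ hθ _ hp0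
  by_cases h1 : (i : ℕ) + 1 < n
  · by_cases h2 : (j : ℕ) + 1 < n
    · exact ((hX i h1).mul (hX j h2) hpj).pow (hpi.mul hpj) _
    · have hij : i ≠ j := by rintro rfl; exact h2 h1
      obtain ⟨k, hk⟩ := even_B hV0 hij (Or.inr h2)
      have h3 : An Fr θ β (nn Fr p0 i * nn Fr p0 j) := (hX i h1).mul_an (hZ j h2) hpj
      rw [hk, pow_mul, pow_two]
      exact (h3.mul h3 (hpi.mul hpj)).pow ((hpi.mul hpj).mul (hpi.mul hpj)) _
  · by_cases h2 : (j : ℕ) + 1 < n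
    · have hij : i ≠ j := by rintro rfl; exact h1 h2
      obtain ⟨k, hk⟩ := even_B hV0 hij (Or.inl h1)
      have h3 : An Fr θ β (nn Fr p0 i * nn Fr p0 j) := (hZ i h1).mul_cm (hX j h2) hpj
      rw [hk, pow_mul, pow_two]
      exact (h3.mul h3 (hpi.mul hpj)).pow ((hpi.mul hpj).mul (hpi.mul hpj)) _
    · exact ((hZ i h1).mul (hZ j h2) hpj).pow (hpi.mul hpj) _

/-- **The torus.** -/
theorem torT [Finite V] [CharP F 2] (hθ : Th Fr θ β) {p0 : Fr.Adm} (hp0 : p0.c ≠ 0) :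
    TorT Fr p0 (T0 Fr θ hV0) where
  good g hg := hg.1
  mono g hg := hg.2.1
  norm i g hg := by
    obtain ⟨h1, h2, h3⟩ := hg
    have hPg : PV Fr g := fun _ hv => Good.map_V0 hV0 h1 h2 (ρ := id) (fun _ => rfl) hv
    have hPi := pv_inv_nn hV0 hp0 i
    refine ⟨((good_nn hp0 i).mul h1).mul (good_nn hp0 i).inv, ?_, ?_⟩
    · exact (((mono_nn hp0 i).mul h2).mul ((mono_nn hp0 i).inv (sg_sg i))).congr fun x => sg_sg i x
    · by_cases hi : (i : ℕ) + 1 < n
      · have hX : Cm Fr θ (nn Fr p0 i) := by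
          unfold Cfsg.Agent.Nodes.WittRGD.nn; rw [if_pos hi]; exact cm_nX hθ (nx_ne hi) 1
        exact (hX.mul h3 hPg).mul (hX.inv hPi) hPi
      · have hZ : An Fr θ β (nn Fr p0 i) := by
          unfold Cfsg.Agent.Nodes.WittRGD.nn; rw [if_neg hi]; exact an_nZ hθ _ hp0
        exact (hZ.mul_cm h3 hPg).mul (hZ.inv hPi) hPi
  rel i j := ⟨((good_nn hp0 i).mul (good_nn hp0 j)).pow _,
    (((mono_nn hp0 i).mul (mono_nn hp0 j)).pow _).congr fun x => sg_braid i j x, cm_rel hV0 hθ hp0 i j⟩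
  qX i hi t ht := by
    refine ⟨(good_nX (nx_ne hi) t).mul (good_nX (nx_ne hi) 1).inv, ?_, ?_⟩
    · exact ((mono_nX hi ht).mul ((mono_nX hi one_ne_zero).inv (sg_sg i))).congr fun x => sg_sg i x
    · exact (cm_nX hθ (nx_ne hi) t).mul ((cm_nX hθ (nx_ne hi) 1).inv (pv_inv_nX (nx_ne hi) 1))
        (pv_inv_nX (nx_ne hi) 1)
  qZ i p q hp hq := by
    refine ⟨(good_nZ (i, true) hp).mul (good_nZ (i, true) hq).inv, ?_, ?_⟩
    · exact ((mono_nZ' hV0 i hp).mul ((mono_nZ' hV0 i hq).inv (swap_swap hV0 i))).congr fun x => swap_swap hV0 i x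
    · exact (an_nZ hθ _ hp).mul ((an_nZ hθ _ hq).inv (pv_inv_nZ hV0 i hq)) (pv_inv_nZ hV0 i hq)
  cop := cop hV0 hθ

end Cfsg.Agent.KFacts.Mult.OMinusTor

end

-- merged: Cfsg.Agent.KFacts.Mult.OMinus
section

/-!
# `PΩ⁻_{2m}(q)`, `q ≥ 4` even, `m ≥ 4`, has no double cover

`noDouble (F) [Finite F] [CharP F 2] (2 < |F|) (3 ≤ n) (anisotropic a b) : NoDouble (POmega F (quadFormMinus n F a b))`;
`ominus` : the literal field of `OddHalf.D9.MultOf.LieND` for `a ≥ 2`.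
-/

set_option autoImplicit false
set_option linter.unusedSectionVars false

namespace Cfsg.Agent.KFacts.Mult.OMinus

open QuadraticMap Subgroup
open Cfsg.Agent.LieClassical Cfsg.Agent.LieClassical.OrthCore Cfsg.Agent.LieClassical.OrthForms
  Cfsg.Agent.LieClassical.OrthTrans Cfsg.Agent.LieClassical.OrthSimple Cfsg.Agent.LieClassical.OrthFinite
open Cfsg.Agent.TitsThree.Siegel Cfsg.Agent.TitsThree.SiegelGen Cfsg.Agent.TitsThree.WittFrame
  Cfsg.Agent.TitsThree.WBridge Cfsg.Agent.TitsThree.KSideO Cfsg.Agent.TitsThree.StdData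
open Cfsg.Agent.Nodes.TypeC Cfsg.Agent.Nodes.WittRoot
open Cfsg.Agent.KFacts.MulDef Cfsg.Agent.KFacts.Mult.WittW Cfsg.Agent.KFacts.Mult.OMinusAb
  Cfsg.Agent.KFacts.Mult.OMinusTor Cfsg.Agent.KFacts.Mult.Num Cfsg.Agent.KFacts.Mult.WeightsTwo

section

variable (n : ℕ) (F : Type*) [Field F] (a b : F)
  (hab : ∀ z₁ z₂ : F, z₁ ^ 2 + a * z₁ * z₂ + b * z₂ ^ 2 = 0 → z₁ = 0 ∧ z₂ = 0)

/-- multiplication by `τ`, `τ² = a τ - b`, on the anisotropic part -/
def theta : ((Fin n ⊕ Fin n) ⊕ Fin 2 → F) →ₗ[F] ((Fin n ⊕ Fin n) ⊕ Fin 2 → F) where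
  toFun v := Sum.elim (fun _ => 0) ![b * v (Sum.inr 1), v (Sum.inr 0) + a * v (Sum.inr 1)]
  map_add' v w := by
    funext j
    rcases j with j | j
    · simp
    · fin_cases j
      · simp; ring
      · simp; ring
  map_smul' c v := by
    funext j
    rcases j with j | j
    · simp
    · fin_cases j
      · simp; ring
      · simp; ring

theorem theta_inl (v : (Fin n ⊕ Fin n) ⊕ Fin 2 → F) (j : Fin n ⊕ Fin n) : theta n F a b v (Sum.inl j) = 0 := rfl
theorem theta_zero (v : (Fin n ⊕ Fin n) ⊕ Fin 2 → F) : theta n F a b v (Sum.inr 0) = b * v (Sum.inr 1) := rfl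
theorem theta_one (v : (Fin n ⊕ Fin n) ⊕ Fin 2 → F) :
    theta n F a b v (Sum.inr 1) = v (Sum.inr 0) + a * v (Sum.inr 1) := rfl

theorem th [CharP F 2] : Th (toFrame (wminus n F a b hab)) (theta n F a b) a where
  V0 v _ := fun j => theta_inl n F a b v j
  refl p hp v hv := by
    have h2 : (2 : F) = 0 := CharTwo.two_eq_zero
    have hw : ∀ j, p.w (Sum.inl j) = 0 := p.ok.1
    have hv' : ∀ j, v (Sum.inl j) = 0 := hv
    have hc : p.c = -(minusForm n F a b) p.w := p.ok.2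
    have hc' : p.c = -(p.w (Sum.inr 0) ^ 2 + a * p.w (Sum.inr 0) * p.w (Sum.inr 1) + b * p.w (Sum.inr 1) ^ 2) := by
      rw [hc, coe_minusForm, quadFormMinus_apply]
      simp [hw]
    have hpol : ∀ u : (Fin n ⊕ Fin n) ⊕ Fin 2 → F, (∀ j, u (Sum.inl j) = 0) → (HO (minusForm n F a b)).h u p.w =
        2 * u (Sum.inr 0) * p.w (Sum.inr 0) + a * (u (Sum.inr 0) * p.w (Sum.inr 1) + u (Sum.inr 1) * p.w (Sum.inr 0)) +
          2 * b * u (Sum.inr 1) * p.w (Sum.inr 1) := by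
      intro u hu
      rw [HO_h, polar_minusForm]
      simp [hw, hu]
    have hε : (HO (minusForm n F a b)).ε = 1 := rfl
    rw [hε, hpol v hv', hpol _ (theta_inl n F a b v), theta_zero, theta_one, inv_one, one_mul]
    set v0 := v (Sum.inr 0)
    set v1 := v (Sum.inr 1)
    set w0 := p.w (Sum.inr 0) with hw0
    set w1 := p.w (Sum.inr 1) with hw1
    set c := p.c with hcdef
    funext j
    rcases j with j | j
    · simp only [Pi.add_apply, Pi.smul_apply, smul_eq_mul, theta_inl, hw, hv', mul_zero, add_zero]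
    · fin_cases j
      · show b * v1 + c⁻¹ * (2 * (b * v1) * w0 + a * (b * v1 * w1 + (v0 + a * v1) * w0) +
            2 * b * (v0 + a * v1) * w1) * w0 =
          a * (v0 + c⁻¹ * (2 * v0 * w0 + a * (v0 * w1 + v1 * w0) + 2 * b * v1 * w1) * w0) +
            b * (v1 + c⁻¹ * (2 * v0 * w0 + a * (v0 * w1 + v1 * w0) + 2 * b * v1 * w1) * w1)
        have hcc : c * c⁻¹ = 1 := mul_inv_cancel₀ hp
        have hmul : c * (b * v1 + c⁻¹ * (2 * (b * v1) * w0 + a * (b * v1 * w1 + (v0 + a * v1) * w0) +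
            2 * b * (v0 + a * v1) * w1) * w0) =
          c * (a * (v0 + c⁻¹ * (2 * v0 * w0 + a * (v0 * w1 + v1 * w0) + 2 * b * v1 * w1) * w0) +
            b * (v1 + c⁻¹ * (2 * v0 * w0 + a * (v0 * w1 + v1 * w0) + 2 * b * v1 * w1) * w1)) := by
          have e1 : c * (b * v1 + c⁻¹ * (2 * (b * v1) * w0 + a * (b * v1 * w1 + (v0 + a * v1) * w0) +
              2 * b * (v0 + a * v1) * w1) * w0) = c * b * v1 + (c * c⁻¹) * ((2 * (b * v1) * w0 +
              a * (b * v1 * w1 + (v0 + a * v1) * w0) + 2 * b * (v0 + a * v1) * w1) * w0) := by ring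
          have e2 : c * (a * (v0 + c⁻¹ * (2 * v0 * w0 + a * (v0 * w1 + v1 * w0) + 2 * b * v1 * w1) * w0) +
              b * (v1 + c⁻¹ * (2 * v0 * w0 + a * (v0 * w1 + v1 * w0) + 2 * b * v1 * w1) * w1)) =
              c * (a * v0 + b * v1) + (c * c⁻¹) * (a * ((2 * v0 * w0 + a * (v0 * w1 + v1 * w0) + 2 * b * v1 * w1) * w0) +
              b * ((2 * v0 * w0 + a * (v0 * w1 + v1 * w0) + 2 * b * v1 * w1) * w1)) := by ring
          rw [e1, e2, hcc, hc']
          linear_combination (-(v1 * w1 ^ 2 * b ^ 2) + v1 * w0 ^ 2 * b) * h2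
        exact mul_left_cancel₀ hp hmul
      · show (v0 + a * v1) + c⁻¹ * (2 * (b * v1) * w0 + a * (b * v1 * w1 + (v0 + a * v1) * w0) +
            2 * b * (v0 + a * v1) * w1) * w1 =
          a * (v1 + c⁻¹ * (2 * v0 * w0 + a * (v0 * w1 + v1 * w0) + 2 * b * v1 * w1) * w1) +
            ((v0 + c⁻¹ * (2 * v0 * w0 + a * (v0 * w1 + v1 * w0) + 2 * b * v1 * w1) * w0) +
              a * (v1 + c⁻¹ * (2 * v0 * w0 + a * (v0 * w1 + v1 * w0) + 2 * b * v1 * w1) * w1))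
        have hcc : c * c⁻¹ = 1 := mul_inv_cancel₀ hp
        have hmul : c * ((v0 + a * v1) + c⁻¹ * (2 * (b * v1) * w0 + a * (b * v1 * w1 + (v0 + a * v1) * w0) +
            2 * b * (v0 + a * v1) * w1) * w1) =
          c * (a * (v1 + c⁻¹ * (2 * v0 * w0 + a * (v0 * w1 + v1 * w0) + 2 * b * v1 * w1) * w1) +
            ((v0 + c⁻¹ * (2 * v0 * w0 + a * (v0 * w1 + v1 * w0) + 2 * b * v1 * w1) * w0) +
              a * (v1 + c⁻¹ * (2 * v0 * w0 + a * (v0 * w1 + v1 * w0) + 2 * b * v1 * w1) * w1))) := by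
          have e1 : c * ((v0 + a * v1) + c⁻¹ * (2 * (b * v1) * w0 + a * (b * v1 * w1 + (v0 + a * v1) * w0) +
              2 * b * (v0 + a * v1) * w1) * w1) = c * (v0 + a * v1) + (c * c⁻¹) * ((2 * (b * v1) * w0 +
              a * (b * v1 * w1 + (v0 + a * v1) * w0) + 2 * b * (v0 + a * v1) * w1) * w1) := by ring
          have e2 : c * (a * (v1 + c⁻¹ * (2 * v0 * w0 + a * (v0 * w1 + v1 * w0) + 2 * b * v1 * w1) * w1) +
              ((v0 + c⁻¹ * (2 * v0 * w0 + a * (v0 * w1 + v1 * w0) + 2 * b * v1 * w1) * w0) +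
                a * (v1 + c⁻¹ * (2 * v0 * w0 + a * (v0 * w1 + v1 * w0) + 2 * b * v1 * w1) * w1))) =
              c * (a * v1 + (v0 + a * v1)) + (c * c⁻¹) * (a * ((2 * v0 * w0 + a * (v0 * w1 + v1 * w0) +
                2 * b * v1 * w1) * w1) + (((2 * v0 * w0 + a * (v0 * w1 + v1 * w0) + 2 * b * v1 * w1) * w0) +
                a * ((2 * v0 * w0 + a * (v0 * w1 + v1 * w0) + 2 * b * v1 * w1) * w1))) := by ring
          rw [e1, e2, hcc, hc']
          linear_combination (v0 * w1 ^ 2 * b - v0 * w1 ^ 2 * a ^ 2 - 2 * v0 * w0 * w1 * a - v0 * w0 ^ 2) * h2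
        exact mul_left_cancel₀ hp hmul
  span u hu hu0 w hw := by
    have h2 : (2 : F) = 0 := CharTwo.two_eq_zero
    have hu' : ∀ j, u (Sum.inl j) = 0 := hu
    have hw' : ∀ j, w (Sum.inl j) = 0 := hw
    set u0 := u (Sum.inr 0) with hu0'
    set u1 := u (Sum.inr 1) with hu1'
    set w0 := w (Sum.inr 0) with hw0'
    set w1 := w (Sum.inr 1) with hw1'
    have hD : u0 ^ 2 + a * u0 * u1 - b * u1 ^ 2 ≠ 0 := by
      intro h0
      have h1 : u0 ^ 2 + a * u0 * u1 + b * u1 ^ 2 = 0 := by linear_combination h0 + b * u1 ^ 2 * h2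
      obtain ⟨h3, h4⟩ := hab _ _ h1
      apply hu0
      funext j
      rcases j with j | j
      · exact hu' j
      · fin_cases j
        · exact h3
        · exact h4
    set D := u0 ^ 2 + a * u0 * u1 - b * u1 ^ 2 with hDdef
    refine ⟨(w0 * (u0 + a * u1) - b * u1 * w1) / D, (u0 * w1 - u1 * w0) / D, ?_⟩
    funext j
    rcases j with j | j
    · simp only [Pi.add_apply, Pi.smul_apply, smul_eq_mul, theta_inl, hu', hw', mul_zero, add_zero]
    · fin_cases j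
      · show w0 = (w0 * (u0 + a * u1) - b * u1 * w1) / D * u0 + (u0 * w1 - u1 * w0) / D * (b * u1)
        field_simp
        rw [hDdef]; ring
      · show w1 = (w0 * (u0 + a * u1) - b * u1 * w1) / D * u1 + (u0 * w1 - u1 * w0) / D * (u0 + a * u1)
        field_simp
        rw [hDdef]; ring

theorem hV0 : ∀ v, (∀ x, (HO (minusForm n F a b)).h v ((toFrame (wminus n F a b hab)).b x) = 0) →
    v ∈ (toFrame (wminus n F a b hab)).V0 := by
  intro v hv j
  rcases j with j | j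
  · have h1 := hv (j, false)
    change (HO (minusForm n F a b)).h v (Pi.single (Sum.inl (Sum.inr j)) 1) = 0 at h1
    rw [HO_h, polar_minusForm] at h1
    simpa [Pi.single_apply] using h1
  · have h1 := hv (j, true)
    change (HO (minusForm n F a b)).h v (Pi.single (Sum.inl (Sum.inl j)) 1) = 0 at h1
    rw [HO_h, polar_minusForm] at h1
    simpa [Pi.single_apply] using h1

theorem oc : OC (HO (minusForm n F a b)) where
  σ _ := rfl
  ε := rfl

theorem adm_tr (x : F) : (Frame.Adm.tr x : (toFrame (wminus n F a b hab)).Adm) = 1 := by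
  apply Frame.Adm.ext
  · rfl
  · change x - (1 : F)⁻¹ * x = 0
    rw [inv_one, one_mul, sub_self]

theorem exists_p0 : ∃ p : (toFrame (wminus n F a b hab)).Adm, p.c ≠ 0 := by
  refine ⟨(embMinus n F a b hab).ngt ⟨(1, 0), -nf a b (1, 0), rfl⟩, ?_⟩
  change (1 : F)⁻¹ * (-nf a b (1, 0)) ≠ 0
  simp [nf]

end

/-- **`PΩ⁻_{2n+2}(q)`, `q ≥ 4` even, `n ≥ 3`, has no double cover.** -/
theorem noDouble (F : Type*) [Field F] [Finite F] [CharP F 2] (hq : 2 < Nat.card F) {n : ℕ} (hn : 3 ≤ n) (a b : F)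
    (hab : ∀ z₁ z₂ : F, z₁ ^ 2 + a * z₁ * z₂ + b * z₂ ^ 2 = 0 → z₁ = 0 ∧ z₂ = 0) :
    NoDouble (Cfsg.POmega F (Cfsg.quadFormMinus n F a b)) := by
  have hdata := exists_p0 n F a b hab
  obtain ⟨p0, hp0⟩ := hdata
  obtain ⟨p, hpf, l, hodd, hl0, hl⟩ := exists_odd_prime hq
  have hG : Good (minusForm n F a b) := by
    apply good_of_finite (nondeg_minusForm n F a b hab)
    rw [Module.finrank_fintype_fun_eq_card, Fintype.card_sum, Fintype.card_sum, Fintype.card_fin,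
      Fintype.card_fin]
    omega
  have hh : Hyp (toFrame (wminus n F a b hab)) p0
      (T0 (toFrame (wminus n F a b hab)) (theta n F a b) (hV0 n F a b hab)) p l :=
    { tor := torT (hV0 n F a b hab) (th n F a b hab) hp0
      aniso := fun w hw => (wminus n F a b hab).aniso w hw.1 hw.2
      c0 := hp0
      V0 := hV0 n F a b hab
      odd := hodd
      l0 := hl0
      lσ := rfl
      ord := hl }
  have hM : NoDouble (Cfsg.POmega F ⇑(minusForm n F a b)) := by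
    let cs := (CoxeterMatrix.B n).toCoxeterSystem
    refine noDouble_model cs hh (by omega) (model (wminus n F a b hab) hG ⟨p0, hp0⟩) fun i => ?_
    apply spl_of_abPre' cs hh
    have h3 := three_of_le hn
    by_cases hi : (i : ℕ) + 1 < n
    · have hne := Cfsg.Agent.KFacts.Mult.WittT.nx_ne hi
      obtain ⟨k, hk1, hk2⟩ := h3 i (nx i).1
      exact abPre_three cs (c := (k, true)) hk1.symm hk2 hne
    · have hnx : nx i = (i, true) := by unfold nx; rw [dif_neg hi]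
      rw [hnx, PG_self]
      have C : Con (toFrame (wminus n F a b hab)) (Y0 (toFrame (wminus n F a b hab)) cs) := ⟨X_mem_Y0 cs, Z_mem_Y0 cs⟩
      exact abPre_Z C h3 (adm_tr n F a b hab) (torHyp (toFrame (wminus n F a b hab)) (oc n F a b) C ⟨l, hl0, hh.ne_one⟩) (i, true)
  rw [coe_minusForm] at hM
  exact hM

/-- The literal field of `LieND`, `a ≥ 2`. -/
theorem ominus (F : Type) [Field F] [Fintype F] (a m : ℕ) (b c : F) (ha : 2 ≤ a) (hF : Fintype.card F = 2 ^ a)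
    (hm : 4 ≤ m) (hbc : ∀ z₁ z₂ : F, z₁ ^ 2 + b * z₁ * z₂ + c * z₂ ^ 2 = 0 → z₁ = 0 ∧ z₂ = 0) :
    NoDouble (Cfsg.POmega F (Cfsg.quadFormMinus (m - 1) F b c)) := by
  have h2 : CharP F 2 := by
    have : Fact (Nat.Prime 2) := ⟨Nat.prime_two⟩
    exact charP_of_card_eq_prime_pow hF
  refine noDouble F ?_ (by omega) b c hbc
  rw [Nat.card_eq_fintype_card, hF]
  calc 2 < 2 ^ 2 := by norm_num
    _ ≤ 2 ^ a := Nat.pow_le_pow_right (by norm_num) ha

end Cfsg.Agent.KFacts.Mult.OMinus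

end
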