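import Cfsg.Agent.KFacts.MulDef
import Cfsg.Agent.KFacts.Mult.RGDW

-- merged: Cfsg.Agent.KFacts.Mult.Surj
section

/-!
# `NoDouble` passes to quotients by normal subgroups of odd order
-/

set_option autoImplicit false

namespace Cfsg.Agent.KFacts.Mult.Surj

open Subgroup Cfsg.Agent.KFacts.MulDef Cfsg.Agent.KFacts.MulTwo
open scoped commutatorElement

universe u v w

theorem noDouble_of_surj {X : Type v} {Y : Type w} [Group X] [Group Y] [Finite X] (hX : commutator X = ⊤)
    (h : NoDouble X) (f : X →* Y) (hf : Function.Surjective f) (hodd : Odd (Nat.card f.ker)) : NoDouble Y := by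
  intro L _ _ π c hd
  let P : Subgroup (L × X) :=
    { carrier := {a | π a.1 = f a.2}
      one_mem' := by simp
      mul_mem' := fun {a b} ha hb => by
        show π (a * b).1 = f (a * b).2
        rw [Prod.fst_mul, Prod.snd_mul, map_mul, map_mul, (ha : π a.1 = f a.2), (hb : π b.1 = f b.2)]
      inv_mem' := fun {a} ha => by
        show π (a⁻¹).1 = f (a⁻¹).2
        rw [Prod.fst_inv, Prod.snd_inv, map_inv, map_inv, (ha : π a.1 = f a.2)] }
  have hP : ∀ a, a ∈ P ↔ π a.1 = f a.2 := fun a => Iff.rfl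
  let p1 : P →* L := (MonoidHom.fst L X).comp P.subtype
  let p2 : P →* X := (MonoidHom.snd L X).comp P.subtype
  have hp1 : ∀ a : P, p1 a = a.1.1 := fun a => rfl
  have hp2 : ∀ a : P, p2 a = a.1.2 := fun a => rfl
  have hs1 : Function.Surjective p1 := by
    intro l
    obtain ⟨x, hx⟩ := hf (π l)
    exact ⟨⟨(l, x), hx.symm⟩, rfl⟩
  have hs2 : Function.Surjective p2 := by
    intro x
    obtain ⟨l, hl⟩ := hd.surj (f x)
    exact ⟨⟨(l, x), hl⟩, rfl⟩
  have hπc : π c = 1 := (hd.ker c).2 (Or.inr rfl)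
  let c' : P := ⟨(c, 1), by rw [hP]; simp [hπc]⟩
  -- the commutator subgroup maps onto both factors
  have hD1 : ∀ l : L, ∃ d ∈ commutator P, p1 d = l := by
    intro l
    have h1 : (commutator P).map p1 = ⊤ := by
      rw [commutator_def, Subgroup.map_commutator, Subgroup.map_top_of_surjective _ hs1, ← commutator_def, hd.perf]
    have h2 : l ∈ (commutator P).map p1 := by rw [h1]; trivial
    exact h2
  have hD2 : ∀ x : X, ∃ d ∈ commutator P, p2 d = x := by
    intro x
    have h1 : (commutator P).map p2 = ⊤ := by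
      rw [commutator_def, Subgroup.map_commutator, Subgroup.map_top_of_surjective _ hs2, ← commutator_def, hX]
    have h2 : x ∈ (commutator P).map p2 := by rw [h1]; trivial
    exact h2
  have hc' : c' ∈ commutator P := by
    obtain ⟨d, hd', hd1⟩ := hD1 c
    have hz : d.1.2 ∈ f.ker := by
      rw [MonoidHom.mem_ker, ← (hP d.1).1 d.2, ← hp1, hd1, hπc]
    have hm : d.1.2 ^ Nat.card f.ker = 1 := by
      have := pow_card_eq_one' (x := (⟨d.1.2, hz⟩ : f.ker))
      exact congrArg Subtype.val this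
    have hc1 : c ^ Nat.card f.ker = c := by
      obtain ⟨k, hk⟩ := hodd
      rw [hk, pow_succ, pow_mul, pow_two, hd.sq, one_pow, one_mul]
    have h1 : d ^ Nat.card f.ker = c' := by
      apply Subtype.ext
      apply Prod.ext
      · show (d.1 ^ Nat.card f.ker).1 = c
        rw [Prod.pow_fst, ← hp1, hd1, hc1]
      · show (d.1 ^ Nat.card f.ker).2 = 1
        rw [Prod.pow_snd, hm]
    rw [← h1]
    exact pow_mem hd' _
  have : Finite P := inferInstance
  refine h.false (L := P) (π := p2) (c := c') ?_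
  exact
    { ne := fun h1 => hd.ne (congrArg (fun a : P => a.1.1) h1)
      sq := Subtype.ext (Prod.ext hd.sq (by show (1 : X) * 1 = 1; rw [one_mul]))
      cen := fun a => Subtype.ext (Prod.ext (hd.cen a.1.1) (by show (1 : X) * a.1.2 = a.1.2 * 1; rw [one_mul, mul_one]))
      perf := by
        rw [eq_top_iff]
        intro a _
        obtain ⟨d, hd', hd2⟩ := hD2 a.1.2
        have h1 : (a * d⁻¹).1.2 = 1 := by
          show a.1.2 * (d.1.2)⁻¹ = 1
          rw [← hp2 d, hd2, mul_inv_cancel]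
        have h2 : π (a * d⁻¹).1.1 = 1 := by
          rw [(hP (a * d⁻¹).1).1 (a * d⁻¹).2, h1, map_one]
        have h3 : a * d⁻¹ ∈ commutator P := by
          rcases (hd.ker _).1 h2 with h4 | h4
          · have : a * d⁻¹ = 1 := Subtype.ext (Prod.ext h4 h1)
            rw [this]; exact one_mem _
          · have : a * d⁻¹ = c' := Subtype.ext (Prod.ext h4 h1)
            rw [this]; exact hc'
        have h4 : a = a * d⁻¹ * d := by group
        rw [h4]
        exact mul_mem h3 hd'
      surj := hs2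
      ker := fun a => by
        rw [hp2]
        constructor
        · intro h1
          have h2 : π a.1.1 = 1 := by rw [(hP a.1).1 a.2, h1, map_one]
          rcases (hd.ker _).1 h2 with h3 | h3
          · left; exact Subtype.ext (Prod.ext h3 h1)
          · right; exact Subtype.ext (Prod.ext h3 h1)
        · rintro (rfl | rfl)
          · rfl
          · rfl }

end Cfsg.Agent.KFacts.Mult.Surj

end

-- merged: Cfsg.Agent.KFacts.Mult.RGDQ
section

/-!
# Perfectness, odd centre and central quotients for groups with a root group datum of characteristic 2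
-/

set_option autoImplicit false
set_option linter.unusedSectionVars false

namespace Cfsg.Agent.KFacts.Mult.RGDQ

open Subgroup Cfsg.Agent.KFacts.MulDef Cfsg.Agent.KFacts.MulTwo Cfsg.Agent.KFacts.Mult.WeightsTwo
  Cfsg.Agent.KFacts.Mult.RGDW Cfsg.Agent.KFacts.Mult.Surj
open CoxeterSystem Cfsg.Agent.ChevalleyStructure.CoxeterGeom Cfsg.Agent.Tits.Roots Cfsg.Agent.Tits.Core
  Cfsg.Agent.Tits.Exchange Cfsg.Agent.Nodes.Reps Cfsg.Agent.Nodes.BNOf Cfsg.Agent.Nodes.StabComb
  Cfsg.Agent.Nodes.Bruhat Cfsg.Agent.Nodes.OppDec Cfsg.Agent.Nodes.LeviDec Cfsg.Agent.Nodes.NormalForm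
open scoped commutatorElement

variable {I W Y Y' : Type*} [Fintype I] [DecidableEq I] [Group W] [Group Y] [Group Y'] {M : CoxeterMatrix I}
  {cs : CoxeterSystem M W} {A : I → I → ℤ} {h : IsCartan M A} {T : Subgroup Y} {n : I → Y}
  {X : (I → ℤ) → Subgroup Y}

/-- A subgroup with a fixed point free automorphism induced by an inner one lies in the commutator subgroup. -/
theorem Free.le_commutator [Finite Y] {T' V : Subgroup Y} (hf : Free T' V) (hn : ∀ t ∈ T', ∀ v ∈ V, t * v * t⁻¹ ∈ V) :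
    V ≤ commutator Y := by
  obtain ⟨t, ht, hfix⟩ := hf
  let f : V → V := fun v => ⟨t * v.1 * t⁻¹ * (v.1)⁻¹, mul_mem (hn t ht _ v.2) (inv_mem v.2)⟩
  have hinj : Function.Injective f := by
    rintro ⟨v, hv⟩ ⟨w, hw⟩ hvw
    have h1 : t * v * t⁻¹ * v⁻¹ = t * w * t⁻¹ * w⁻¹ := congrArg Subtype.val hvw
    have h2 : t * (w⁻¹ * v) = w⁻¹ * v * t := by
      have e1 : t * (w⁻¹ * v) = t * w⁻¹ * t⁻¹ * (t * v * t⁻¹ * v⁻¹) * v * t := by group
      rw [e1, h1]; group
    have h3 := hfix _ (mul_mem (inv_mem hw) hv) h2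
    exact Subtype.ext (inv_mul_eq_one.1 h3).symm
  intro v hv
  obtain ⟨w, hw⟩ := Finite.surjective_of_injective hinj ⟨v, hv⟩
  have h1 : t * w.1 * t⁻¹ * (w.1)⁻¹ = v := congrArg Subtype.val hw
  rw [← h1, commutator_def]
  exact commutator_mem_commutator (mem_top t) (mem_top w.1)

theorem perfect_of_free [Finite Y] {r : ℕ} (R : RGD cs h r T n X) (hG : Cfsg.Agent.Nodes.RGDLib.G1 cs h X = ⊤)
    {T' : Subgroup Y} (hT' : T' ≤ T) (h2 : ∀ x, IsRoot cs h x → Free T' (X x)) : commutator Y = ⊤ := by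
  rw [eq_top_iff, ← hG]
  refine RGD.Sup_le fun x hx => Free.le_commutator (h2 x hx) ?_
  intro t ht v hv
  rw [← R.tor x hx t (hT' ht)]
  exact conj_mem_cj.2 hv

/-- The centre has odd order. -/
theorem odd_card_of_le_center [Finite W] [Finite Y] (R : RGD cs h 2 T n X) (hG : GG cs h T X = ⊤)
    {T' : Subgroup Y} (hT' : T' ≤ T) (h2 : ∀ x ∈ RGD.Pos cs h, Free T' (X x)) {Z : Subgroup Y} (hZ : Z ≤ center Y) :
    Odd (Nat.card Z) := by
  have : Fact (Nat.Prime 2) := ⟨Nat.prime_two⟩
  rw [← Nat.not_even_iff_odd, even_iff_two_dvd]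
  intro hd
  obtain ⟨⟨z, hz⟩, ho⟩ := exists_prime_orderOf_dvd_card' 2 hd
  have hz2 : z * z = 1 := by
    have := pow_orderOf_eq_one (⟨z, hz⟩ : Z)
    rw [ho, pow_two] at this
    exact congrArg Subtype.val this
  have hz1 : z ≠ 1 := by
    rintro rfl
    have : (⟨1, hz⟩ : Z) = 1 := rfl
    rw [this, orderOf_one] at ho
    exact absurd ho (by norm_num)
  apply hz1
  have hzc : ∀ g : Y, g * z = z * g := fun g => mem_center_iff.1 (hZ hz) g
  -- `z ∈ U`
  have hU : z ∈ RGD.Sup X (RGD.Pos cs h) := by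
    have h3 : zpowers z ≤ normalizer (RGD.Sup X (RGD.Pos cs h) : Set Y) := by
      rw [zpowers_le, mem_normalizer_iff]
      intro x
      rw [← hzc, mul_inv_cancel_right]
    have hp : IsPGroup 2 ↥(RGD.Sup X (RGD.Pos cs h) ⊔ zpowers z) := by
      refine IsPGroup.to_sup_of_normal_left' R.isPGroup_Upos ?_ h3
      rintro ⟨x, k, rfl⟩
      refine ⟨1, Subtype.ext ?_⟩
      show (z ^ k) ^ 2 ^ 1 = 1
      rw [pow_one, ← zpow_natCast, ← zpow_mul, mul_comm, zpow_mul]
      norm_num [zpow_ofNat, pow_two, hz2]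
    have h4 := eq_U_of_isPGroup R hp le_sup_left (by rw [hG]; exact le_top)
    rw [← h4]
    exact (le_sup_right : zpowers z ≤ _) (mem_zpowers z)
  -- `z` centralises `T'`
  have h3 : z ∈ RGD.Sup X (RGD.Pos cs h) ⊓ centralizer (T' : Set Y) :=
    ⟨hU, mem_centralizer_iff.2 fun t _ => hzc t⟩
  rw [centralizer_U R hT'] at h3
  have h4 : RGD.Sup (fun y => X y ⊓ centralizer (T' : Set Y)) (RGD.Pos cs h) ≤ ⊥ := by
    refine RGD.Sup_le fun y hy => ?_
    obtain ⟨t, ht, ht2⟩ := h2 y hy
    rintro v ⟨hv, hvc⟩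
    rw [ht2 v hv (mem_centralizer_iff.1 hvc t ht)]
    exact one_mem _
  exact mem_bot.1 (h4 h3)

/-- **Central quotients.** -/
theorem noDouble_quot [Finite W] [Finite Y] (R : RGD cs h 2 T n X) (hG : Cfsg.Agent.Nodes.RGDLib.G1 cs h X = ⊤)
    {T' : Subgroup Y} (hT' : T' ≤ T) (h2 : ∀ x, IsRoot cs h x → Free T' (X x)) (hN : NoDouble Y)
    (f : Y →* Y') (hf : Function.Surjective f) (hker : f.ker ≤ center Y) : NoDouble Y' :=
  noDouble_of_surj (perfect_of_free R hG hT' h2) hN f hf
    (odd_card_of_le_center R (GG_eq_top_of_G1 hG) hT' (fun x hx => h2 x hx.1) hker)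

end Cfsg.Agent.KFacts.Mult.RGDQ

end
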