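import Cfsg.Agent.KFacts.Mult.D4Base
import Mathlib.GroupTheory.Commutator.Basic
import Cfsg.Agent.FixBN.ThreeD4Split
import Cfsg.Agent.S1067
import Cfsg.Agent.KFacts.Mult.RGDW
import Cfsg.Agent.KFacts.Mult.FieldAlt
import Cfsg.Agent.KFacts.Mult.Num

-- merged: Cfsg.Agent.KFacts.Mult.ThreeD4Two
section

/-!
# ³D₄(2) has no perfect double cover
-/

set_option autoImplicit false

namespace Cfsg.Agent.KFacts.Mult.ThreeD4Two

open Cfsg.Lie
open Cfsg.Agent.Schreier.ThreeD4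
open Cfsg.Agent.ChevalleyStructure.D4Fixed (sig coe_sig fix mem_fix twisted_le_fix twisted_induction)
open Cfsg.Agent.ChevalleyStructure.D4Cols (xU coe_xU wU)
open Cfsg.Agent.ChevalleyStructure
open Cfsg.Agent.ChevalleyStructure.D4Comm
open Cfsg.Agent.ChevalleyStructure.D4CommTab
open Cfsg.Agent.ChevalleyStructure.D4Pos
open Cfsg.Agent.ChevalleyStructure.D4NCheck
open Cfsg.Agent.ChevalleyStructure.D4NConj (nR nR_def nG nG_conj nG_def hR hR_def nR_eq nR_inv xG_inv torG torG_conj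
  torG_mul torG_one chi chi_def chi_ne_zero dv_def hR_eq_torG)
open Cfsg.Agent.ChevalleyStructure.SparseHDiag (cartanRS)
open Cfsg.Agent.ChevalleyStructure.TwistedU
open Cfsg.Agent.ChevalleyStructure.D4U
open Cfsg.Agent.ChevalleyStructure.D4RGD
open Cfsg.Agent.ChevalleyStructure.D4Twisted
open Cfsg.Agent.KFacts.Mult.D4Base Cfsg.Agent.KFacts.Mult.Chain
open Cfsg.Agent.KFacts.MulDef Cfsg.Agent.KFacts.MulTwo
open scoped commutatorElement

/-! ### commutators -/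

theorem c_left {G : Type*} [Group G] {a b c : G} (h : Commute a ⁅b, c⁆) : ⁅a * b, c⁆ = ⁅b, c⁆ * ⁅a, c⁆ := by
  have e : ⁅a * b, c⁆ = a * ⁅b, c⁆ * a⁻¹ * ⁅a, c⁆ := by simp only [commutatorElement_def]; group
  rw [e, h.eq, mul_inv_cancel_right]

theorem c_right {G : Type*} [Group G] {a b c : G} (h : Commute b ⁅a, c⁆) : ⁅a, b * c⁆ = ⁅a, b⁆ * ⁅a, c⁆ := by
  have e : ⁅a, b * c⁆ = ⁅a, b⁆ * (b * ⁅a, c⁆ * b⁻¹) := by simp only [commutatorElement_def]; group
  rw [e, h.eq, mul_inv_cancel_right]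

section Char2

variable {K : Type*} [Field K] [CharP K 2]

theorem two_eq : (2 : K) = 0 := CharTwo.two_eq_zero

theorem neg_eq' (a : K) : -a = a := CharTwo.neg_eq a

/-- commutators of root elements in characteristic 2 -/
theorem xcomm {r s k : ℕ} {e : ℤ} (hr : 12 ≤ r) (hr' : r < 24) (hs : 12 ≤ s) (hs' : s < 24) (hne : s ≠ r)
    (hc : cm r s = some (k, e)) (he : e = 1 ∨ e = -1) (t u : K) :
    ⁅(xG r t : GL chevD4.Idx K), xG s u⁆ = xG k (t * u) := by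
  rw [xG_comm hr hr' hs hs' hne]
  unfold cval
  rw [hc]
  show xG k ((e : K) * (t * u)) = _
  rcases he with rfl | rfl
  · rw [Int.cast_one, one_mul]
  · rw [Int.cast_neg, Int.cast_one, neg_mul, one_mul, neg_eq']

theorem xcomm_one {r s : ℕ} (hr : 12 ≤ r) (hr' : r < 24) (hs : 12 ≤ s) (hs' : s < 24) (hne : s ≠ r)
    (hc : cm r s = none) (t u : K) : ⁅(xG r t : GL chevD4.Idx K), xG s u⁆ = 1 := by
  rw [xG_comm hr hr' hs hs' hne]
  unfold cval
  rw [hc]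

/-- `n` in characteristic 2 -/
theorem n_conj {s : ℕ} (hs : s < 24) (t : K) : na K * xG s t * (na K)⁻¹ = xG (rfl' 1 s) t := by
  have h := nG_conj (F := K) (i := 1) (by norm_num) hs t
  rcases D4NConj.eta_cases (i := 1) (by norm_num) hs with h1 | h1
  · rw [h1, Int.cast_one, one_mul] at h; exact h
  · rw [h1, Int.cast_neg, Int.cast_one, neg_mul, one_mul, neg_eq'] at h; exact h

theorem n_inv_conj {s : ℕ} (hs : s < 24) (t : K) : (na K)⁻¹ * xG (rfl' 1 s) t * na K = xG s t := by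
  rw [← n_conj hs t]; group

theorem na_eq : na K = xG 14 1 * (xG 9 1 * xG 14 1) := by
  show nR (sp 1) (1 : K) = _
  have : sp 1 = 14 := by decide
  rw [this, nR_def, inv_one, neg_eq']

theorem n_x : na K * xG 14 1 * (na K)⁻¹ = xG 9 1 := n_conj (s := 14) (by norm_num) 1
theorem n_y : na K * xG 9 1 * (na K)⁻¹ = xG 14 1 := n_conj (s := 9) (by norm_num) 1

theorem xG_sq (r : ℕ) (t : K) : (xG r t : GL chevD4.Idx K) * xG r t = 1 := by
  rw [← xG_add, ← two_mul, two_eq, zero_mul, xG_zero]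

theorem xG_inv' (r : ℕ) (t : K) : (xG r t : GL chevD4.Idx K)⁻¹ = xG r t := inv_eq_of_mul_eq_one_left (xG_sq r t)

/-- the element of order 3 -/
def dd (K : Type*) [Field K] : GL chevD4.Idx K := xG 14 1 * xG 9 1

theorem dd_cube : dd K * dd K * dd K = 1 := by
  have h1 : na K = xG 9 1 * (xG 14 1 * xG 9 1) := by
    have e : na K = na K * na K * (na K)⁻¹ := by group
    have e2 : na K * (xG 14 1 * (xG 9 1 * xG 14 1)) * (na K)⁻¹ =
        (na K * xG 14 1 * (na K)⁻¹) * ((na K * xG 9 1 * (na K)⁻¹) * (na K * xG 14 1 * (na K)⁻¹)) := by group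
    rw [e]
    nth_rw 2 [na_eq]
    rw [e2, n_x, n_y]
  have h2 : (xG 9 1 : GL chevD4.Idx K) * (xG 14 1 * xG 9 1) = xG 14 1 * (xG 9 1 * xG 14 1) := by
    rw [← h1, na_eq]
  unfold dd
  calc (xG 14 1 : GL chevD4.Idx K) * xG 9 1 * (xG 14 1 * xG 9 1) * (xG 14 1 * xG 9 1)
      = xG 14 1 * (xG 9 1 * (xG 14 1 * xG 9 1)) * xG 14 1 * xG 9 1 := by simp only [mul_assoc]
    _ = (xG 14 1 * xG 14 1) * xG 9 1 * (xG 14 1 * xG 14 1) * xG 9 1 := by rw [h2]; simp only [mul_assoc]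
    _ = 1 := by rw [xG_sq, one_mul, mul_one, xG_sq]

theorem x_conj_22 : (xG 14 1 : GL chevD4.Idx K) * xG 22 1 * (xG 14 1)⁻¹ = xG 23 1 * xG 22 1 := by
  have h := xcomm (K := K) (r := 14) (s := 22) (k := 23) (e := 1) (by norm_num) (by norm_num) (by norm_num) (by norm_num)
    (by norm_num) (by decide +kernel) (Or.inl rfl) 1 1
  rw [one_mul, commutatorElement_def, mul_inv_eq_iff_eq_mul] at h
  exact h

theorem x_conj_23 : (xG 14 1 : GL chevD4.Idx K) * xG 23 1 * (xG 14 1)⁻¹ = xG 23 1 := by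
  have h := xcomm_one (K := K) (r := 14) (s := 23) (by norm_num) (by norm_num) (by norm_num) (by norm_num)
    (by norm_num) (by decide +kernel) 1 1
  rw [commutatorElement_def, mul_inv_eq_iff_eq_mul, one_mul] at h
  exact h

theorem y_conj (g : GL chevD4.Idx K) : (xG 9 1 : GL chevD4.Idx K) * g * (xG 9 1)⁻¹ =
    na K * (xG 14 1 * ((na K)⁻¹ * g * na K) * (xG 14 1)⁻¹) * (na K)⁻¹ := by
  rw [← n_x]; group

theorem y_conj_22 : (xG 9 1 : GL chevD4.Idx K) * xG 22 1 * (xG 9 1)⁻¹ = xG 22 1 := by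
  have h1 : (na K)⁻¹ * xG 22 1 * na K = xG 23 1 := n_inv_conj (s := 23) (by norm_num) 1
  rw [y_conj, h1, x_conj_23]
  exact n_conj (s := 23) (by norm_num) 1

theorem y_conj_23 : (xG 9 1 : GL chevD4.Idx K) * xG 23 1 * (xG 9 1)⁻¹ = xG 22 1 * xG 23 1 := by
  have h1 : (na K)⁻¹ * xG 23 1 * na K = xG 22 1 := n_inv_conj (s := 22) (by norm_num) 1
  have e : na K * (xG 23 1 * xG 22 1) * (na K)⁻¹ = (na K * xG 23 1 * (na K)⁻¹) * (na K * xG 22 1 * (na K)⁻¹) := by group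
  rw [y_conj, h1, x_conj_22, e]
  have h2 : na K * xG 23 1 * (na K)⁻¹ = xG 22 1 := n_conj (s := 23) (by norm_num) 1
  have h3 : na K * xG 22 1 * (na K)⁻¹ = xG 23 1 := n_conj (s := 22) (by norm_num) 1
  rw [h2, h3]

theorem dd_conj (g : GL chevD4.Idx K) : dd K * g * (dd K)⁻¹ = xG 14 1 * (xG 9 1 * g * (xG 9 1)⁻¹) * (xG 14 1)⁻¹ := by
  unfold dd; group

theorem dd_22 : dd K * xG 22 1 * (dd K)⁻¹ * (xG 22 1)⁻¹ = xG 23 1 := by
  rw [dd_conj, y_conj_22, x_conj_22, mul_inv_cancel_right]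

theorem dd_23 : dd K * xG 23 1 * (dd K)⁻¹ * (xG 23 1)⁻¹ = xG 23 1 * xG 22 1 := by
  have e : (xG 14 1 : GL chevD4.Idx K) * (xG 22 1 * xG 23 1) * (xG 14 1)⁻¹ =
      (xG 14 1 * xG 22 1 * (xG 14 1)⁻¹) * (xG 14 1 * xG 23 1 * (xG 14 1)⁻¹) := by group
  rw [dd_conj, y_conj_23, e, x_conj_22, x_conj_23, mul_inv_cancel_right]

/-- `x` centralises the span of `[21, 17, 20]` and of `[19, 16, 15]`, etc. -/
theorem commute_of_RS {r : ℕ} {l : List ℕ} (h : okc [] r r = true) (h' : (l.all fun s => okc [] r s) = true) (t : K)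
    {g : GL chevD4.Idx K} (hg : g ∈ RS K l) : xG r t * g * (xG r t)⁻¹ = g := by
  have h1 : ⁅(xG r t : GL chevD4.Idx K), g⁆ ∈ RS K [] := by
    refine comm_RS (l := [r]) (m := l) (l' := []) (by simp) (by simp) (by simpa using h') ?_ hg
    exact xG_mem_RS (by simp) t
  have h2 : ⁅(xG r t : GL chevD4.Idx K), g⁆ = 1 := by
    have h3 : RS K ([] : List ℕ) ≤ ⊥ := rspan_le xG (by simp)
    exact Subgroup.mem_bot.1 (h3 h1)
  rwa [commutatorElement_def, mul_inv_eq_one] at h2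

end Char2

section Main

variable {K : Type*} [Field K] [Fintype K] [CharP K 2] {φ : K →+* K}

theorem fixed_cases (hφ : ∀ x, φ x = x ^ 2) {a : K} (h : φ a = a) : a = 0 ∨ a = 1 := by
  rw [hφ] at h
  have : a * (a - 1) = 0 := by
    have : a * (a - 1) = a ^ 2 - a := by ring
    rw [this, h, sub_self]
  rcases mul_eq_zero.1 this with h1 | h1
  · exact Or.inl h1
  · exact Or.inr (sub_eq_zero.1 h1)

/-- normal forms -/
theorem nf (hK3 : ∀ t : K, φ (φ (φ t)) = t) (hφ : ∀ x, φ x = x ^ 2) (hle : twistedD4 K 2 ≤ fix φ)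
    {l p : List ℕ} (hl : ordA = p ++ l) {g : GL chevD4.Idx K} (hg : g ∈ twistedD4 K 2) (hgl : g ∈ RS K l) :
    ∃ a b c d e f : K, φ a = a ∧ φ e = e ∧ φ f = f ∧ g = elt φ a b c d e f ∧ (14 ∈ p → a = 0) ∧ (18 ∈ p → b = 0) ∧
      (19 ∈ p → c = 0) ∧ (21 ∈ p → d = 0) ∧ (22 ∈ p → e = 0) ∧ (23 ∈ p → f = 0) := by
  have hU : g ∈ chevD4.posUnipotent K := by
    rw [posUnipotent_eq_rspan ordA mem_ordA_iff]
    refine rspan_mono xG ?_ hgl
    intro r hr
    show r ∈ ordA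
    rw [hl]
    exact List.mem_append_right _ hr
  obtain ⟨a, b, c, d, e, f, ha, he, hf, rfl⟩ := (mem_U_inf_iff hK3 hφ hle g).1 ⟨hU, hg⟩
  have h := lprod_suffix hl hgl (t := crd φ a b c d e f) rfl
  exact ⟨a, b, c, d, e, f, ha, he, hf, rfl, h 14, h 18, h 19, h 21, h 22, h 23⟩

/-- the lists -/
def LL : ℕ → List ℕ
  | 0 => []
  | 1 => [22, 23]
  | 2 => [21, 17, 20, 22, 23]
  | _ => [18, 13, 12, 19, 16, 15, 21, 17, 20, 22, 23]

variable (K) in
/-- the chain -/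
def VV (i : ℕ) : Subgroup ↥(twistedD4 K 2) := (RS K (LL i)).subgroupOf (twistedD4 K 2)

theorem mem_VV {i : ℕ} {g : ↥(twistedD4 K 2)} : g ∈ VV K i ↔ (g : GL chevD4.Idx K) ∈ RS K (LL i) := Iff.rfl

theorem VV_zero : VV K 0 = ⊥ := by
  rw [Subgroup.eq_bot_iff_forall]
  intro g hg
  have h3 : RS K (LL 0) ≤ ⊥ := rspan_le xG (by simp [LL])
  exact Subtype.ext (Subgroup.mem_bot.1 (h3 hg))

theorem VV_mono (i : ℕ) : VV K i ≤ VV K (i + 1) := by
  intro g hg
  rcases i with _ | _ | _ | i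
  · exact RS_mono (l := LL 0) (m := LL 1) (by decide) hg
  · exact RS_mono (l := LL 1) (m := LL 2) (by decide) hg
  · exact RS_mono (l := LL 2) (m := LL 3) (by decide) hg
  · exact hg

theorem VV_le (i : ℕ) (hi : i ≤ 3) : VV K i ≤ VV K 3 := by
  interval_cases i
  · exact (VV_mono 0).trans ((VV_mono 1).trans (VV_mono 2))
  · exact (VV_mono 1).trans (VV_mono 2)
  · exact VV_mono 2
  · exact le_rfl

theorem VV_comm : ∀ i < 3, ∀ v ∈ VV K (i + 1), ∀ u ∈ VV K 3, ⁅v, u⁆ ∈ VV K i := by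
  intro i hi v hv u hu
  rw [mem_VV] at hv hu ⊢
  interval_cases i
  · exact comm_RS (l := LL 1) (m := LL 3) (l' := LL 0) (by decide +kernel) (by decide +kernel) (by decide +kernel) hv hu
  · exact comm_RS (l := LL 2) (m := LL 3) (l' := LL 1) (by decide +kernel) (by decide +kernel) (by decide +kernel) hv hu
  · exact comm_RS (l := LL 3) (m := LL 3) (l' := LL 2) (by decide +kernel) (by decide +kernel) (by decide +kernel) hv hu

theorem mem_normalizer_of {G : Type*} [Group G] {S : Subgroup G} {g : G} (h : ∀ v ∈ S, g * v * g⁻¹ ∈ S)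
    (h' : ∀ v ∈ S, g⁻¹ * v * g ∈ S) : g ∈ Subgroup.normalizer (S : Set G) := by
  rw [Subgroup.mem_normalizer_iff]
  intro v
  refine ⟨fun hv => h v hv, fun hv => ?_⟩
  have := h' _ hv
  have e : g⁻¹ * (g * v * g⁻¹) * g = v := by group
  rwa [e] at this

theorem x_mem (hφ : ∀ x, φ x = x ^ 2) : xG 14 1 ∈ twistedD4 K 2 := xG14_mem hφ (map_one φ)

theorem y_mem (hφ : ∀ x, φ x = x ^ 2) : xG 9 1 ∈ twistedD4 K 2 := by
  rw [← n_x]
  exact mul_mem (mul_mem (na_mem hφ) (x_mem hφ)) (inv_mem (na_mem hφ))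

theorem dd_mem (hφ : ∀ x, φ x = x ^ 2) : dd K ∈ twistedD4 K 2 := mul_mem (x_mem hφ) (y_mem hφ)

theorem x_norm (i : ℕ) (hi : i ≤ 3) : (xG 14 1 : GL chevD4.Idx K) ∈ Subgroup.normalizer (RS K (LL i) : Set (GL chevD4.Idx K)) := by
  have key : ∀ g ∈ RS K [14], ∀ v ∈ RS K (LL i), g * v * g⁻¹ ∈ RS K (LL i) := by
    intro g hg
    interval_cases i
    · exact conj_mem' (l := LL 0) (m := [14]) (by decide +kernel) hg
    · exact conj_mem' (l := LL 1) (m := [14]) (by decide +kernel) hg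
    · exact conj_mem' (l := LL 2) (m := [14]) (by decide +kernel) hg
    · exact conj_mem' (l := LL 3) (m := [14]) (by decide +kernel) hg
  have hx : (xG 14 1 : GL chevD4.Idx K) ∈ RS K [14] := xG_mem_RS (by simp) 1
  refine mem_normalizer_of (key _ hx) fun v hv => ?_
  have := key _ (inv_mem hx) v hv
  rwa [inv_inv] at this

theorem n_norm (i : ℕ) (hi : i ≤ 3) : na K ∈ Subgroup.normalizer (RS K (LL i) : Set (GL chevD4.Idx K)) := by
  interval_cases i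
  · exact mem_normalizer_of (fun v hv => na_RS K (l := LL 0) (l' := LL 0) (by decide +kernel) hv)
      (fun v hv => na_inv_RS K (l := LL 0) (l' := LL 0) (by decide +kernel) hv)
  · exact mem_normalizer_of (fun v hv => na_RS K (l := LL 1) (l' := LL 1) (by decide +kernel) hv)
      (fun v hv => na_inv_RS K (l := LL 1) (l' := LL 1) (by decide +kernel) hv)
  · exact mem_normalizer_of (fun v hv => na_RS K (l := LL 2) (l' := LL 2) (by decide +kernel) hv)
      (fun v hv => na_inv_RS K (l := LL 2) (l' := LL 2) (by decide +kernel) hv)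
  · exact mem_normalizer_of (fun v hv => na_RS K (l := LL 3) (l' := LL 3) (by decide +kernel) hv)
      (fun v hv => na_inv_RS K (l := LL 3) (l' := LL 3) (by decide +kernel) hv)

theorem dd_norm (i : ℕ) (hi : i ≤ 3) : dd K ∈ Subgroup.normalizer (RS K (LL i) : Set (GL chevD4.Idx K)) := by
  unfold dd
  rw [← n_x]
  exact mul_mem (x_norm i hi) (mul_mem (mul_mem (n_norm i hi) (x_norm i hi)) (inv_mem (n_norm i hi)))

theorem diag_norm (i : ℕ) (hi : i ≤ 3) : chevD4.diagonalSubgroup K ≤ Subgroup.normalizer (RS K (LL i) : Set (GL chevD4.Idx K)) := by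
  intro h hh
  have hl : ((LL i).all fun s => decide (s < 24)) = true := by interval_cases i <;> decide
  refine mem_normalizer_of (fun v hv => diag_conj_RS hl hh hv) fun v hv => ?_
  have := diag_conj_RS hl (inv_mem hh) hv
  rwa [inv_inv] at this

variable (K) in
/-- the torus part -/
def T1 : Subgroup ↥(twistedD4 K 2) := (chevD4.diagonalSubgroup K).subgroupOf (twistedD4 K 2)

/-- the element of order 3 -/
def dG (hφ : ∀ x, φ x = x ^ 2) : ↥(twistedD4 K 2) := ⟨dd K, dd_mem hφ⟩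

theorem xG_injective {r : ℕ} (hr : r < 24) {a b : K} (h : (xG r a : GL chevD4.Idx K) = xG r b) : a = b := by
  have h1 : (xG r (a - b) : GL chevD4.Idx K) = 1 := by
    rw [sub_eq_add_neg, xG_add, xG_neg, h, mul_inv_cancel]
  rw [xG_eq_one_iff hr] at h1
  exact sub_eq_zero.1 h1

theorem T1_comm (hφ : ∀ x, φ x = x ^ 2) (hle : twistedD4 K 2 ≤ fix φ) {t : GL chevD4.Idx K}
    (ht : t ∈ chevD4.diagonalSubgroup K) (htG : t ∈ twistedD4 K 2) : t * dd K * t⁻¹ = dd K := by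
  have key : ∀ r < 24, (∀ u : K, sig φ (xG r u) = xG r (φ u)) → (xG r 1 : GL chevD4.Idx K) ∈ twistedD4 K 2 →
      t * xG r 1 * t⁻¹ = xG r 1 := by
    intro r hr hs hx
    obtain ⟨c, rfl⟩ := diagonal_le_torus K ht
    have h1 : (torG c : GL chevD4.Idx K) * xG r 1 * (torG c)⁻¹ ∈ fix φ :=
      conj_fix (hle htG) (hle hx)
    rw [torG_conj c hr, mul_one, mem_fix, hs] at h1
    have h2 : φ (chi c r) = chi c r := xG_injective hr h1
    have h3 : chi c r = 1 := (fixed_cases hφ h2).resolve_left (chi_ne_zero c r)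
    rw [torG_conj c hr, h3, mul_one]
  have h1 := key 14 (by norm_num) (sig_14 φ) (x_mem hφ)
  have h2 := key 9 (by norm_num) (fun u => sig_9 φ u) (y_mem hφ)
  have e : t * dd K * t⁻¹ = (t * xG 14 1 * t⁻¹) * (t * xG 9 1 * t⁻¹) := by unfold dd; group
  rw [e, h1, h2]
  rfl

theorem odd_T1 (hK : Fintype.card K = 2 ^ 3) : Odd (Nat.card (T1 K)) := by
  rw [← Nat.not_even_iff_odd]
  intro h
  obtain ⟨x, hx⟩ := exists_prime_orderOf_dvd_card' (G := T1 K) 2 h.two_dvd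
  have h1 : ((x : ↥(twistedD4 K 2)) : GL chevD4.Idx K) ^ (Nat.card K - 1) = 1 := pow_card_sub_one x.2
  have h2 : x ^ 7 = 1 := by
    apply Subtype.ext; apply Subtype.ext
    rw [Nat.card_eq_fintype_card, hK] at h1
    exact h1
  have h3 := orderOf_dvd_of_pow_eq_one h2
  rw [hx] at h3
  omega

variable (K) in
/-- The operator group. -/
def TT (hφ : ∀ x, φ x = x ^ 2) : Subgroup ↥(twistedD4 K 2) := T1 K ⊔ Subgroup.zpowers (dG hφ)

theorem odd_TT (hK : Fintype.card K = 2 ^ 3) (hφ : ∀ x, φ x = x ^ 2) (hle : twistedD4 K 2 ≤ fix φ) :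
    Odd (Nat.card (TT K hφ)) := by
  have hfin : Finite ↥(twistedD4 K 2) := inferInstance
  have hcomm : ∀ (m : T1 K) (n : Subgroup.zpowers (dG hφ)), Commute ((T1 K).subtype m)
      ((Subgroup.zpowers (dG hφ)).subtype n) := by
    intro m n
    have h1 : Commute (m : ↥(twistedD4 K 2)) (dG hφ) := by
      have h2 := T1_comm hφ hle m.2 m.1.2
      rw [mul_inv_eq_iff_eq_mul] at h2
      exact Subtype.ext h2
    obtain ⟨k, hk⟩ := Subgroup.mem_zpowers_iff.1 n.2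
    show Commute (m : ↥(twistedD4 K 2)) (n : ↥(twistedD4 K 2))
    rw [← hk]
    exact h1.zpow_right k
  let f := MonoidHom.noncommCoprod (T1 K).subtype (Subgroup.zpowers (dG hφ)).subtype hcomm
  have hf : f.range = TT K hφ := by
    rw [MonoidHom.noncommCoprod_range, Subgroup.range_subtype, Subgroup.range_subtype]
    rfl
  have h1 : Nat.card f.range ∣ Nat.card (T1 K × Subgroup.zpowers (dG hφ)) := Subgroup.card_range_dvd f
  rw [hf, Nat.card_prod] at h1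
  have h2 : Odd (Nat.card (Subgroup.zpowers (dG hφ))) := by
    rw [Nat.card_zpowers]
    have h3 : (dG hφ) ^ 3 = 1 := by
      apply Subtype.ext
      show dd K ^ 3 = 1
      rw [pow_succ, pow_two]
      exact dd_cube
    have h4 := orderOf_dvd_of_pow_eq_one h3
    exact Odd.of_dvd_nat (by decide) h4
  exact Odd.of_dvd_nat ((odd_T1 hK).mul h2) h1

theorem TT_norm (hφ : ∀ x, φ x = x ^ 2) (i : ℕ) (hi : i ≤ 3) :
    TT K hφ ≤ Subgroup.normalizer (VV K i : Set ↥(twistedD4 K 2)) := by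
  have key : ∀ g : ↥(twistedD4 K 2), (g : GL chevD4.Idx K) ∈ Subgroup.normalizer (RS K (LL i) : Set (GL chevD4.Idx K)) →
      g ∈ Subgroup.normalizer (VV K i : Set ↥(twistedD4 K 2)) := by
    intro g hg
    rw [Subgroup.mem_normalizer_iff] at hg ⊢
    intro v
    exact hg v
  refine sup_le ?_ ?_
  · intro t ht
    exact key t (diag_norm i hi ht)
  · rw [Subgroup.zpowers_le]
    exact key _ (dd_norm i hi)

/-! ### root elements in the group -/

variable (hK3 : ∀ t : K, φ (φ (φ t)) = t) (hφ : ∀ x, φ x = x ^ 2) (hle : twistedD4 K 2 ≤ fix φ)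

/-- root elements -/
noncomputable def gX (i : Fin 6) (a : K) (h : dm φ i a) : ↥(twistedD4 K 2) := ⟨xx φ i a, xx_mem hK3 hφ hle h⟩

theorem dm1 (a : K) : dm φ 1 a := by rintro (h | h | h) <;> exact absurd h (by decide)
theorem dm2 (a : K) : dm φ 2 a := by rintro (h | h | h) <;> exact absurd h (by decide)
theorem dm3 (a : K) : dm φ 3 a := by rintro (h | h | h) <;> exact absurd h (by decide)

/-- short root elements -/
noncomputable def gB (b : K) : ↥(twistedD4 K 2) := gX hK3 hφ hle 1 b (dm1 b)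
noncomputable def gC (b : K) : ↥(twistedD4 K 2) := gX hK3 hφ hle 2 b (dm2 b)
noncomputable def gD (b : K) : ↥(twistedD4 K 2) := gX hK3 hφ hle 3 b (dm3 b)
noncomputable def gE : ↥(twistedD4 K 2) := gX hK3 hφ hle 4 1 (fun _ => map_one φ)
noncomputable def gF : ↥(twistedD4 K 2) := gX hK3 hφ hle 5 1 (fun _ => map_one φ)

theorem gB_add (a b : K) : gB hK3 hφ hle (a + b) = gB hK3 hφ hle a * gB hK3 hφ hle b := Subtype.ext (xx_add φ 1 a b)
theorem gC_add (a b : K) : gC hK3 hφ hle (a + b) = gC hK3 hφ hle a * gC hK3 hφ hle b := Subtype.ext (xx_add φ 2 a b)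
theorem gD_add (a b : K) : gD hK3 hφ hle (a + b) = gD hK3 hφ hle a * gD hK3 hφ hle b := Subtype.ext (xx_add φ 3 a b)

theorem gB_mem (b : K) : gB hK3 hφ hle b ∈ VV K 3 := by
  show D4Fixed.X φ b ∈ RS K _
  unfold D4Fixed.X
  rw [xU_eq, xU_eq, xU_eq]
  exact mul_mem (mul_mem (xG_mem_RS (by decide) _) (xG_mem_RS (by decide) _)) (xG_mem_RS (by decide) _)

theorem gC_mem (b : K) : gC hK3 hφ hle b ∈ VV K 3 :=
  mul_mem (mul_mem (xG_mem_RS (by decide) _) (xG_mem_RS (by decide) _)) (xG_mem_RS (by decide) _)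

theorem gD_mem (b : K) : gD hK3 hφ hle b ∈ VV K 2 :=
  mul_mem (mul_mem (xG_mem_RS (by decide) _) (xG_mem_RS (by decide) _)) (xG_mem_RS (by decide) _)

theorem gE_mem : gE hK3 hφ hle ∈ VV K 1 := xG_mem_RS (l := [22, 23]) (by decide) _
theorem gF_mem : gF hK3 hφ hle ∈ VV K 1 := xG_mem_RS (l := [22, 23]) (by decide) _

/-- elements of level 1 -/
theorem lev1 {v : ↥(twistedD4 K 2)} (hv : v ∈ VV K 1) : v = 1 ∨ v = gE hK3 hφ hle ∨ v = gF hK3 hφ hle ∨
    v = gE hK3 hφ hle * gF hK3 hφ hle := by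
  obtain ⟨a, b, c, d, e, f, ha, he, hf, hg, h1, h2, h3, h4, -, -⟩ :=
    nf hK3 hφ hle (l := [22, 23]) (p := [14, 18, 13, 12, 19, 16, 15, 21, 17, 20]) rfl v.2 hv
  obtain rfl := h1 (by decide)
  obtain rfl := h2 (by decide)
  obtain rfl := h3 (by decide)
  obtain rfl := h4 (by decide)
  rw [elt_eq_xx] at hg
  simp only [xx_zero, one_mul] at hg
  rcases fixed_cases hφ he with rfl | rfl <;> rcases fixed_cases hφ hf with rfl | rfl
  · left; apply Subtype.ext; rw [hg, xx_zero, xx_zero, one_mul]; rfl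
  · right; right; left; apply Subtype.ext; rw [hg, xx_zero, one_mul]; rfl
  · right; left; apply Subtype.ext; rw [hg, xx_zero, mul_one]; rfl
  · right; right; right; apply Subtype.ext; rw [hg]; rfl

theorem lev2 {v : ↥(twistedD4 K 2)} (hv : v ∈ VV K 2) : ∃ d, ∃ w ∈ VV K 1, v = gD hK3 hφ hle d * w := by
  obtain ⟨a, b, c, d, e, f, ha, he, hf, hg, h1, h2, h3, -, -, -⟩ :=
    nf hK3 hφ hle (l := [21, 17, 20, 22, 23]) (p := [14, 18, 13, 12, 19, 16, 15]) rfl v.2 hv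
  obtain rfl := h1 (by decide)
  obtain rfl := h2 (by decide)
  obtain rfl := h3 (by decide)
  rw [elt_eq_xx] at hg
  simp only [xx_zero, one_mul] at hg
  refine ⟨d, gX hK3 hφ hle 4 e (fun _ => he) * gX hK3 hφ hle 5 f (fun _ => hf), ?_, ?_⟩
  · exact mul_mem (xG_mem_RS (l := [22, 23]) (by decide) _) (xG_mem_RS (l := [22, 23]) (by decide) _)
  · apply Subtype.ext
    rw [hg, mul_assoc]
    rfl

theorem lev3' {v : ↥(twistedD4 K 2)} (hv : (v : GL chevD4.Idx K) ∈ RS K [19, 16, 15, 21, 17, 20, 22, 23]) :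
    ∃ c, ∃ w ∈ VV K 2, v = gC hK3 hφ hle c * w := by
  obtain ⟨a, b, c, d, e, f, ha, he, hf, hg, h1, h2, -, -, -, -⟩ :=
    nf hK3 hφ hle (l := [19, 16, 15, 21, 17, 20, 22, 23]) (p := [14, 18, 13, 12]) rfl v.2 hv
  obtain rfl := h1 (by decide)
  obtain rfl := h2 (by decide)
  rw [elt_eq_xx] at hg
  simp only [xx_zero, one_mul] at hg
  refine ⟨c, gD hK3 hφ hle d * (gX hK3 hφ hle 4 e (fun _ => he) * gX hK3 hφ hle 5 f (fun _ => hf)), ?_, ?_⟩
  · refine mul_mem (gD_mem hK3 hφ hle d) (VV_mono 1 ?_)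
    exact mul_mem (xG_mem_RS (l := [22, 23]) (by decide) _) (xG_mem_RS (l := [22, 23]) (by decide) _)
  · apply Subtype.ext
    rw [hg]
    show _ = xx φ 2 c * (xx φ 3 d * (xx φ 4 e * xx φ 5 f))
    simp only [mul_assoc]

theorem lev3 {v : ↥(twistedD4 K 2)} (hv : v ∈ VV K 3) :
    ∃ b c, ∃ w ∈ VV K 2, v = gB hK3 hφ hle b * gC hK3 hφ hle c * w := by
  obtain ⟨a, b, c, d, e, f, ha, he, hf, hg, h1, -, -, -, -, -⟩ :=
    nf hK3 hφ hle (l := [18, 13, 12, 19, 16, 15, 21, 17, 20, 22, 23]) (p := [14]) rfl v.2 hv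
  obtain rfl := h1 (by decide)
  rw [elt_eq_xx] at hg
  simp only [xx_zero, one_mul] at hg
  refine ⟨b, c, gD hK3 hφ hle d * (gX hK3 hφ hle 4 e (fun _ => he) * gX hK3 hφ hle 5 f (fun _ => hf)), ?_, ?_⟩
  · refine mul_mem (gD_mem hK3 hφ hle d) (VV_mono 1 ?_)
    exact mul_mem (xG_mem_RS (l := [22, 23]) (by decide) _) (xG_mem_RS (l := [22, 23]) (by decide) _)
  · apply Subtype.ext
    rw [hg]
    show _ = xx φ 1 b * xx φ 2 c * (xx φ 3 d * (xx φ 4 e * xx φ 5 f))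
    simp only [mul_assoc]

/-! ### the commutators in level 1 -/

omit [Fintype K] in
theorem c0 {r s : ℕ} (h : (decide (12 ≤ r) && decide (r < 24) && decide (12 ≤ s) && decide (s < 24) &&
      decide (s ≠ r) && (cm r s).isNone) = true) (t u : K) : ⁅(xG r t : GL chevD4.Idx K), xG s u⁆ = 1 :=
  commutatorElement_eq_one_iff_commute.2 (xG_commute h t u)

omit [Fintype K] in
/-- `[a b c, a' b' c']` where only the pairs `(a, b')`, `(b, c')`, `(c, a')` do not commute, with the same value `z` -/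
theorem comm_six {a b c a' b' c' z : GL chevD4.Idx K} (h1 : ⁅a, b'⁆ = z) (h2 : ⁅b, c'⁆ = z) (h3 : ⁅c, a'⁆ = z)
    (k1 : ⁅a, a'⁆ = 1) (k2 : ⁅a, c'⁆ = 1) (k3 : ⁅b, a'⁆ = 1) (k4 : ⁅b, b'⁆ = 1) (k5 : ⁅c, b'⁆ = 1) (k6 : ⁅c, c'⁆ = 1)
    (l1 : Commute a' z) (l2 : Commute b' z) (l4 : Commute b z) (hz : z * z = 1) :
    ⁅a * (b * c), a' * (b' * c')⁆ = z := by
  have ka : ⁅a, a' * (b' * c')⁆ = z := by
    have a1 : ⁅a, b' * c'⁆ = z := by
      rw [c_right (by rw [k2]; exact Commute.one_right _), h1, k2, mul_one]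
    rw [c_right (by rw [a1]; exact l1), a1, k1, one_mul]
  have kb : ⁅b, a' * (b' * c')⁆ = z := by
    have a1 : ⁅b, b' * c'⁆ = z := by
      rw [c_right (by rw [h2]; exact l2), h2, k4, one_mul]
    rw [c_right (by rw [a1]; exact l1), a1, k3, one_mul]
  have kc : ⁅c, a' * (b' * c')⁆ = z := by
    have a1 : ⁅c, b' * c'⁆ = 1 := by
      rw [c_right (by rw [k6]; exact Commute.one_right _), k5, k6, one_mul]
    rw [c_right (by rw [a1]; exact Commute.one_right _), a1, h3, mul_one]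
  have kbc : ⁅b * c, a' * (b' * c')⁆ = 1 := by
    rw [c_left (by rw [kc]; exact l4), kc, kb, hz]
  rw [c_left (by rw [kbc]; exact Commute.one_right _), kbc, ka, one_mul]

omit [Fintype K] in
theorem comm_BD : ⁅xx φ 1 (1 : K), xx φ 3 1⁆ = xG 22 1 := by
  have e1 : xx φ 1 (1 : K) = xG 18 1 * (xG 13 1 * xG 12 1) := by
    show D4Fixed.X φ 1 = _
    unfold D4Fixed.X
    rw [xU_eq, xU_eq, xU_eq, map_one, map_one, mul_assoc]
  have e3 : xx φ 3 (1 : K) = xG 21 1 * (xG 17 1 * xG 20 1) := by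
    show Dd φ 1 = _
    unfold Dd
    rw [map_one, map_one, neg_eq', mul_assoc]
  rw [e1, e3]
  have h1817 := xcomm (K := K) (r := 18) (s := 17) (k := 22) (e := -1) (by norm_num) (by norm_num) (by norm_num)
    (by norm_num) (by norm_num) (by decide +kernel) (Or.inr rfl) 1 1
  have h1320 := xcomm (K := K) (r := 13) (s := 20) (k := 22) (e := 1) (by norm_num) (by norm_num) (by norm_num)
    (by norm_num) (by norm_num) (by decide +kernel) (Or.inl rfl) 1 1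
  have h1221 := xcomm (K := K) (r := 12) (s := 21) (k := 22) (e := 1) (by norm_num) (by norm_num) (by norm_num)
    (by norm_num) (by norm_num) (by decide +kernel) (Or.inl rfl) 1 1
  rw [mul_one] at h1817 h1320 h1221
  exact comm_six h1817 h1320 h1221 (c0 (by decide +kernel) _ _) (c0 (by decide +kernel) _ _)
    (c0 (by decide +kernel) _ _) (c0 (by decide +kernel) _ _) (c0 (by decide +kernel) _ _) (c0 (by decide +kernel) _ _)
    (xG_commute (by decide +kernel) _ _) (xG_commute (by decide +kernel) _ _) (xG_commute (by decide +kernel) _ _)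
    (xG_sq _ _)

omit [Fintype K] in
theorem comm_CD : ⁅xx φ 2 (1 : K), xx φ 3 1⁆ = xG 23 1 := by
  have e1 : xx φ 2 (1 : K) = xG 19 1 * (xG 16 1 * xG 15 1) := by
    show Cc φ 1 = _
    unfold Cc
    rw [map_one, map_one, neg_eq', mul_assoc]
  have e3 : xx φ 3 (1 : K) = xG 21 1 * (xG 17 1 * xG 20 1) := by
    show Dd φ 1 = _
    unfold Dd
    rw [map_one, map_one, neg_eq', mul_assoc]
  rw [e1, e3]
  have h1917 := xcomm (K := K) (r := 19) (s := 17) (k := 23) (e := -1) (by norm_num) (by norm_num) (by norm_num)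
    (by norm_num) (by norm_num) (by decide +kernel) (Or.inr rfl) 1 1
  have h1620 := xcomm (K := K) (r := 16) (s := 20) (k := 23) (e := -1) (by norm_num) (by norm_num) (by norm_num)
    (by norm_num) (by norm_num) (by decide +kernel) (Or.inr rfl) 1 1
  have h1521 := xcomm (K := K) (r := 15) (s := 21) (k := 23) (e := -1) (by norm_num) (by norm_num) (by norm_num)
    (by norm_num) (by norm_num) (by decide +kernel) (Or.inr rfl) 1 1
  rw [mul_one] at h1917 h1620 h1521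
  exact comm_six h1917 h1620 h1521 (c0 (by decide +kernel) _ _) (c0 (by decide +kernel) _ _)
    (c0 (by decide +kernel) _ _) (c0 (by decide +kernel) _ _) (c0 (by decide +kernel) _ _) (c0 (by decide +kernel) _ _)
    (xG_commute (by decide +kernel) _ _) (xG_commute (by decide +kernel) _ _) (xG_commute (by decide +kernel) _ _)
    (xG_sq _ _)

/-- `[x, B(b)] = C(b)` modulo level 2 -/
theorem comm_xB (b : K) : ∃ w ∈ VV K 2, ⁅(⟨xG 14 1, x_mem hφ⟩ : ↥(twistedD4 K 2)), gB hK3 hφ hle b⁆ =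
    gC hK3 hφ hle b * w := by
  have h1 : ⁅(xG 14 1 : GL chevD4.Idx K), xx φ 1 b⁆ ∈ RS K [19, 16, 15, 21, 17, 20, 22, 23] := by
    refine comm_RS (l := [14]) (m := [18, 13, 12]) (l' := [19, 16, 15, 21, 17, 20, 22, 23]) (by decide +kernel)
      (by decide +kernel) (by decide +kernel) (xG_mem_RS (by simp) _) ?_
    show D4Fixed.X φ b ∈ RS K _
    unfold D4Fixed.X
    rw [xU_eq, xU_eq, xU_eq]
    exact mul_mem (mul_mem (xG_mem_RS (by decide) _) (xG_mem_RS (by decide) _)) (xG_mem_RS (by decide) _)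
  obtain ⟨c, w, hw, e⟩ := lev3' hK3 hφ hle (v := ⁅(⟨xG 14 1, x_mem hφ⟩ : ↥(twistedD4 K 2)), gB hK3 hφ hle b⁆) h1
  -- the coordinate
  have e2 : ⁅(xG 14 1 : GL chevD4.Idx K), xx φ 1 b⁆ = Cc φ c * (w : GL chevD4.Idx K) := congrArg Subtype.val e
  have hl : ∀ g ∈ RS K ordA, ∀ v ∈ RS K [16, 15, 21, 17, 20, 22, 23], g * v * g⁻¹ ∈ RS K [16, 15, 21, 17, 20, 22, 23] :=
    fun g hg => conj_mem' (l := [16, 15, 21, 17, 20, 22, 23]) (m := ordA) (by decide +kernel) hg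
  have e3 : ∃ z ∈ RS K [16, 15, 21, 17, 20, 22, 23], ⁅(xG 14 1 : GL chevD4.Idx K), xx φ 1 b⁆ = xG 19 b * z := by
    have e4 : xx φ 1 b = xG 18 b * (xG 13 (φ b) * xG 12 (φ (φ b))) := by
      show D4Fixed.X φ b = _
      unfold D4Fixed.X
      rw [xU_eq, xU_eq, xU_eq, mul_assoc]
    have e5 : ∀ p q r : GL chevD4.Idx K, ⁅p, q * r⁆ = ⁅p, q⁆ * (q * ⁅p, r⁆ * q⁻¹) := by
      intro p q r; simp only [commutatorElement_def]; group
    refine ⟨xG 18 b * ⁅(xG 14 1 : GL chevD4.Idx K), (xG 13 (φ b) * xG 12 (φ (φ b)) : GL chevD4.Idx K)⁆ * (xG 18 b)⁻¹,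
      ?_, ?_⟩
    · refine hl _ (xG_mem_RS (by decide) _) _ ?_
      refine comm_RS (l := [14]) (m := [13, 12]) (l' := [16, 15, 21, 17, 20, 22, 23]) (by decide +kernel)
        (by decide +kernel) (by decide +kernel) (xG_mem_RS (by simp) _) ?_
      exact mul_mem (xG_mem_RS (by decide) _) (xG_mem_RS (by decide) _)
    · rw [e4, e5, xcomm (K := K) (r := 14) (s := 18) (k := 19) (e := 1) (by norm_num) (by norm_num) (by norm_num)
        (by norm_num) (by norm_num) (by decide +kernel) (Or.inl rfl), one_mul]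
  obtain ⟨z, hz, e4⟩ := e3
  have h5 : (xG 19 (c - b) : GL chevD4.Idx K) ∈ RS K [16, 15, 21, 17, 20, 22, 23] := by
    rw [e4] at e2
    have e6 : (xG 19 (c - b) : GL chevD4.Idx K) = (xG 19 b)⁻¹ * xG 19 c := by
      rw [sub_eq_neg_add, xG_add, xG_neg]
    have e7 : (xG 19 b : GL chevD4.Idx K)⁻¹ * xG 19 c = z * ((w : GL chevD4.Idx K))⁻¹ *
        (xG 16 (-φ c) * xG 15 (-φ (φ c)))⁻¹ := by
      have e8 : (xG 19 b : GL chevD4.Idx K) * z = xG 19 c * (xG 16 (-φ c) * xG 15 (-φ (φ c))) * w := by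
        rw [e2]; unfold Cc; simp only [mul_assoc]
      have e9 : z = (xG 19 b : GL chevD4.Idx K)⁻¹ * (xG 19 c * (xG 16 (-φ c) * xG 15 (-φ (φ c))) * w) := by
        rw [← e8, inv_mul_cancel_left]
      rw [e9]; group
    rw [e6, e7]
    refine mul_mem (mul_mem hz (inv_mem ?_)) (inv_mem (mul_mem (xG_mem_RS (by decide) _) (xG_mem_RS (by decide) _)))
    exact RS_mono (l := LL 2) (m := [16, 15, 21, 17, 20, 22, 23]) (by decide) hw
  have h6 := lprod_suffix (l := [16, 15, 21, 17, 20, 22, 23]) (p := [14, 18, 13, 12, 19]) rfl h5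
    (t := fun r => if r = 19 then c - b else 0) (by
      unfold ordA
      simp only [lprod_cons, lprod_nil]
      norm_num [xG_zero]) 19 (by decide)
  have h7 : c = b := by
    have : c - b = 0 := by simpa using h6
    exact sub_eq_zero.1 this
  rw [h7] at e
  exact ⟨w, hw, e⟩

end Main

end Cfsg.Agent.KFacts.Mult.ThreeD4Two

end

-- merged: Cfsg.Agent.KFacts.Mult.ThreeD4TwoB
section

/-!
# ³D₄(2) has no perfect double cover: the pairings and the end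
-/

set_option autoImplicit false

namespace Cfsg.Agent.KFacts.Mult.ThreeD4Two

open Cfsg.Lie
open Cfsg.Agent.Schreier.ThreeD4
open Cfsg.Agent.ChevalleyStructure.D4Fixed (sig coe_sig fix mem_fix twisted_le_fix twisted_induction)
open Cfsg.Agent.ChevalleyStructure.D4Cols (xU coe_xU wU)
open Cfsg.Agent.ChevalleyStructure
open Cfsg.Agent.ChevalleyStructure.D4Comm
open Cfsg.Agent.ChevalleyStructure.D4CommTab
open Cfsg.Agent.ChevalleyStructure.D4Pos
open Cfsg.Agent.ChevalleyStructure.D4NCheck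
open Cfsg.Agent.ChevalleyStructure.D4NConj (nR nR_def nG nG_conj nG_def hR hR_def nR_eq nR_inv xG_inv torG torG_conj
  torG_mul torG_one chi chi_def chi_ne_zero dv_def hR_eq_torG)
open Cfsg.Agent.ChevalleyStructure.SparseHDiag (cartanRS)
open Cfsg.Agent.ChevalleyStructure.TwistedU
open Cfsg.Agent.ChevalleyStructure.D4U
open Cfsg.Agent.ChevalleyStructure.D4RGD
open Cfsg.Agent.ChevalleyStructure.D4Twisted
open Cfsg.Agent.KFacts.Mult.D4Base Cfsg.Agent.KFacts.Mult.Chain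
open Cfsg.Agent.KFacts.MulDef Cfsg.Agent.KFacts.MulTwo
open scoped commutatorElement

section Main

variable {K : Type*} [Field K] [Fintype K] [CharP K 2] {φ : K →+* K}
variable (hK3 : ∀ t : K, φ (φ (φ t)) = t) (hφ : ∀ x, φ x = x ^ 2) (hle : twistedD4 K 2 ≤ fix φ)

/-! ### conjugation by `d` -/

omit [Fintype K] in
/-- `x` centralises `D(d)` -/
theorem x_conj_D (d : K) : (xG 14 1 : GL chevD4.Idx K) * xx φ 3 d * (xG 14 1)⁻¹ = xx φ 3 d := by
  refine commute_of_RS (r := 14) (l := [21, 17, 20]) (by decide +kernel) (by decide +kernel) 1 ?_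
  exact mul_mem (mul_mem (xG_mem_RS (by decide) _) (xG_mem_RS (by decide) _)) (xG_mem_RS (by decide) _)

omit [Fintype K] in
/-- `x` centralises `C(c)` -/
theorem x_conj_C (c : K) : (xG 14 1 : GL chevD4.Idx K) * xx φ 2 c * (xG 14 1)⁻¹ = xx φ 2 c := by
  refine commute_of_RS (r := 14) (l := [19, 16, 15]) (by decide +kernel) (by decide +kernel) 1 ?_
  exact mul_mem (mul_mem (xG_mem_RS (by decide) _) (xG_mem_RS (by decide) _)) (xG_mem_RS (by decide) _)

omit [Fintype K] in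
theorem n_conj_D (d : K) : na K * xx φ 3 d * (na K)⁻¹ = xx φ 3 d := by
  show na K * (xG 21 d * xG 17 (-φ d) * xG 20 (φ (φ d))) * (na K)⁻¹ = xG 21 d * xG 17 (-φ d) * xG 20 (φ (φ d))
  have e : ∀ n a b c : GL chevD4.Idx K, n * (a * b * c) * n⁻¹ = (n * a * n⁻¹) * (n * b * n⁻¹) * (n * c * n⁻¹) := by
    intro n a b c; group
  have h1 := n_conj (K := K) (s := 21) (by norm_num) d
  have h2 := n_conj (K := K) (s := 17) (by norm_num) (-φ d)
  have h3 := n_conj (K := K) (s := 20) (by norm_num) (φ (φ d))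
  rw [show rfl' 1 21 = 21 by decide +kernel] at h1
  rw [show rfl' 1 17 = 17 by decide +kernel] at h2
  rw [show rfl' 1 20 = 20 by decide +kernel] at h3
  rw [e, h1, h2, h3]

omit [Fintype K] in
theorem n_conj_C (c : K) : na K * xx φ 2 c * (na K)⁻¹ = xx φ 1 c := by
  show na K * (xG 19 c * xG 16 (-φ c) * xG 15 (-φ (φ c))) * (na K)⁻¹ = D4Fixed.X φ c
  unfold D4Fixed.X
  rw [xU_eq, xU_eq, xU_eq]
  have e : ∀ n a b c : GL chevD4.Idx K, n * (a * b * c) * n⁻¹ = (n * a * n⁻¹) * (n * b * n⁻¹) * (n * c * n⁻¹) := by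
    intro n a b c; group
  have h1 := n_conj (K := K) (s := 19) (by norm_num) c
  have h2 := n_conj (K := K) (s := 16) (by norm_num) (-φ c)
  have h3 := n_conj (K := K) (s := 15) (by norm_num) (-φ (φ c))
  rw [show rfl' 1 19 = 18 by decide +kernel] at h1
  rw [show rfl' 1 16 = 13 by decide +kernel] at h2
  rw [show rfl' 1 15 = 12 by decide +kernel] at h3
  rw [e, h1, h2, h3, neg_eq', neg_eq']

omit [Fintype K] in
theorem n_conj_B (c : K) : na K * xx φ 1 c * (na K)⁻¹ = xx φ 2 c := by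
  show na K * (D4Fixed.X φ c) * (na K)⁻¹ = xG 19 c * xG 16 (-φ c) * xG 15 (-φ (φ c))
  unfold D4Fixed.X
  rw [xU_eq, xU_eq, xU_eq]
  have e : ∀ n a b c : GL chevD4.Idx K, n * (a * b * c) * n⁻¹ = (n * a * n⁻¹) * (n * b * n⁻¹) * (n * c * n⁻¹) := by
    intro n a b c; group
  have h1 := n_conj (K := K) (s := 18) (by norm_num) c
  have h2 := n_conj (K := K) (s := 13) (by norm_num) (φ c)
  have h3 := n_conj (K := K) (s := 12) (by norm_num) (φ (φ c))
  rw [show rfl' 1 18 = 19 by decide +kernel] at h1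
  rw [show rfl' 1 13 = 16 by decide +kernel] at h2
  rw [show rfl' 1 12 = 15 by decide +kernel] at h3
  rw [e, h1, h2, h3, neg_eq', neg_eq']

omit [Fintype K] in
theorem ninv_conj_D (d : K) : (na K)⁻¹ * xx φ 3 d * na K = xx φ 3 d := by
  nth_rw 1 [← n_conj_D (φ := φ) d]; group

omit [Fintype K] in
theorem ninv_conj_B (c : K) : (na K)⁻¹ * xx φ 1 c * na K = xx φ 2 c := by
  rw [← n_conj_C (φ := φ) c]; group

omit [Fintype K] in
theorem ninv_conj_C (c : K) : (na K)⁻¹ * xx φ 2 c * na K = xx φ 1 c := by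
  rw [← n_conj_B (φ := φ) c]; group

omit [Fintype K] in
/-- `d` centralises `D(d)` -/
theorem dd_conj_D (d : K) : dd K * xx φ 3 d * (dd K)⁻¹ = xx φ 3 d := by
  rw [dd_conj, y_conj, ninv_conj_D, x_conj_D, n_conj_D, x_conj_D]

omit [Fintype K] in
/-- `y` centralises `B(b)` -/
theorem y_conj_B (b : K) : (xG 9 1 : GL chevD4.Idx K) * xx φ 1 b * (xG 9 1)⁻¹ = xx φ 1 b := by
  rw [y_conj, ninv_conj_B, x_conj_C, n_conj_C]

omit [Fintype K] in
/-- `B(b)^d = B(b)^x` -/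
theorem dd_conj_B (b : K) : dd K * xx φ 1 b * (dd K)⁻¹ = xG 14 1 * xx φ 1 b * (xG 14 1)⁻¹ := by
  rw [dd_conj, y_conj_B]

omit [Fintype K] in
theorem dd_conj_C (c : K) : dd K * xx φ 2 c * (dd K)⁻¹ =
    xG 14 1 * (na K * (xG 14 1 * xx φ 1 c * (xG 14 1)⁻¹) * (na K)⁻¹) * (xG 14 1)⁻¹ := by
  rw [dd_conj, y_conj, ninv_conj_C]

/-- the elements `x`, `n` -/
def gx : ↥(twistedD4 K 2) := ⟨xG 14 1, x_mem hφ⟩

/-- `n` -/
def gn : ↥(twistedD4 K 2) := ⟨na K, na_mem hφ⟩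

theorem d_conj_D (d : K) : dG hφ * gD hK3 hφ hle d * (dG hφ)⁻¹ = gD hK3 hφ hle d := Subtype.ext (dd_conj_D d)

theorem d_conj_B (b : K) : dG hφ * gB hK3 hφ hle b * (dG hφ)⁻¹ = gx hφ * gB hK3 hφ hle b * (gx hφ)⁻¹ :=
  Subtype.ext (dd_conj_B b)

theorem d_conj_C (b : K) : dG hφ * gC hK3 hφ hle b * (dG hφ)⁻¹ =
    gx hφ * (gn hφ * (gx hφ * gB hK3 hφ hle b * (gx hφ)⁻¹) * (gn hφ)⁻¹) * (gx hφ)⁻¹ :=
  Subtype.ext (dd_conj_C b)

theorem x_conj_B' (b : K) : ∃ w ∈ VV K 2, gx hφ * gB hK3 hφ hle b * (gx hφ)⁻¹ =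
    gC hK3 hφ hle b * w * gB hK3 hφ hle b := by
  obtain ⟨w, hw, e⟩ := comm_xB hK3 hφ hle b
  refine ⟨w, hw, ?_⟩
  have e' : ⁅gx hφ, gB hK3 hφ hle b⁆ = gC hK3 hφ hle b * w := e
  rw [← e', commutatorElement_def]
  group

theorem x_VV (i : ℕ) (hi : i ≤ 3) {v : ↥(twistedD4 K 2)} (hv : v ∈ VV K i) : gx hφ * v * (gx hφ)⁻¹ ∈ VV K i := by
  have h := x_norm (K := K) i hi
  rw [Subgroup.mem_normalizer_iff] at h
  exact (h v).1 hv

theorem n_VV (i : ℕ) (hi : i ≤ 3) {v : ↥(twistedD4 K 2)} (hv : v ∈ VV K i) : gn hφ * v * (gn hφ)⁻¹ ∈ VV K i := by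
  have h := n_norm (K := K) i hi
  rw [Subgroup.mem_normalizer_iff] at h
  exact (h v).1 hv

theorem d_conj_C' (b : K) : ∃ w ∈ VV K 2, ∃ w' ∈ VV K 2, dG hφ * gC hK3 hφ hle b * (dG hφ)⁻¹ =
    gC hK3 hφ hle b * w * gB hK3 hφ hle b * w' * gC hK3 hφ hle b := by
  obtain ⟨w, hw, e⟩ := x_conj_B' hK3 hφ hle b
  refine ⟨w, hw, gx hφ * (gn hφ * w * (gn hφ)⁻¹) * (gx hφ)⁻¹, x_VV hφ 2 (by norm_num) (n_VV hφ 2 (by norm_num) hw), ?_⟩
  have h1 : gn hφ * gC hK3 hφ hle b * (gn hφ)⁻¹ = gB hK3 hφ hle b := Subtype.ext (n_conj_C b)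
  have h2 : gn hφ * gB hK3 hφ hle b * (gn hφ)⁻¹ = gC hK3 hφ hle b := Subtype.ext (n_conj_B b)
  have h3 : gx hφ * gC hK3 hφ hle b * (gx hφ)⁻¹ = gC hK3 hφ hle b := Subtype.ext (x_conj_C b)
  rw [d_conj_C, e]
  have e1 : ∀ x n c w b : ↥(twistedD4 K 2), x * (n * (c * w * b) * n⁻¹) * x⁻¹ =
      (x * (n * c * n⁻¹) * x⁻¹) * (x * (n * w * n⁻¹) * x⁻¹) * (x * (n * b * n⁻¹) * x⁻¹) := by
    intro x n c w b; group
  rw [e1, h1, h2, h3, e]

/-! ### the torus element -/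

theorem exists_t0 (hK : Fintype.card K = 2 ^ 3) : ∃ (l : K) (t : ↥(twistedD4 K 2)), l ≠ 0 ∧ l ≠ 1 ∧ l ^ 7 = 1 ∧
    t ∈ T1 K ∧ (∀ b, t * gB hK3 hφ hle b * t⁻¹ = gB hK3 hφ hle (l * b)) ∧
    (∀ b, t * gC hK3 hφ hle b * t⁻¹ = gC hK3 hφ hle (l * b)) ∧
    (∀ b, t * gD hK3 hφ hle b * t⁻¹ = gD hK3 hφ hle (l ^ 3 * b)) ∧
    t * gE hK3 hφ hle * t⁻¹ = gE hK3 hφ hle ∧ t * gF hK3 hφ hle * t⁻¹ = gF hK3 hφ hle := by
  classical
  obtain ⟨m, hm0, hm1⟩ : ∃ m : K, m ≠ 0 ∧ m ≠ 1 := by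
    by_contra hcon
    push Not at hcon
    have h1 : (Finset.univ : Finset K) ⊆ {0, 1} := by
      intro x _
      rw [Finset.mem_insert, Finset.mem_singleton]
      by_cases hx : x = 0
      · exact Or.inl hx
      · exact Or.inr (hcon x hx)
    have h2 := Finset.card_le_card h1
    rw [Finset.card_univ, hK] at h2
    have h3 := Finset.card_le_two (a := (0 : K)) (b := 1)
    omega
  have h7 : ∀ x : K, x ≠ 0 → x ^ 7 = 1 := by
    intro x hx
    have := FiniteField.pow_card_sub_one_eq_one x hx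
    rwa [hK] at this
  obtain ⟨t, ht, htd, hc⟩ := exists_torus (K := K) hK3 hφ (s := 1) (m := m) (map_one φ) one_ne_zero hm0
  have hl0 : m * m ≠ 0 := mul_ne_zero hm0 hm0
  have hl1 : m * m ≠ 1 := by
    intro h
    apply hm1
    have h2 : (m - 1) * (m - 1) = 0 := by
      have : (m - 1) * (m - 1) = m * m + 1 - (2 : K) * m := by ring
      rw [this, h, two_eq, zero_mul, sub_zero, ← two_mul, two_eq, zero_mul]
    exact sub_eq_zero.1 (mul_self_eq_zero.1 h2)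
  have hl7 := h7 _ hl0
  have h77 : m * m * (m * m) ^ 2 * ((m * m) ^ 2) ^ 2 = 1 := by
    rw [← hl7]; ring
  have key : ∀ (i : Fin 6) (a : K) (h : dm φ i a) (h' : dm φ i (ch φ 1 (m * m) i * a)),
      (⟨t, ht⟩ : ↥(twistedD4 K 2)) * gX hK3 hφ hle i a h * (⟨t, ht⟩ : ↥(twistedD4 K 2))⁻¹ =
        gX hK3 hφ hle i (ch φ 1 (m * m) i * a) h' := fun i a h h' => Subtype.ext (hc i a)
  refine ⟨m * m, ⟨t, ht⟩, hl0, hl1, hl7, htd, fun b => key 1 b _ _, ?_, ?_, ?_, ?_⟩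
  · intro b
    have h1 := key 2 b (dm2 b) (dm2 _)
    have e : ch φ 1 (m * m) 2 = m * m := one_mul _
    rw [gC, gC, h1]
    exact Subtype.ext (by show xx φ 2 _ = xx φ 2 _; rw [e])
  · intro b
    have h1 := key 3 b (dm3 b) (dm3 _)
    have e : ch φ 1 (m * m) 3 = (m * m) ^ 3 := by
      show (1 : K) * (m * m * φ (m * m)) = _
      rw [hφ]; ring
    rw [gD, gD, h1]
    exact Subtype.ext (by show xx φ 3 _ = xx φ 3 _; rw [e])
  · have e : ch φ 1 (m * m) 4 = 1 := by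
      show (1 : K) * (m * m * φ (m * m) * φ (φ (m * m))) = _
      rw [hφ, hφ, one_mul]; exact h77
    apply Subtype.ext
    show t * xx φ 4 1 * t⁻¹ = xx φ 4 1
    rw [hc, e, one_mul]
  · have e : ch φ 1 (m * m) 5 = 1 := by
      show (1 : K) * 1 * (m * m * φ (m * m) * φ (φ (m * m))) = _
      rw [hφ, hφ, one_mul, one_mul]; exact h77
    apply Subtype.ext
    show t * xx φ 5 1 * t⁻¹ = xx φ 5 1
    rw [hc, e, one_mul]

theorem gB_neg (a : K) : (gB hK3 hφ hle a)⁻¹ = gB hK3 hφ hle (-a) := Subtype.ext (xx_neg φ 1 a).symm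
theorem gC_neg (a : K) : (gC hK3 hφ hle a)⁻¹ = gC hK3 hφ hle (-a) := Subtype.ext (xx_neg φ 2 a).symm
theorem gD_neg (a : K) : (gD hK3 hφ hle a)⁻¹ = gD hK3 hφ hle (-a) := Subtype.ext (xx_neg φ 3 a).symm

theorem commB {t : ↥(twistedD4 K 2)} {l : K} (hl : l ≠ 1)
    (h : ∀ b, t * gB hK3 hφ hle b * t⁻¹ = gB hK3 hφ hle (l * b)) (b : K) :
    t * gB hK3 hφ hle ((l - 1)⁻¹ * b) * t⁻¹ * (gB hK3 hφ hle ((l - 1)⁻¹ * b))⁻¹ = gB hK3 hφ hle b := by
  have hl' : l - 1 ≠ 0 := sub_ne_zero.2 hl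
  rw [h, gB_neg, ← gB_add]
  congr 1
  field_simp
  ring

theorem commC {t : ↥(twistedD4 K 2)} {l : K} (hl : l ≠ 1)
    (h : ∀ b, t * gC hK3 hφ hle b * t⁻¹ = gC hK3 hφ hle (l * b)) (b : K) :
    t * gC hK3 hφ hle ((l - 1)⁻¹ * b) * t⁻¹ * (gC hK3 hφ hle ((l - 1)⁻¹ * b))⁻¹ = gC hK3 hφ hle b := by
  have hl' : l - 1 ≠ 0 := sub_ne_zero.2 hl
  rw [h, gC_neg, ← gC_add]
  congr 1
  field_simp
  ring

theorem commD {t : ↥(twistedD4 K 2)} {l : K} (hl : l ≠ 1)
    (h : ∀ b, t * gD hK3 hφ hle b * t⁻¹ = gD hK3 hφ hle (l * b)) (b : K) :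
    t * gD hK3 hφ hle ((l - 1)⁻¹ * b) * t⁻¹ * (gD hK3 hφ hle ((l - 1)⁻¹ * b))⁻¹ = gD hK3 hφ hle b := by
  have hl' : l - 1 ≠ 0 := sub_ne_zero.2 hl
  rw [h, gD_neg, ← gD_add]
  congr 1
  field_simp
  ring

theorem l3_ne {l : K} (h7 : l ^ 7 = 1) (h1 : l ≠ 1) : l ^ 3 ≠ 1 := by
  intro h
  apply h1
  have : l ^ 7 = (l ^ 3) * (l ^ 3) * l := by ring
  rw [h, one_mul, one_mul, h7] at this
  exact this.symm

theorem l3_seven {l : K} (h7 : l ^ 7 = 1) : (l ^ 3) ^ 7 = 1 := by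
  rw [← pow_mul, mul_comm, pow_mul, h7, one_pow]

/-! ### generation -/

include hK3 hle

theorem gen (hK : Fintype.card K = 2 ^ 3) : ∀ i < 3, ∀ v ∈ VV K (i + 1),
    v ∈ Subgroup.closure {x : ↥(twistedD4 K 2) | ∃ t ∈ TT K hφ, ∃ v ∈ VV K (i + 1), x = t * v * t⁻¹ * v⁻¹} ⊔
      VV K i := by
  obtain ⟨l, t, hl0, hl1, hl7, ht, hB, hC, hD, -, -⟩ := exists_t0 hK3 hφ hle hK
  have htT : t ∈ TT K hφ := Subgroup.mem_sup_left ht
  have hdT : dG hφ ∈ TT K hφ := Subgroup.mem_sup_right (Subgroup.mem_zpowers _)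
  intro i hi v hv
  interval_cases i
  · apply Subgroup.mem_sup_left
    have hF : gF hK3 hφ hle ∈ Subgroup.closure
        {x : ↥(twistedD4 K 2) | ∃ t ∈ TT K hφ, ∃ v ∈ VV K (0 + 1), x = t * v * t⁻¹ * v⁻¹} := by
      refine Subgroup.subset_closure ⟨dG hφ, hdT, gE hK3 hφ hle, gE_mem hK3 hφ hle, ?_⟩
      exact Subtype.ext dd_22.symm
    have hFE : gF hK3 hφ hle * gE hK3 hφ hle ∈ Subgroup.closure
        {x : ↥(twistedD4 K 2) | ∃ t ∈ TT K hφ, ∃ v ∈ VV K (0 + 1), x = t * v * t⁻¹ * v⁻¹} := by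
      refine Subgroup.subset_closure ⟨dG hφ, hdT, gF hK3 hφ hle, gF_mem hK3 hφ hle, ?_⟩
      exact Subtype.ext dd_23.symm
    have hE : gE hK3 hφ hle ∈ Subgroup.closure
        {x : ↥(twistedD4 K 2) | ∃ t ∈ TT K hφ, ∃ v ∈ VV K (0 + 1), x = t * v * t⁻¹ * v⁻¹} := by
      have := mul_mem (inv_mem hF) hFE
      rwa [inv_mul_cancel_left] at this
    rcases lev1 hK3 hφ hle hv with rfl | rfl | rfl | rfl
    · exact one_mem _
    · exact hE
    · exact hF
    · exact mul_mem hE hF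
  · obtain ⟨d, w, hw, rfl⟩ := lev2 hK3 hφ hle hv
    refine mul_mem (Subgroup.mem_sup_left ?_) (Subgroup.mem_sup_right hw)
    refine Subgroup.subset_closure ⟨t, htT, _, gD_mem hK3 hφ hle ((l ^ 3 - 1)⁻¹ * d), ?_⟩
    exact (commD hK3 hφ hle (l3_ne hl7 hl1) hD d).symm
  · obtain ⟨b, c, w, hw, rfl⟩ := lev3 hK3 hφ hle hv
    refine mul_mem (mul_mem (Subgroup.mem_sup_left ?_) (Subgroup.mem_sup_left ?_)) (Subgroup.mem_sup_right hw)
    · refine Subgroup.subset_closure ⟨t, htT, _, gB_mem hK3 hφ hle ((l - 1)⁻¹ * b), ?_⟩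
      exact (commB hK3 hφ hle hl1 hB b).symm
    · refine Subgroup.subset_closure ⟨t, htT, _, gC_mem hK3 hφ hle ((l - 1)⁻¹ * c), ?_⟩
      exact (commC hK3 hφ hle hl1 hC c).symm

/-! ### the pairings -/

theorem pair1 (hK : Fintype.card K = 2 ^ 3) {F : ↥(twistedD4 K 2) → ↥(twistedD4 K 2) → ℤˣ}
    (h : Pair (VV K 3) (TT K hφ) (VV K 1) (VV K 0) F) : ∀ v ∈ VV K 1, ∀ u ∈ VV K 3, F v u = 1 := by
  obtain ⟨l, t, hl0, hl1, hl7, ht, hB, hC, hD, hE, hF⟩ := exists_t0 hK3 hφ hle hK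
  have htT : t ∈ TT K hφ := Subgroup.mem_sup_left ht
  intro v hv
  -- `t` centralises `v`
  have hv' : t * v * t⁻¹ = v := by
    rcases lev1 hK3 hφ hle hv with rfl | rfl | rfl | rfl
    · group
    · exact hE
    · exact hF
    · rw [show t * (gE hK3 hφ hle * gF hK3 hφ hle) * t⁻¹ = (t * gE hK3 hφ hle * t⁻¹) * (t * gF hK3 hφ hle * t⁻¹) by
        group, hE, hF]
  have c1 : ∀ b, F v (gB hK3 hφ hle b) = 1 := by
    intro b
    have := h.right htT hv (gB_mem hK3 hφ hle ((l - 1)⁻¹ * b)) (by rw [hB]; exact gB_mem hK3 hφ hle _) hv'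
    rwa [commB hK3 hφ hle hl1 hB] at this
  have c2 : ∀ b, F v (gC hK3 hφ hle b) = 1 := by
    intro b
    have := h.right htT hv (gC_mem hK3 hφ hle ((l - 1)⁻¹ * b)) (by rw [hC]; exact gC_mem hK3 hφ hle _) hv'
    rwa [commC hK3 hφ hle hl1 hC] at this
  have gD3 : ∀ d, gD hK3 hφ hle d ∈ VV K 3 := fun d => VV_mono 2 (gD_mem hK3 hφ hle d)
  have c3 : ∀ b, F v (gD hK3 hφ hle b) = 1 := by
    intro b
    have := h.right htT hv (gD3 ((l ^ 3 - 1)⁻¹ * b)) (by rw [hD]; exact gD3 _) hv'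
    rwa [commD hK3 hφ hle (l3_ne hl7 hl1) hD] at this
  have c4 : F v (gE hK3 hφ hle) = 1 := by
    have := h.comm hv (gB_mem hK3 hφ hle 1) (gD3 1)
    have e : ⁅gB hK3 hφ hle 1, gD hK3 hφ hle 1⁆ = gE hK3 hφ hle := Subtype.ext comm_BD
    rwa [e] at this
  have c5 : F v (gF hK3 hφ hle) = 1 := by
    have := h.comm hv (gC_mem hK3 hφ hle 1) (gD3 1)
    have e : ⁅gC hK3 hφ hle 1, gD hK3 hφ hle 1⁆ = gF hK3 hφ hle := Subtype.ext comm_CD
    rwa [e] at this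
  have E3 : gE hK3 hφ hle ∈ VV K 3 := VV_le 1 (by norm_num) (gE_mem hK3 hφ hle)
  have F3 : gF hK3 hφ hle ∈ VV K 3 := VV_le 1 (by norm_num) (gF_mem hK3 hφ hle)
  have c6 : ∀ w ∈ VV K 1, F v w = 1 := by
    intro w hw
    rcases lev1 hK3 hφ hle hw with rfl | rfl | rfl | rfl
    · have := h.comm hv (one_mem _) (one_mem _)
      rwa [commutatorElement_one_right] at this
    · exact c4
    · exact c5
    · rw [h.mul_right v hv _ E3 _ F3, c4, c5, one_mul]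
  intro u hu
  obtain ⟨b, c, w, hw, rfl⟩ := lev3 hK3 hφ hle hu
  obtain ⟨d, w', hw', rfl⟩ := lev2 hK3 hφ hle hw
  have w3 : w' ∈ VV K 3 := VV_le 1 (by norm_num) hw'
  rw [h.mul_right v hv _ (mul_mem (gB_mem _ _ _ _) (gC_mem _ _ _ _)) _ (mul_mem (gD3 d) w3),
    h.mul_right v hv _ (gB_mem _ _ _ _) _ (gC_mem _ _ _ _), h.mul_right v hv _ (gD3 d) _ w3, c1, c2, c3, c6 _ hw',
    one_mul, one_mul]

theorem pair2 (hK : Fintype.card K = 2 ^ 3) {F : ↥(twistedD4 K 2) → ↥(twistedD4 K 2) → ℤˣ}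
    (h : Pair (VV K 3) (TT K hφ) (VV K 2) (VV K 1) F) : ∀ v ∈ VV K 2, ∀ u ∈ VV K 3, F v u = 1 := by
  obtain ⟨l, t, hl0, hl1, hl7, ht, hB, hC, hD, hE, hF⟩ := exists_t0 hK3 hφ hle hK
  have htT : t ∈ TT K hφ := Subgroup.mem_sup_left ht
  have hdT : dG hφ ∈ TT K hφ := Subgroup.mem_sup_right (Subgroup.mem_zpowers _)
  have gD2 : ∀ d, gD hK3 hφ hle d ∈ VV K 2 := gD_mem hK3 hφ hle
  have gD3 : ∀ d, gD hK3 hφ hle d ∈ VV K 3 := fun d => VV_mono 2 (gD_mem hK3 hφ hle d)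
  have m23 : ∀ {w}, w ∈ VV K 2 → w ∈ VV K 3 := fun hw => VV_mono 2 hw
  have d1 : ∀ d, ∀ w ∈ VV K 1, F (gD hK3 hφ hle d) w = 1 := by
    intro d w hw
    rw [h.symm _ (gD2 d) _ (VV_mono 1 hw)]
    exact h.one w hw _ (gD3 d)
  have d2 : ∀ d d', F (gD hK3 hφ hle d) (gD hK3 hφ hle d') = 1 := by
    refine eq_one_of_seven (f := fun d d' => F (gD hK3 hφ hle d) (gD hK3 hφ hle d')) (l3_seven hl7) (l3_ne hl7 hl1)
      ?_ ?_ ?_
    · intro x x' y
      show F (gD hK3 hφ hle (x + x')) _ = _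
      rw [gD_add, h.mul_left _ (gD2 x) _ (gD2 x') _ (gD3 y)]
    · intro x y y'
      show F _ (gD hK3 hφ hle (y + y')) = _
      rw [gD_add, h.mul_right _ (gD2 x) _ (gD3 y) _ (gD3 y')]
    · intro x y
      show F (gD hK3 hφ hle (l ^ 3 * x)) (gD hK3 hφ hle (l ^ 3 * y)) = _
      rw [← hD, ← hD, h.conj t htT _ (gD2 x) _ (gD3 y)]
  have d3 : ∀ d, ∀ w ∈ VV K 2, F (gD hK3 hφ hle d) w = 1 := by
    intro d w hw
    obtain ⟨d', w', hw', rfl⟩ := lev2 hK3 hφ hle hw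
    rw [h.mul_right _ (gD2 d) _ (gD3 d') _ (VV_le 1 (by norm_num) hw'), d2, d1 _ _ hw', one_mul]
  have d4 : ∀ d c, F (gD hK3 hφ hle d) (gC hK3 hφ hle c) = 1 := by
    intro d c
    obtain ⟨w, hw, e⟩ := x_conj_B' hK3 hφ hle c
    have h1 := h.right hdT (gD2 d) (gB_mem hK3 hφ hle c) (by
      rw [d_conj_B, e]
      exact mul_mem (mul_mem (gC_mem _ _ _ _) (m23 hw)) (gB_mem _ _ _ _)) (d_conj_D hK3 hφ hle d)
    rw [d_conj_B, e, mul_inv_cancel_right, h.mul_right _ (gD2 d) _ (gC_mem _ _ _ _) _ (m23 hw), d3 _ _ hw,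
      mul_one] at h1
    exact h1
  have d5 : ∀ d b, F (gD hK3 hφ hle d) (gB hK3 hφ hle b) = 1 := by
    intro d b
    obtain ⟨w, hw, w', hw', e⟩ := d_conj_C' hK3 hφ hle b
    have h1 := h.right hdT (gD2 d) (gC_mem hK3 hφ hle b) (by
      rw [e]
      exact mul_mem (mul_mem (mul_mem (mul_mem (gC_mem _ _ _ _) (m23 hw)) (gB_mem _ _ _ _)) (m23 hw'))
        (gC_mem _ _ _ _)) (d_conj_D hK3 hφ hle d)
    rw [e, mul_inv_cancel_right, h.mul_right _ (gD2 d) _ (mul_mem (mul_mem (gC_mem _ _ _ _) (m23 hw)) (gB_mem _ _ _ _))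
      _ (m23 hw'), h.mul_right _ (gD2 d) _ (mul_mem (gC_mem _ _ _ _) (m23 hw)) _ (gB_mem _ _ _ _),
      h.mul_right _ (gD2 d) _ (gC_mem _ _ _ _) _ (m23 hw), d3 _ _ hw, d3 _ _ hw', d4, one_mul, one_mul, mul_one] at h1
    exact h1
  intro v hv u hu
  obtain ⟨d, w, hw, rfl⟩ := lev2 hK3 hφ hle hv
  rw [h.mul_left _ (gD2 d) _ (VV_mono 1 hw) u hu, h.one w hw u hu, mul_one]
  obtain ⟨b, c, w, hw, rfl⟩ := lev3 hK3 hφ hle hu
  rw [h.mul_right _ (gD2 d) _ (mul_mem (gB_mem _ _ _ _) (gC_mem _ _ _ _)) _ (m23 hw),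
    h.mul_right _ (gD2 d) _ (gB_mem _ _ _ _) _ (gC_mem _ _ _ _), d3 _ _ hw, d4, d5, one_mul, one_mul]

theorem pair3 (hK : Fintype.card K = 2 ^ 3) {F : ↥(twistedD4 K 2) → ↥(twistedD4 K 2) → ℤˣ}
    (h : Pair (VV K 3) (TT K hφ) (VV K 3) (VV K 2) F) : ∀ v ∈ VV K 3, ∀ u ∈ VV K 3, F v u = 1 := by
  obtain ⟨l, t, hl0, hl1, hl7, ht, hB, hC, hD, hE, hF⟩ := exists_t0 hK3 hφ hle hK
  have htT : t ∈ TT K hφ := Subgroup.mem_sup_left ht
  have m23 : ∀ {w}, w ∈ VV K 2 → w ∈ VV K 3 := fun hw => VV_mono 2 hw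
  -- the general argument
  have gen : ∀ (f g : K → ↥(twistedD4 K 2)), (∀ x, f x ∈ VV K 3) → (∀ x, g x ∈ VV K 3) →
      (∀ x y, f (x + y) = f x * f y) → (∀ x y, g (x + y) = g x * g y) → (∀ x, t * f x * t⁻¹ = f (l * x)) →
      (∀ x, t * g x * t⁻¹ = g (l * x)) → ∀ x y, F (f x) (g y) = 1 := by
    intro f g hf hg hfa hga hft hgt
    refine eq_one_of_seven (f := fun x y => F (f x) (g y)) hl7 hl1 ?_ ?_ ?_
    · intro x x' y
      show F (f (x + x')) _ = _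
      rw [hfa, h.mul_left _ (hf x) _ (hf x') _ (hg y)]
    · intro x y y'
      show F _ (g (y + y')) = _
      rw [hga, h.mul_right _ (hf x) _ (hg y) _ (hg y')]
    · intro x y
      show F (f (l * x)) (g (l * y)) = _
      rw [← hft, ← hgt, h.conj t htT _ (hf x) _ (hg y)]
  have bB := gB_mem hK3 hφ hle
  have bC := gC_mem hK3 hφ hle
  have aB := gB_add hK3 hφ hle
  have aC := gC_add hK3 hφ hle
  have key : ∀ v ∈ VV K 3, ∀ u ∈ VV K 3, (∀ x, F v (gB hK3 hφ hle x) = 1) → (∀ x, F v (gC hK3 hφ hle x) = 1) →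
      F v u = 1 := by
    intro v hv u hu h1 h2
    obtain ⟨b, c, w, hw, rfl⟩ := lev3 hK3 hφ hle hu
    rw [h.mul_right v hv _ (mul_mem (bB b) (bC c)) _ (m23 hw), h.mul_right v hv _ (bB b) _ (bC c), h1, h2,
      h.symm v hv w (m23 hw), h.one w hw v hv, one_mul, one_mul]
  intro v hv u hu
  obtain ⟨b, c, w, hw, rfl⟩ := lev3 hK3 hφ hle hv
  rw [h.mul_left _ (mul_mem (bB b) (bC c)) _ (m23 hw) u hu, h.mul_left _ (bB b) _ (bC c) u hu, h.one w hw u hu,
    mul_one, key _ (bB b) u hu (gen _ _ bB bB aB aB hB hB b) (gen _ _ bB bC aB aC hB hC b),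
    key _ (bC c) u hu (gen _ _ bC bB aC aB hC hB c) (gen _ _ bC bC aC aC hC hC c), one_mul]

/-! ### the end -/

omit hK3 hle in
theorem x_inv_d : (gx hφ)⁻¹ * dG hφ * gx hφ = (dG hφ)⁻¹ := by
  apply Subtype.ext
  show (xG 14 1 : GL chevD4.Idx K)⁻¹ * (xG 14 1 * xG 9 1) * xG 14 1 = (xG 14 1 * xG 9 1)⁻¹
  rw [inv_mul_cancel_left, mul_inv_rev, xG_inv', xG_inv']

omit hK3 in
include hφ in
theorem T1_comm_x {t : ↥(twistedD4 K 2)} (ht : t ∈ T1 K) :
    (t : GL chevD4.Idx K) * xG 14 1 * (t : GL chevD4.Idx K)⁻¹ = xG 14 1 := by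
  have h1 : (t : GL chevD4.Idx K) * xG 14 1 * (t : GL chevD4.Idx K)⁻¹ ∈ fix φ :=
    conj_fix (hle t.2) (hle (x_mem hφ))
  obtain ⟨c, hc⟩ := diagonal_le_torus K ht
  have hc' : (t : GL chevD4.Idx K) = torG c := hc
  rw [hc'] at h1 ⊢
  rw [torG_conj c (by norm_num), mul_one, mem_fix, sig_14] at h1
  have h2 : φ (chi c 14) = chi c 14 := xG_injective (by norm_num) h1
  have h3 : chi c 14 = 1 := (fixed_cases hφ h2).resolve_left (chi_ne_zero c 14)
  rw [torG_conj c (by norm_num), h3, mul_one]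

omit hK3 in
theorem x_norm_TT (t : ↥(twistedD4 K 2)) (ht : t ∈ TT K hφ) : (gx hφ)⁻¹ * t * gx hφ ∈ TT K hφ := by
  have h1 : TT K hφ ≤ (TT K hφ).comap (MulAut.conj (gx hφ)⁻¹).toMonoidHom := by
    refine sup_le ?_ ?_
    · intro t ht
      rw [Subgroup.mem_comap]
      show (gx hφ)⁻¹ * t * ((gx hφ)⁻¹)⁻¹ ∈ TT K hφ
      have h2 := T1_comm_x hφ hle ht
      have e : (gx hφ)⁻¹ * t * ((gx hφ)⁻¹)⁻¹ = t := by
        apply Subtype.ext
        show (xG 14 1 : GL chevD4.Idx K)⁻¹ * (t : GL chevD4.Idx K) * ((xG 14 1 : GL chevD4.Idx K)⁻¹)⁻¹ =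
          (t : GL chevD4.Idx K)
        rw [mul_inv_eq_iff_eq_mul] at h2
        rw [inv_inv, mul_assoc, h2, inv_mul_cancel_left]
      rw [e]
      exact Subgroup.mem_sup_left ht
    · rw [Subgroup.zpowers_le, Subgroup.mem_comap]
      show (gx hφ)⁻¹ * dG hφ * ((gx hφ)⁻¹)⁻¹ ∈ TT K hφ
      rw [inv_inv, x_inv_d]
      exact inv_mem (Subgroup.mem_sup_right (Subgroup.mem_zpowers _))
  have h2 := h1 ht
  rw [Subgroup.mem_comap] at h2
  have h3 : (gx hφ)⁻¹ * t * ((gx hφ)⁻¹)⁻¹ ∈ TT K hφ := h2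
  rwa [inv_inv] at h3

theorem exists_W (hK : Fintype.card K = 2 ^ 3) {L : Type} [Group L] [Finite L] {π : L →* ↥(twistedD4 K 2)} {c : L}
    (hd : Dbl π c) : ∃ W : Subgroup L, Cpl π c (VV K 3) (TT K hφ) (VV K 3) W := by
  have hodd := odd_TT hK hφ hle
  have hfin : Finite ↥(twistedD4 K 2) := inferInstance
  have hTV : ∀ i ≤ 3, ∀ t ∈ TT K hφ, ∀ v ∈ VV K i, t * v * t⁻¹ ∈ VV K i := by
    intro i hi t ht v hv
    exact ((Subgroup.mem_normalizer_iff.1 (TT_norm hφ i hi ht)) v).1 hv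
  refine exists_compl_of_chain hd hodd (VV K) 3 VV_zero VV_le (fun i _ => VV_mono i) (hTV 3 le_rfl) hTV VV_comm
    (gen hK3 hφ hle hK) ?_
  intro i hi F hF
  interval_cases i
  · exact pair1 hK3 hφ hle hK hF
  · exact pair2 hK3 hφ hle hK hF
  · exact pair3 hK3 hφ hle hK hF

theorem gen_VV3 (hK : Fintype.card K = 2 ^ 3) : ∀ v ∈ VV K 3,
    v ∈ Subgroup.closure {x : ↥(twistedD4 K 2) | ∃ t ∈ TT K hφ, ∃ v ∈ VV K 3, x = t * v * t⁻¹ * v⁻¹} :=
  gen_of_chain (TT K hφ) (VV K) 3 VV_zero (fun i _ => VV_mono i) (gen hK3 hφ hle hK)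

/-- `x` is conjugate to `F` -/
theorem isConj_x : IsConj (gx hφ) (gF hK3 hφ hle) := by
  have h1 : (nb K : GL chevD4.Idx K) * xG 14 1 * (nb K)⁻¹ = xG 22 1 := by
    obtain ⟨a, ha⟩ := nb_conj (K := K) (s := 14) (by norm_num) 1
    rw [show rb 14 = 22 by decide +kernel] at ha
    have h2 : (nb K : GL chevD4.Idx K) * xG 14 1 * (nb K)⁻¹ ∈ fix φ :=
      conj_fix (hle (nb_mem hφ)) (hle (x_mem hφ))
    rw [ha]
    rw [ha, mem_fix, sig_22] at h2
    have h3 : φ a = a := xG_injective (by norm_num) h2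
    rcases fixed_cases hφ h3 with rfl | rfl
    · exfalso
      rw [xG_zero, mul_inv_eq_one] at ha
      have : (xG 14 (1 : K) : GL chevD4.Idx K) = 1 := by
        have h4 : (nb K : GL chevD4.Idx K) * xG 14 1 = nb K * 1 := by rw [ha, mul_one]
        exact mul_left_cancel h4
      rw [xG_eq_one_iff (by norm_num)] at this
      exact one_ne_zero this
    · rfl
  rw [isConj_iff]
  refine ⟨gn hφ * ⟨nb K, nb_mem hφ⟩, ?_⟩
  apply Subtype.ext
  show na K * nb K * xG 14 1 * (na K * nb K)⁻¹ = xG 23 1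
  have e : na K * nb K * xG 14 1 * (na K * nb K)⁻¹ = na K * (nb K * xG 14 1 * (nb K)⁻¹) * (na K)⁻¹ := by group
  rw [e, h1]
  exact n_conj (s := 22) (by norm_num) 1

omit hK3 hle in
theorem gx_sq : gx hφ * gx hφ = 1 := Subtype.ext (xG_sq 14 1)

omit hK3 hle in
theorem gx_inv : (gx hφ)⁻¹ = gx hφ := inv_eq_of_mul_eq_one_left (gx_sq hφ)

variable (K) in
/-- the Sylow 2-subgroup -/
def UU : Subgroup ↥(twistedD4 K 2) := (chevD4.posUnipotent K).subgroupOf (twistedD4 K 2)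

theorem lev4 {v : ↥(twistedD4 K 2)} (hv : v ∈ UU K) : v ∈ VV K 3 ∨ v * gx hφ ∈ VV K 3 := by
  have hv' : (v : GL chevD4.Idx K) ∈ chevD4.posUnipotent K := hv
  obtain ⟨a, b, c, d, e, f, ha, he, hf, hg⟩ := (mem_U_inf_iff hK3 hφ hle (v : GL chevD4.Idx K)).1 ⟨hv', v.2⟩
  rw [elt_eq_xx] at hg
  let w : ↥(twistedD4 K 2) := gB hK3 hφ hle b * gC hK3 hφ hle c * gD hK3 hφ hle d *
    (gX hK3 hφ hle 4 e (fun _ => he) * gX hK3 hφ hle 5 f (fun _ => hf))
  have hw : w ∈ VV K 3 := by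
    refine mul_mem (mul_mem (mul_mem (gB_mem _ _ _ _) (gC_mem _ _ _ _)) (VV_mono 2 (gD_mem _ _ _ _))) ?_
    refine VV_le 1 (by norm_num) ?_
    exact mul_mem (xG_mem_RS (l := [22, 23]) (by decide) _) (xG_mem_RS (l := [22, 23]) (by decide) _)
  rcases fixed_cases hφ ha with rfl | rfl
  · left
    have e1 : v = w := by
      apply Subtype.ext
      rw [hg, xx_zero]
      show _ = xx φ 1 b * xx φ 2 c * xx φ 3 d * (xx φ 4 e * xx φ 5 f)
      simp only [mul_assoc, one_mul]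
    rwa [e1]
  · right
    have e1 : v = gx hφ * w := by
      apply Subtype.ext
      rw [hg]
      show _ = xG 14 1 * (xx φ 1 b * xx φ 2 c * xx φ 3 d * (xx φ 4 e * xx φ 5 f))
      simp only [mul_assoc]
      rfl
    have h1 := x_VV hφ 3 le_rfl hw
    rwa [gx_inv, ← e1] at h1

omit hK3 hle in
theorem gx_not_mem : gx hφ ∉ VV K 3 := by
  intro h
  have h1 : (xG 14 1 : GL chevD4.Idx K) ∈ RS K [18, 13, 12, 19, 16, 15, 21, 17, 20, 22, 23] := h
  have h2 := lprod_suffix (l := [18, 13, 12, 19, 16, 15, 21, 17, 20, 22, 23]) (p := [14]) rfl h1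
    (t := fun r => if r = 14 then 1 else 0) (by
      unfold ordA
      simp only [lprod_cons, lprod_nil]
      norm_num [xG_zero]) 14 (by decide)
  simp at h2

omit hK3 hφ hle [CharP K 2] in
theorem odd_index (hK : Fintype.card K = 2 ^ 3) : ¬ 2 ∣ (UU K).index := by
  have hq : IsPrimePow 2 := Nat.prime_two.isPrimePow
  have hfin : Finite ↥(twistedD4 K 2) := inferInstance
  have h1 := Cfsg.Agent.S1067.result hq hK
  have h2 : Nat.card (UU K) = 2 ^ 12 := by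
    have h3 : Nat.card ↥(UU K) = Nat.card ↥(chevD4.posUnipotent K ⊓ twistedD4 K 2) := by
      unfold UU
      rw [← Subgroup.inf_subgroupOf_right]
      exact Nat.card_congr (Subgroup.subgroupOfEquivOfLe inf_le_right).toEquiv
    rw [h3, card_U1 hq hK]
  have h3 := (UU K).card_mul_index
  rw [h1, h2] at h3
  have h4 : (UU K).index = (2 ^ 2 - 1) * (2 ^ 6 - 1) * (2 ^ 8 + 2 ^ 4 + 1) := by
    have h5 : 2 ^ 12 * (UU K).index = 2 ^ 12 * ((2 ^ 2 - 1) * (2 ^ 6 - 1) * (2 ^ 8 + 2 ^ 4 + 1)) := by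
      rw [h3]; ring
    exact Nat.eq_of_mul_eq_mul_left (by norm_num) h5
  rw [h4]
  norm_num

include hφ hK3 hle in
theorem noDouble_aux (hK : Fintype.card K = 2 ^ 3) : NoDouble ↥(twistedD4 K 2) := by
  intro L _ _ π c hd
  obtain ⟨W, hW⟩ := exists_W hK3 hφ hle hK hd
  obtain ⟨a, ha⟩ := hd.surj (gx hφ)
  have hg := gen_VV3 hK3 hφ hle hK
  have hcV : ∀ v ∈ VV K 3, gx hφ * v * (gx hφ)⁻¹ ∈ VV K 3 := fun v hv => x_VV hφ 3 le_rfl hv
  have hcV' : ∀ v ∈ VV K 3, (gx hφ)⁻¹ * v * gx hφ ∈ VV K 3 := fun v hv => by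
    have := hcV v hv
    rwa [gx_inv] at this ⊢
  have hcT' : ∀ t ∈ TT K hφ, gx hφ * t * (gx hφ)⁻¹ ∈ TT K hφ := fun t ht => by
    have := x_norm_TT hφ hle t ht
    rwa [gx_inv] at this ⊢
  have haW : ∀ w ∈ W, a * w * a⁻¹ ∈ W := by
    apply hW.conj_mem hd hg
    · rw [ha]; exact hcV'
    · rw [ha]; exact x_norm_TT hφ hle
    · rw [ha]; exact hcV
    · rw [ha]; exact hcV'
  have haW' : ∀ w ∈ W, a⁻¹ * w * a ∈ W := by
    have key : ∀ w ∈ W, a⁻¹ * w * (a⁻¹)⁻¹ ∈ W := by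
      apply hW.conj_mem hd hg
      · rw [map_inv, ha, inv_inv]; exact hcV
      · rw [map_inv, ha, inv_inv]; exact hcT'
      · rw [map_inv, ha, inv_inv]; exact hcV'
      · rw [map_inv, ha, inv_inv]; exact hcV
    intro w hw
    have := key w hw
    rwa [inv_inv] at this
  -- `a² = 1`
  have hsq : a * a = 1 := by
    obtain ⟨g, hgx⟩ := isConj_iff.1 (isConj_x hK3 hφ hle)
    obtain ⟨g', rfl⟩ := hd.surj g
    have hf : π (g' * a * g'⁻¹) = gF hK3 hφ hle := by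
      rw [map_mul, map_mul, map_inv, ha, hgx]
    have hFF : gF hK3 hφ hle * gF hK3 hφ hle = 1 := Subtype.ext (xG_sq 23 1)
    have h1 : π ((g' * a * g'⁻¹) * (g' * a * g'⁻¹)) = 1 := by rw [map_mul, hf, hFF]
    have h2 : (g' * a * g'⁻¹) * (g' * a * g'⁻¹) ∈ W := by
      have h3 : π (g' * a * g'⁻¹) ∈ VV K 3 := by
        rw [hf]; exact VV_le 1 (by norm_num) (gF_mem _ _ _)
      rcases hW.cov _ h3 with h4 | h4
      · exact mul_mem h4 h4
      · have h5 := mul_mem h4 h4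
        have e : c * (g' * a * g'⁻¹) * (c * (g' * a * g'⁻¹)) = (c * c) * ((g' * a * g'⁻¹) * (g' * a * g'⁻¹)) := by
          rw [mul_assoc c, ← mul_assoc (g' * a * g'⁻¹) c, ← hd.cen (g' * a * g'⁻¹)]
          simp only [mul_assoc]
        rwa [e, hd.sq, one_mul] at h5
    have h3 : (g' * a * g'⁻¹) * (g' * a * g'⁻¹) = 1 := by
      rcases (hd.ker _).1 h1 with h4 | h4
      · exact h4
      · rw [h4] at h2; exact absurd h2 hW.not_mem
    have e : (g' * a * g'⁻¹) * (g' * a * g'⁻¹) = g' * (a * a) * g'⁻¹ := by group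
    rw [e, mul_inv_eq_one] at h3
    exact mul_left_cancel (h3.trans (mul_one g').symm)
  have hinv : a⁻¹ = a := inv_eq_of_mul_eq_one_left hsq
  let P₁ : Subgroup L :=
    { carrier := {g | g ∈ W ∨ g * a ∈ W}
      one_mem' := Or.inl (one_mem _)
      mul_mem' := by
        intro g g' hg hg'
        rcases hg with hg | hg <;> rcases hg' with hg' | hg'
        · exact Or.inl (mul_mem hg hg')
        · right
          rw [mul_assoc]; exact mul_mem hg hg'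
        · right
          have e : g * g' * a = (g * a) * (a⁻¹ * g' * a) := by group
          rw [e]; exact mul_mem hg (haW' _ hg')
        · left
          have e : g * g' = (g * a) * (a⁻¹ * (g' * a) * a) * (a * a)⁻¹ := by group
          rw [e, hsq, inv_one, mul_one]
          exact mul_mem hg (haW' _ hg')
      inv_mem' := by
        intro g hg
        rcases hg with hg | hg
        · exact Or.inl (inv_mem hg)
        · right
          have h1 := inv_mem (haW _ hg)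
          have e : (a * (g * a) * a⁻¹)⁻¹ = g⁻¹ * a⁻¹ := by group
          rw [e, hinv] at h1
          exact h1 }
  have hfin : Finite ↥(twistedD4 K 2) := inferInstance
  refine hd.toCtr.false_of_compl (P := (UU K).comap π) (P₁ := P₁) ?_ ?_ ?_ ?_
  · show π c ∈ UU K
    rw [(hd.ker c).2 (Or.inr rfl)]; exact one_mem _
  · rw [Subgroup.index_comap_of_surjective _ hd.surj]
    exact odd_index hK
  · intro h
    rcases h with h | h
    · exact hW.not_mem h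
    · have h1 := hW.le _ h
      rw [map_mul, (hd.ker c).2 (Or.inr rfl), one_mul, ha] at h1
      exact gx_not_mem hφ h1
  · intro x hx
    rcases lev4 hK3 hφ hle (v := π x) hx with h1 | h1
    · rcases hW.cov x h1 with h2 | h2
      · exact Or.inl (Or.inl h2)
      · exact Or.inr (Or.inl h2)
    · rw [← ha, ← map_mul] at h1
      rcases hW.cov (x * a) h1 with h2 | h2
      · exact Or.inl (Or.inr h2)
      · refine Or.inr (Or.inr ?_)
        rwa [mul_assoc]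

end Main

/-- **³D₄(2) has no perfect double cover.** -/
theorem noDouble {K : Type*} [Field K] [Fintype K] (hK : Fintype.card K = 2 ^ 3) : NoDouble ↥(twistedD4 K 2) := by
  have hc : CharP K 2 := charP_of_card_eq_prime_pow hK
  obtain ⟨φ, hφ⟩ := D4Fixed.exists_frob Nat.prime_two.isPrimePow hK
  have hK3 : ∀ t : K, φ (φ (φ t)) = t := by
    intro t
    rw [hφ, hφ, hφ, ← pow_mul, ← pow_mul]
    have h1 : 2 * (2 * 2) = Fintype.card K := by rw [hK]; norm_num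
    rw [h1]
    exact FiniteField.pow_card t
  exact noDouble_aux hK3 hφ (twisted_le_fix hK hφ) hK

end Cfsg.Agent.KFacts.Mult.ThreeD4Two

end

-- merged: Cfsg.Agent.KFacts.Mult.ThreeD4Big
section

/-!
# ³D₄(q), q even, has no perfect double cover

`noDouble` for `q = 2^a`, `a ≥ 2`; `d43` for all `a ≥ 1`.
-/

set_option autoImplicit false
set_option linter.unusedSectionVars false

namespace Cfsg.Agent.KFacts.Mult.ThreeD4Big

open Cfsg.Lie Subgroup
open Cfsg.Agent.Schreier.ThreeD4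
open Cfsg.Agent.ChevalleyStructure.D4Fixed (sig coe_sig fix mem_fix twisted_le_fix twisted_induction)
open Cfsg.Agent.ChevalleyStructure.D4Cols (xU coe_xU wU)
open Cfsg.Agent.ChevalleyStructure
open Cfsg.Agent.ChevalleyStructure.D4Comm
open Cfsg.Agent.ChevalleyStructure.D4CommTab
open Cfsg.Agent.ChevalleyStructure.D4Pos
open Cfsg.Agent.ChevalleyStructure.D4NCheck
open Cfsg.Agent.ChevalleyStructure.D4NConj (nR nR_def nG nG_conj nG_def hR hR_def nR_eq nR_inv xG_inv torG torG_conj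
  torG_mul torG_one chi chi_def chi_ne_zero dv_def hR_eq_torG)
open Cfsg.Agent.ChevalleyStructure.TwistedU
open Cfsg.Agent.ChevalleyStructure.D4U
open Cfsg.Agent.ChevalleyStructure.D4RGD
open Cfsg.Agent.ChevalleyStructure.D4Twisted
open Cfsg.Agent.KFacts.Mult.D4Base
open Cfsg.Agent.KFacts.Mult.ThreeD4Two (xcomm n_inv_conj)
open Cfsg.Agent.KFacts.MulDef Cfsg.Agent.KFacts.MulTwo Cfsg.Agent.KFacts.Mult.WeightsTwo
  Cfsg.Agent.KFacts.Mult.RGDW
open scoped commutatorElement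

/-! ### Arithmetic -/

/-- A power with the same `p`-part. -/
theorem exists_ppart {G : Type*} [Group G] [Finite G] {p : ℕ} (hp : p.Prime) (g : G) (j : ℕ) :
    ∃ N k : ℕ, N ≡ 1 [MOD p ^ j] ∧ (g ^ N) ^ p ^ k = 1 := by
  obtain ⟨k, m, hm, ho⟩ := Nat.exists_eq_pow_mul_and_not_dvd (orderOf_pos g).ne' p hp.ne_one
  have hco : (p ^ j).Coprime m := ((Nat.Prime.coprime_iff_not_dvd hp).2 hm).pow_left j
  obtain ⟨N, h1, h2⟩ := Nat.chineseRemainder hco 1 0
  refine ⟨N, k, h1, ?_⟩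
  rw [← pow_mul]
  apply orderOf_dvd_iff_pow_eq_one.1
  rw [ho, mul_comm]
  exact Nat.mul_dvd_mul ((Nat.modEq_zero_iff_dvd).1 h2) (dvd_refl _)

theorem pow_of_modEq {K : Type*} [Monoid K] {p j : ℕ} {N : ℕ} (hN : N ≡ 1 [MOD p ^ j]) {c : K}
    (hc : c ^ p ^ j = 1) : c ^ N = c := by
  have h1 : N % orderOf c = 1 % orderOf c := hN.of_dvd (orderOf_dvd_of_pow_eq_one hc)
  rw [← pow_mod_orderOf, h1, pow_mod_orderOf, pow_one]

section Field

variable {K : Type*} [Field K] [Finite K] {q : ℕ} {φ : K →+* K}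

/-- the parameters: `r` of order `p` in `F_q`, `l` of `p`-power order with norm `r²` -/
theorem exists_params (hq : 1 < q) (hodd : Odd (q - 1)) (hK : Nat.card K = q ^ 3) (hφ : ∀ x, φ x = x ^ q)
    (h3 : 3 ≤ q) :
    ∃ p : ℕ, p.Prime ∧ Odd p ∧ ∃ r l : K, r ≠ 0 ∧ l ≠ 0 ∧ φ r = r ∧ orderOf r = p ∧ (∃ j, l ^ p ^ j = 1) ∧
      l * φ l * φ (φ l) = r * r := by
  obtain ⟨p, hp, hpq⟩ := Nat.exists_prime_and_dvd (n := q - 1) (by omega)
  have hpodd : Odd p := Odd.of_dvd_nat hodd hpq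
  have := Fact.mk hp
  have hdiv : q - 1 ∣ q ^ 3 - 1 := by simpa using Nat.sub_dvd_pow_sub_pow q 1 3
  obtain ⟨r, hr0, hr⟩ := Num.exists_orderOf (K := K) (p := p) (by rw [hK]; exact hpq.trans hdiv)
  have hrq : r ^ (q - 1) = 1 := orderOf_dvd_iff_pow_eq_one.1 (hr ▸ hpq)
  have hφr : φ r = r := by
    rw [hφ]
    have : q = (q - 1) + 1 := by omega
    rw [this, pow_succ, hrq, one_mul]
  -- the norm is onto
  obtain ⟨g, hg⟩ := IsCyclic.exists_generator (α := Kˣ)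
  obtain ⟨k, hk⟩ : ∃ k : ℕ, g ^ k = (Units.mk0 r hr0) * (Units.mk0 r hr0) := by
    obtain ⟨k, hk⟩ := (mem_powers_iff_mem_zpowers.2 (hg (Units.mk0 r hr0 * Units.mk0 r hr0)))
    exact ⟨k, hk⟩
  have hog : orderOf g = q ^ 3 - 1 := by
    rw [orderOf_eq_card_of_forall_mem_zpowers hg, Nat.card_units, hK]
  have hfac : q ^ 3 - 1 = (q ^ 2 + q + 1) * (q - 1) := by
    obtain ⟨n, rfl⟩ : ∃ n, q = n + 1 := ⟨q - 1, by omega⟩
    have : (n + 1) ^ 3 = ((n + 1) ^ 2 + (n + 1) + 1) * n + 1 := by ring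
    rw [this]
    simp
  have hkd : q ^ 2 + q + 1 ∣ k := by
    have h1 : g ^ (k * (q - 1)) = 1 := by
      rw [pow_mul, hk, mul_pow]
      have h2 : (Units.mk0 r hr0) ^ (q - 1) = 1 := Units.ext (by
        rw [Units.val_pow_eq_pow_val, Units.val_mk0, hrq, Units.val_one])
      rw [h2, one_mul]
    have h2 := orderOf_dvd_of_pow_eq_one h1
    rw [hog, hfac] at h2
    exact Nat.dvd_of_mul_dvd_mul_right (by omega) h2
  obtain ⟨m, rfl⟩ := hkd
  obtain ⟨N, j, hN, hj⟩ := exists_ppart hp (g ^ m) 1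
  rw [pow_one] at hN
  refine ⟨p, hp, hpodd, r, (((g ^ m) ^ N : Kˣ) : K), hr0, Units.ne_zero _, hφr, hr, ⟨j, ?_⟩, ?_⟩
  · rw [← Units.val_pow_eq_pow_val, hj, Units.val_one]
  · rw [hφ, hφ]
    have e1 : (((g ^ m) ^ N : Kˣ) : K) * (((g ^ m) ^ N : Kˣ) : K) ^ q * ((((g ^ m) ^ N : Kˣ) : K) ^ q) ^ q =
        ((g ^ ((q ^ 2 + q + 1) * m) : Kˣ) : K) ^ N := by
      simp only [Units.val_pow_eq_pow_val]
      ring
    rw [e1, hk]
    simp only [Units.val_mul, Units.val_mk0]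
    have h2 : (r * r) ^ p = 1 := by rw [mul_pow, ← hr, pow_orderOf_eq_one, one_mul]
    exact pow_of_modEq (j := 1) (by rwa [pow_one]) (by rwa [pow_one])

end Field

section Main

variable {K : Type*} [Field K] [Finite K] [CharP K 2] {q : ℕ} {φ : K →+* K}

/-- the standard element with coordinates `a` -/
noncomputable def E (φ : K →+* K) (a : Fin 6 → K) : GL chevD4.Idx K :=
  xx φ 0 (a 0) * xx φ 1 (a 1) * xx φ 2 (a 2) * xx φ 3 (a 3) * xx φ 4 (a 4) * xx φ 5 (a 5)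

theorem E_eq (a : Fin 6 → K) : E φ a = elt φ (a 0) (a 1) (a 2) (a 3) (a 4) (a 5) := (elt_eq_xx φ _ _ _ _ _ _).symm

theorem E_inj {a b : Fin 6 → K} (h : E φ a = E φ b) : a = b := by
  rw [E_eq, E_eq] at h
  obtain ⟨h0, h1, h2, h3, h4, h5⟩ := elt_inj h
  funext i
  fin_cases i
  exacts [h0, h1, h2, h3, h4, h5]

theorem E_single (i : Fin 6) (a : K) : E φ (Pi.single i a) = xx φ i a := by
  unfold E
  fin_cases i <;> simp [xx_zero]

theorem conj_six {G : Type*} [Group G] (g a b c d e f : G) : g * (a * b * c * d * e * f) * g⁻¹ =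
    (g * a * g⁻¹) * (g * b * g⁻¹) * (g * c * g⁻¹) * (g * d * g⁻¹) * (g * e * g⁻¹) * (g * f * g⁻¹) := by
  group

/-- `h` acts on the root groups by the characters `c` -/
def Acts (φ : K →+* K) (h : GL chevD4.Idx K) (c : Fin 6 → K) : Prop :=
  (∀ i, c i ≠ 0) ∧ (∀ i a, dm φ i a → dm φ i (c i * a)) ∧ ∀ i a, h * xx φ i a * h⁻¹ = xx φ i (c i * a)

theorem dm_iff {i : Fin 6} {c : K} (h : ∀ a, dm φ i a → dm φ i (c * a)) : dm φ i c := by
  have := h 1 (fun _ => map_one φ)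
  rwa [mul_one] at this

theorem dm_mul_dm {i : Fin 6} {a b : K} (ha : dm φ i a) (hb : dm φ i b) : dm φ i (a * b) := fun hi => by
  rw [map_mul, ha hi, hb hi]

theorem Acts.one : Acts φ (1 : GL chevD4.Idx K) 1 := ⟨fun _ => one_ne_zero, fun i a h => by simpa using h,
  fun i a => by simp⟩

theorem Acts.mul {g h : GL chevD4.Idx K} {c d : Fin 6 → K} (hg : Acts φ g c) (hh : Acts φ h d) :
    Acts φ (g * h) (c * d) := by
  refine ⟨fun i => mul_ne_zero (hg.1 i) (hh.1 i), fun i a ha => ?_, fun i a => ?_⟩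
  · rw [Pi.mul_apply, mul_assoc]; exact hg.2.1 i _ (hh.2.1 i a ha)
  · have e : g * h * xx φ i a * (g * h)⁻¹ = g * (h * xx φ i a * h⁻¹) * g⁻¹ := by group
    rw [e, hh.2.2, hg.2.2, Pi.mul_apply, mul_assoc]

theorem Acts.inv {g : GL chevD4.Idx K} {c : Fin 6 → K} (hg : Acts φ g c) : Acts φ g⁻¹ c⁻¹ := by
  refine ⟨fun i => inv_ne_zero (hg.1 i), fun i a ha => ?_, fun i a => ?_⟩
  · intro hi
    rw [Pi.inv_apply, map_mul, map_inv₀, dm_iff (hg.2.1 i) hi, ha hi]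
  · have h1 := hg.2.2 i (c⁻¹ i * a)
    rw [Pi.inv_apply, mul_inv_cancel_left₀ (hg.1 i)] at h1
    rw [Pi.inv_apply, ← h1]
    group

theorem Acts.pow {g : GL chevD4.Idx K} {c : Fin 6 → K} (hg : Acts φ g c) (n : ℕ) : Acts φ (g ^ n) (c ^ n) := by
  induction n with
  | zero => rw [pow_zero, pow_zero]; exact Acts.one
  | succ n ih => rw [pow_succ, pow_succ]; exact ih.mul hg

theorem Acts.conj_E {g : GL chevD4.Idx K} {c : Fin 6 → K} (hg : Acts φ g c) (a : Fin 6 → K) :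
    g * E φ a * g⁻¹ = E φ (c * a) := by
  unfold E
  rw [conj_six, hg.2.2, hg.2.2, hg.2.2, hg.2.2, hg.2.2, hg.2.2]
  rfl

theorem diag_comm {g k : GL chevD4.Idx K} (hg : g ∈ chevD4.diagonalSubgroup K) (hk : k ∈ chevD4.diagonalSubgroup K) :
    g * k = k * g := by
  obtain ⟨c, rfl⟩ := diagonal_le_torus K hg
  obtain ⟨d, rfl⟩ := diagonal_le_torus K hk
  rw [torG_mul, torG_mul, mul_comm]

/-- the torus used -/
def TT (φ : K →+* K) (q p : ℕ) : Subgroup ↥(twistedD4 K q) where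
  carrier := {h | (h : GL chevD4.Idx K) ∈ chevD4.diagonalSubgroup K ∧ (∃ c, Acts φ (h : GL chevD4.Idx K) c) ∧
    ∃ k, h ^ p ^ k = 1}
  one_mem' := ⟨one_mem _, ⟨1, Acts.one⟩, 0, one_pow _⟩
  mul_mem' := by
    rintro a b ⟨ha, ⟨c, hc⟩, k, hk⟩ ⟨hb, ⟨d, hd⟩, l, hl⟩
    refine ⟨mul_mem ha hb, ⟨_, hc.mul hd⟩, k + l, ?_⟩
    have hab : Commute a b := Subtype.ext (diag_comm ha hb)
    rw [hab.mul_pow, pow_add, pow_mul, hk, one_pow, one_mul, mul_comm (p ^ k), pow_mul, hl, one_pow]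
  inv_mem' := by
    rintro a ⟨ha, ⟨c, hc⟩, k, hk⟩
    exact ⟨inv_mem ha, ⟨_, hc.inv⟩, k, by rw [inv_pow, hk, inv_one]⟩

/-- the root groups -/
def VV (φ : K →+* K) (q : ℕ) (i : Fin 6) : Subgroup ↥(twistedD4 K q) where
  carrier := {g | ∃ a, dm φ i a ∧ (g : GL chevD4.Idx K) = xx φ i a}
  one_mem' := ⟨0, fun _ => map_zero φ, (xx_zero φ i).symm⟩
  mul_mem' := by
    rintro g h ⟨a, ha, hg⟩ ⟨b, hb, hh⟩
    exact ⟨a + b, fun hi => by rw [map_add, ha hi, hb hi], by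
      rw [Subgroup.coe_mul, hg, hh, xx_add]⟩
  inv_mem' := by
    rintro g ⟨a, ha, hg⟩
    exact ⟨-a, neg_xx i ha, by rw [Subgroup.coe_inv, hg, xx_neg]⟩

variable (K) in
/-- the Sylow 2-subgroup -/
def UU (q : ℕ) : Subgroup ↥(twistedD4 K q) := (chevD4.posUnipotent K).subgroupOf (twistedD4 K q)

/-- Frobenius data -/
structure Fr (φ : K →+* K) (q : ℕ) : Prop where
  three : ∀ t : K, φ (φ (φ t)) = t
  pow : ∀ x, φ x = x ^ q
  le : twistedD4 K q ≤ fix φ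

theorem Fr.mem_UU (H : Fr φ q) {u : ↥(twistedD4 K q)} : u ∈ UU K q ↔
    ∃ a : Fin 6 → K, (∀ i, dm φ i (a i)) ∧ (u : GL chevD4.Idx K) = E φ a := by
  constructor
  · intro hu
    obtain ⟨a, b, c, d, e, f, ha, he, hf, h⟩ := (mem_U_inf_iff H.three H.pow H.le (u : GL chevD4.Idx K)).1 ⟨hu, u.2⟩
    refine ⟨![a, b, c, d, e, f], ?_, ?_⟩
    · intro i hi
      rcases hi with rfl | rfl | rfl
      exacts [ha, he, hf]
    · rw [h, E_eq]; rfl
  · rintro ⟨a, ha, h⟩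
    have := (mem_U_inf_iff H.three H.pow H.le (u : GL chevD4.Idx K)).2
      ⟨_, _, _, _, _, _, ha 0 (Or.inl rfl), ha 4 (Or.inr (Or.inl rfl)), ha 5 (Or.inr (Or.inr rfl)), by rw [h, E_eq]⟩
    exact this.1

theorem Fr.xx_mem' (H : Fr φ q) {i : Fin 6} {a : K} (h : dm φ i a) : xx φ i a ∈ twistedD4 K q :=
  xx_mem H.three H.pow H.le h

theorem Fr.VV_le (H : Fr φ q) (i : Fin 6) : VV φ q i ≤ UU K q := by
  rintro g ⟨a, ha, hg⟩
  rw [H.mem_UU]
  refine ⟨Pi.single i a, fun j => ?_, by rw [E_single, hg]⟩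
  by_cases hj : j = i
  · subst hj; rw [Pi.single_eq_same]; exact ha
  · rw [Pi.single_eq_of_ne hj]; exact fun _ => map_zero φ

theorem Fr.UU_le (H : Fr φ q) : UU K q ≤ ⨆ i, VV φ q i := by
  intro u hu
  obtain ⟨a, ha, h⟩ := H.mem_UU.1 hu
  have key : ∀ i, (⟨xx φ i (a i), H.xx_mem' (ha i)⟩ : ↥(twistedD4 K q)) ∈ ⨆ i, VV φ q i := fun i =>
    (le_iSup (fun i => VV φ q i) i) ⟨a i, ha i, rfl⟩
  have e : u = ⟨xx φ 0 (a 0), H.xx_mem' (ha 0)⟩ * ⟨xx φ 1 (a 1), H.xx_mem' (ha 1)⟩ *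
      ⟨xx φ 2 (a 2), H.xx_mem' (ha 2)⟩ * ⟨xx φ 3 (a 3), H.xx_mem' (ha 3)⟩ * ⟨xx φ 4 (a 4), H.xx_mem' (ha 4)⟩ *
      ⟨xx φ 5 (a 5), H.xx_mem' (ha 5)⟩ := Subtype.ext h
  rw [e]
  exact mul_mem (mul_mem (mul_mem (mul_mem (mul_mem (key 0) (key 1)) (key 2)) (key 3)) (key 4)) (key 5)

/-- an element of `TT` with given characters of `p`-power order -/
theorem Fr.exists_TT (H : Fr φ q) {p : ℕ} (hp : p.Prime) {s l : K} (hs : φ s = s) (hs0 : s ≠ 0) (hl0 : l ≠ 0)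
    (hsp : ∃ j, s ^ p ^ j = 1) (hlp : ∃ j, l ^ p ^ j = 1) : ∃ t ∈ TT φ q p,
      Acts φ (t : GL chevD4.Idx K) (ch φ s l) := by
  haveI : Finite ↥(twistedD4 K q) := inferInstance
  obtain ⟨m, hm⟩ := Num.sq_surjective (K := K) l
  have hm0 : m ≠ 0 := by rintro rfl; exact hl0 (by rw [← hm, mul_zero])
  obtain ⟨h, hG, hd, hc⟩ := exists_torus H.three H.pow hs hs0 hm0
  rw [hm] at hc
  have hc0 : ∀ i, ch φ s l i ≠ 0 := by
    have h1 : φ l ≠ 0 := (map_ne_zero φ).2 hl0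
    have h2 : φ (φ l) ≠ 0 := (map_ne_zero φ).2 h1
    intro i
    fin_cases i
    · exact hs0
    · exact hl0
    · exact mul_ne_zero hs0 hl0
    · exact mul_ne_zero hs0 (mul_ne_zero hl0 h1)
    · exact mul_ne_zero hs0 (mul_ne_zero (mul_ne_zero hl0 h1) h2)
    · exact mul_ne_zero (mul_ne_zero hs0 hs0) (mul_ne_zero (mul_ne_zero hl0 h1) h2)
  have hA : Acts φ h (ch φ s l) := ⟨hc0, fun i a ha => dm_mul hs H.three ha, hc⟩
  obtain ⟨j1, hj1⟩ := hsp
  obtain ⟨j2, hj2⟩ := hlp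
  obtain ⟨j, hsj, hlj⟩ : ∃ j, s ^ p ^ j = 1 ∧ l ^ p ^ j = 1 := by
    refine ⟨j1 + j2, ?_, ?_⟩
    · rw [pow_add, pow_mul, hj1, one_pow]
    · rw [pow_add, mul_comm, pow_mul, hj2, one_pow]
  have hφj : φ l ^ p ^ j = 1 := by rw [← map_pow, hlj, map_one]
  have hφφj : φ (φ l) ^ p ^ j = 1 := by rw [← map_pow, hφj, map_one]
  have hcj : ∀ i, (ch φ s l i) ^ p ^ j = 1 := by
    intro i
    fin_cases i
    · exact hsj
    · exact hlj
    · show (s * l) ^ p ^ j = 1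
      rw [mul_pow, hsj, hlj, one_mul]
    · show (s * (l * φ l)) ^ p ^ j = 1
      rw [mul_pow, mul_pow, hsj, hlj, hφj, one_mul, one_mul]
    · show (s * (l * φ l * φ (φ l))) ^ p ^ j = 1
      rw [mul_pow, mul_pow, mul_pow, hsj, hlj, hφj, hφφj, one_mul, one_mul, one_mul]
    · show (s * s * (l * φ l * φ (φ l))) ^ p ^ j = 1
      rw [mul_pow, mul_pow, mul_pow, mul_pow, hsj, hlj, hφj, hφφj, one_mul, one_mul, one_mul]
  obtain ⟨N, k, hN, hk⟩ := exists_ppart hp (⟨h, hG⟩ : ↥(twistedD4 K q)) j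
  have e : ch φ s l ^ N = ch φ s l := by
    funext i
    rw [Pi.pow_apply]
    exact pow_of_modEq hN (hcj i)
  have hA' := hA.pow N
  rw [e] at hA'
  exact ⟨(⟨h, hG⟩ : ↥(twistedD4 K q)) ^ N, ⟨pow_mem hd N, ⟨_, hA'⟩, k, hk⟩, hA'⟩

/-- commuting with an element of the torus -/
theorem comm_iff {t u : ↥(twistedD4 K q)} {c a : Fin 6 → K} (ht : Acts φ (t : GL chevD4.Idx K) c)
    (hu : (u : GL chevD4.Idx K) = E φ a) : t * u = u * t ↔ c * a = a := by
  rw [← mul_inv_eq_iff_eq_mul]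
  constructor
  · intro h
    have h1 := congrArg (Subtype.val) h
    have h2 : (t : GL chevD4.Idx K) * u * (t : GL chevD4.Idx K)⁻¹ = u := h1
    rw [hu, ht.conj_E] at h2
    exact E_inj h2
  · intro h
    apply Subtype.ext
    show (t : GL chevD4.Idx K) * u * (t : GL chevD4.Idx K)⁻¹ = u
    rw [hu, ht.conj_E, h]

/-- the parameters -/
structure Par (φ : K →+* K) (p : ℕ) (r l : K) : Prop where
  prime : p.Prime
  odd : Odd p
  r0 : r ≠ 0
  l0 : l ≠ 0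
  φr : φ r = r
  ord : orderOf r = p
  lp : ∃ j, l ^ p ^ j = 1
  norm : l * φ l * φ (φ l) = r * r

namespace Par

variable {p : ℕ} {r l : K} (P : Par φ p r l)

include P

theorem rp (j : ℕ) (hj : 0 < j) : r ^ p ^ j = 1 := by
  rw [← P.ord]
  obtain ⟨n, rfl⟩ : ∃ n, j = n + 1 := ⟨j - 1, by omega⟩
  rw [pow_succ', pow_mul, pow_orderOf_eq_one, one_pow]

theorem rne1 : r ≠ 1 := by
  intro h
  have h1 := P.ord
  rw [h, orderOf_one] at h1
  exact P.prime.ne_one h1.symm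

theorem rne2 : r * r ≠ 1 := by
  intro h
  have h1 : r ^ 2 = 1 := by rw [pow_two]; exact h
  have h2 := orderOf_dvd_of_pow_eq_one h1
  rw [P.ord] at h2
  have h3 := (Nat.prime_dvd_prime_iff_eq P.prime Nat.prime_two).1 h2
  have h4 := P.odd
  rw [h3] at h4
  exact absurd h4 (by decide)

theorem rne4 : r * r * (r * r) ≠ 1 := by
  intro h
  have h1 : r ^ 4 = 1 := by rw [← h]; ring
  have h2 := orderOf_dvd_of_pow_eq_one h1
  rw [P.ord] at h2
  have h3 := (Nat.prime_dvd_prime_iff_eq P.prime Nat.prime_two).1 (P.prime.dvd_of_dvd_pow (show p ∣ 2 ^ 2 from h2))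
  have h4 := P.odd
  rw [h3] at h4
  exact absurd h4 (by decide)

theorem fr2 : φ (r * r) = r * r := by rw [map_mul, P.φr]

theorem lne (H : Fr φ q) : l ≠ 1 := by
  rintro rfl
  have := P.norm
  simp only [map_one, mul_one] at this
  exact P.rne2 this.symm

/-- if `l φ(l) = c ∈ F_q` then `l ∈ F_q` -/
theorem l_fix (H : Fr φ q) {c : K} (hc : φ c = c) (h : l * φ l = c) : c * l = r * r ∧ l * l = c := by
  have h1 := P.norm
  rw [h] at h1
  have hc0 : c ≠ 0 := by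
    rw [← h]
    exact mul_ne_zero P.l0 ((map_ne_zero φ).2 P.l0)
  have h2 : c * l = r * r := by
    have h3 := congrArg φ h1
    rw [map_mul, hc, H.three, P.fr2] at h3
    exact h3
  have h4 : φ l = l := by
    have h5 := congrArg φ h2
    rw [map_mul, hc, P.fr2, ← h2] at h5
    exact mul_left_cancel₀ hc0 h5
  exact ⟨h2, by rw [h4] at h; exact h⟩

theorem llne (H : Fr φ q) : l * φ l ≠ 1 := by
  intro h
  obtain ⟨h1, h2⟩ := P.l_fix H (map_one φ) h
  rw [one_mul] at h1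
  rw [h1] at h2
  exact P.rne4 h2

theorem lne_r2 : l ≠ r * r := by
  intro h
  have h1 := P.norm
  rw [h, P.fr2, P.fr2] at h1
  have h0 : r * r ≠ 0 := mul_ne_zero P.r0 P.r0
  have h2 : r * r * (r * r) * (r * r) = 1 * (r * r) := by rw [h1, one_mul]
  exact P.rne4 (mul_right_cancel₀ h0 h2)

theorem llne_r2 (H : Fr φ q) : l * φ l ≠ r * r := by
  intro h
  obtain ⟨h1, h2⟩ := P.l_fix H P.fr2 h
  have h0 : r * r ≠ 0 := mul_ne_zero P.r0 P.r0
  have h3 : r * r * l = r * r * 1 := by rw [h1, mul_one]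
  exact P.lne H (mul_left_cancel₀ h0 h3)

theorem lne_r : l ≠ r := by
  intro h
  have h1 := P.norm
  rw [h, P.φr, P.φr] at h1
  have h0 : r * r ≠ 0 := mul_ne_zero P.r0 P.r0
  have h2 : r * r * r = r * r * 1 := by rw [h1, mul_one]
  exact P.rne1 (mul_left_cancel₀ h0 h2)

theorem llne_r (H : Fr φ q) : l * φ l ≠ r := by
  intro h
  obtain ⟨h1, h2⟩ := P.l_fix H P.φr h
  exact P.lne_r (mul_left_cancel₀ P.r0 h1)

/-- elements of the torus with exactly one trivial character -/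
theorem exists_t (H : Fr φ q) (i : Fin 6) : ∃ t ∈ TT φ q p, ∃ c, Acts φ (t : GL chevD4.Idx K) c ∧ c i = 1 ∧
    ∀ j, j ≠ i → c j ≠ 1 := by
  have hp1 : ∃ j, (1 : K) ^ p ^ j = 1 := ⟨0, one_pow _⟩
  have hr := P.rp 1 one_pos
  have hr0 := P.r0
  have hrp : ∃ j, r ^ p ^ j = 1 := ⟨1, hr⟩
  have hri : ∃ j, r⁻¹ ^ p ^ j = 1 := ⟨1, by rw [inv_pow, hr, inv_one]⟩
  have hrri : ∃ j, (r * r)⁻¹ ^ p ^ j = 1 := ⟨1, by rw [inv_pow, mul_pow, hr, one_mul, inv_one]⟩
  have h0 : r * r ≠ 0 := mul_ne_zero hr0 hr0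
  have n1 := P.rne1
  have n2 := P.rne2
  have n4 := P.rne4
  have hφi : φ r⁻¹ = r⁻¹ := by rw [map_inv₀, P.φr]
  have hφii : φ (r * r)⁻¹ = (r * r)⁻¹ := by rw [map_inv₀, P.fr2]
  have inv_ne : ∀ {x : K}, x ≠ 1 → x⁻¹ ≠ 1 := fun {x} hx h => hx (inv_eq_one.1 h)
  have key : ∀ {x y : K}, x ≠ 0 → y ≠ x → x⁻¹ * y ≠ 1 := fun {x y} hx h h' => h ((inv_mul_eq_one₀ hx).1 h').symm
  fin_cases i
  · obtain ⟨t, ht, hc⟩ := H.exists_TT P.prime (s := 1) (l := l) (map_one φ) one_ne_zero P.l0 hp1 P.lp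
    refine ⟨t, ht, _, hc, rfl, ?_⟩
    intro j hj
    fin_cases j
    · exact absurd rfl hj
    · exact P.lne H
    · show 1 * l ≠ 1
      rw [one_mul]; exact P.lne H
    · show 1 * (l * φ l) ≠ 1
      rw [one_mul]; exact P.llne H
    · show 1 * (l * φ l * φ (φ l)) ≠ 1
      rw [one_mul, P.norm]; exact n2
    · show 1 * 1 * (l * φ l * φ (φ l)) ≠ 1
      rw [one_mul, one_mul, P.norm]; exact n2
  · obtain ⟨t, ht, hc⟩ := H.exists_TT P.prime (s := r) (l := 1) P.φr P.r0 one_ne_zero hrp hp1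
    refine ⟨t, ht, _, hc, rfl, ?_⟩
    intro j hj
    fin_cases j
    · exact n1
    · exact absurd rfl hj
    · show r * 1 ≠ 1
      rw [mul_one]; exact n1
    · show r * (1 * φ 1) ≠ 1
      rw [map_one, mul_one, mul_one]; exact n1
    · show r * (1 * φ 1 * φ (φ 1)) ≠ 1
      rw [map_one, map_one, mul_one, mul_one, mul_one]; exact n1
    · show r * r * (1 * φ 1 * φ (φ 1)) ≠ 1
      rw [map_one, map_one, mul_one, mul_one, mul_one]; exact n2
  · obtain ⟨t, ht, hc⟩ := H.exists_TT P.prime (s := r) (l := r⁻¹) P.φr P.r0 (inv_ne_zero P.r0) hrp hri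
    refine ⟨t, ht, _, hc, ?_, ?_⟩
    · show r * r⁻¹ = 1
      exact mul_inv_cancel₀ hr0
    intro j hj
    fin_cases j
    · exact n1
    · exact inv_ne n1
    · exact absurd rfl hj
    · show r * (r⁻¹ * φ r⁻¹) ≠ 1
      rw [hφi, mul_inv_cancel_left₀ hr0]; exact inv_ne n1
    · show r * (r⁻¹ * φ r⁻¹ * φ (φ r⁻¹)) ≠ 1
      rw [hφi, hφi]
      have e : r * (r⁻¹ * r⁻¹ * r⁻¹) = (r * r)⁻¹ := by field_simp
      rw [e]; exact inv_ne n2
    · show r * r * (r⁻¹ * φ r⁻¹ * φ (φ r⁻¹)) ≠ 1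
      rw [hφi, hφi]
      have e : r * r * (r⁻¹ * r⁻¹ * r⁻¹) = r⁻¹ := by field_simp
      rw [e]; exact inv_ne n1
  · obtain ⟨t, ht, hc⟩ := H.exists_TT P.prime (s := (r * r)⁻¹) (l := r) hφii (inv_ne_zero h0) P.r0 hrri hrp
    refine ⟨t, ht, _, hc, ?_, ?_⟩
    · show (r * r)⁻¹ * (r * φ r) = 1
      rw [P.φr]; exact inv_mul_cancel₀ h0
    intro j hj
    fin_cases j
    · exact inv_ne n2
    · exact n1
    · show (r * r)⁻¹ * r ≠ 1
      have e : (r * r)⁻¹ * r = r⁻¹ := by field_simp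
      rw [e]; exact inv_ne n1
    · exact absurd rfl hj
    · show (r * r)⁻¹ * (r * φ r * φ (φ r)) ≠ 1
      rw [P.φr, P.φr]
      have e : (r * r)⁻¹ * (r * r * r) = r := by field_simp
      rw [e]; exact n1
    · show (r * r)⁻¹ * (r * r)⁻¹ * (r * φ r * φ (φ r)) ≠ 1
      rw [P.φr, P.φr]
      have e : (r * r)⁻¹ * (r * r)⁻¹ * (r * r * r) = r⁻¹ := by field_simp
      rw [e]; exact inv_ne n1
  · obtain ⟨t, ht, hc⟩ := H.exists_TT P.prime (s := (r * r)⁻¹) (l := l) hφii (inv_ne_zero h0) P.l0 hrri P.lp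
    refine ⟨t, ht, _, hc, ?_, ?_⟩
    · show (r * r)⁻¹ * (l * φ l * φ (φ l)) = 1
      rw [P.norm]; exact inv_mul_cancel₀ h0
    intro j hj
    fin_cases j
    · exact inv_ne n2
    · exact P.lne H
    · exact key h0 P.lne_r2
    · exact key h0 (P.llne_r2 H)
    · exact absurd rfl hj
    · show (r * r)⁻¹ * (r * r)⁻¹ * (l * φ l * φ (φ l)) ≠ 1
      rw [P.norm, mul_assoc, inv_mul_cancel₀ h0, mul_one]; exact inv_ne n2
  · obtain ⟨t, ht, hc⟩ := H.exists_TT P.prime (s := r⁻¹) (l := l) hφi (inv_ne_zero hr0) P.l0 hri P.lp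
    refine ⟨t, ht, _, hc, ?_, ?_⟩
    · show r⁻¹ * r⁻¹ * (l * φ l * φ (φ l)) = 1
      rw [P.norm]; field_simp
    intro j hj
    fin_cases j
    · exact inv_ne n1
    · exact P.lne H
    · exact key hr0 P.lne_r
    · exact key hr0 (P.llne_r H)
    · show r⁻¹ * (l * φ l * φ (φ l)) ≠ 1
      rw [P.norm, inv_mul_cancel_left₀ hr0]; exact n1
    · exact absurd rfl hj

end Par

/-! ### The hypotheses of the weight theorem -/

theorem card_UU {a : ℕ} (ha : 0 < a) (hq : q = 2 ^ a) (hK : Nat.card K = q ^ 3) :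
    Nat.card (UU K q) = q ^ 12 := by
  have := Fintype.ofFinite K
  have hK' : Fintype.card K = q ^ 3 := by rw [← Nat.card_eq_fintype_card]; exact hK
  have hqp : IsPrimePow q := by rw [hq]; exact (Nat.prime_two.isPrimePow).pow ha.ne'
  have h3 : Nat.card ↥(UU K q) = Nat.card ↥(chevD4.posUnipotent K ⊓ twistedD4 K q) := by
    unfold UU
    rw [← Subgroup.inf_subgroupOf_right]
    exact Nat.card_congr (Subgroup.subgroupOfEquivOfLe inf_le_right).toEquiv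
  rw [h3, card_U1 hqp hK']

theorem isPGroup_U {a : ℕ} (ha : 0 < a) (hq : q = 2 ^ a) (hK : Nat.card K = q ^ 3) :
    IsPGroup 2 (UU K q) := by
  refine IsPGroup.of_card (n := a * 12) ?_
  rw [card_UU ha hq hK, hq, ← pow_mul]

theorem odd_index {a : ℕ} (ha : 0 < a) (hq : q = 2 ^ a) (hK : Nat.card K = q ^ 3) :
    ¬ 2 ∣ (UU K q).index := by
  have := Fintype.ofFinite K
  have hK' : Fintype.card K = q ^ 3 := by rw [← Nat.card_eq_fintype_card]; exact hK
  have hqp : IsPrimePow q := by rw [hq]; exact (Nat.prime_two.isPrimePow).pow ha.ne'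
  have hfin : Finite ↥(twistedD4 K q) := inferInstance
  have h1 := Cfsg.Agent.S1067.result hqp hK'
  have h2 := card_UU ha hq hK
  have h3 := (UU K q).card_mul_index
  rw [h1, h2] at h3
  have hq0 : 0 < q := hqp.pos
  have h4 : (UU K q).index = (q ^ 2 - 1) * (q ^ 6 - 1) * (q ^ 8 + q ^ 4 + 1) := by
    have h5 : q ^ 12 * (UU K q).index = q ^ 12 * ((q ^ 2 - 1) * (q ^ 6 - 1) * (q ^ 8 + q ^ 4 + 1)) := by
      rw [h3]; ring
    exact Nat.eq_of_mul_eq_mul_left (by positivity) h5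
  rw [h4]
  have hev : Even q := by rw [hq]; exact (even_two).pow_of_ne_zero ha.ne'
  have o1 : ∀ n, 0 < n → Odd (q ^ n - 1) := by
    intro n hn
    have : Even (q ^ n) := hev.pow_of_ne_zero hn.ne'
    exact Nat.Even.sub_odd (Nat.one_le_pow _ _ hq0) this odd_one
  have o2 : Odd (q ^ 8 + q ^ 4 + 1) :=
    ((hev.pow_of_ne_zero (by norm_num)).add (hev.pow_of_ne_zero (by norm_num))).add_one
  have o3 : Odd ((q ^ 2 - 1) * (q ^ 6 - 1) * (q ^ 8 + q ^ 4 + 1)) :=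
    ((o1 2 (by norm_num)).mul (o1 6 (by norm_num))).mul o2
  rw [← even_iff_two_dvd, Nat.not_even_iff_odd]
  exact o3

theorem whyp (H : Fr φ q) {p : ℕ} {r l : K} (P : Par φ p r l) {a : ℕ} (ha : 0 < a) (hq : q = 2 ^ a)
    (hK : Nat.card K = q ^ 3) : WHyp p (UU K q) (TT φ q p) (VV φ q) where
  pg := isPGroup_U ha hq hK
  idx := odd_index ha hq hK
  tp := by
    rintro ⟨t, ht, hc, k, hk⟩
    exact ⟨k, Subtype.ext hk⟩
  odd := P.odd
  UT := by
    rintro t ⟨-, ⟨c, hc⟩, -⟩ x hx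
    obtain ⟨a, ha, h⟩ := H.mem_UU.1 hx
    rw [H.mem_UU]
    refine ⟨c * a, fun i => hc.2.1 i _ (ha i), ?_⟩
    rw [← hc.conj_E, ← h]
    rfl
  VU := H.VV_le
  VT := by
    rintro i t ⟨-, ⟨c, hc⟩, -⟩ v ⟨a, ha, h⟩
    refine ⟨c i * a, hc.2.1 i _ ha, ?_⟩
    rw [← hc.2.2, ← h]
    rfl
  gen := H.UU_le
  fix := by
    intro i u hu hfix
    obtain ⟨a, ha, h⟩ := H.mem_UU.1 hu
    obtain ⟨t, ht, c, hc, hci, hcj⟩ := P.exists_t H i
    have h1 := hfix t ht (by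
      rintro v ⟨b, hb, hv⟩
      rw [comm_iff hc (a := Pi.single i b) (by rw [E_single, hv])]
      funext j
      by_cases hj : j = i
      · subst hj; rw [Pi.mul_apply, hci, one_mul]
      · rw [Pi.mul_apply, Pi.single_eq_of_ne hj, mul_zero])
    rw [comm_iff hc h] at h1
    refine ⟨a i, ha i, ?_⟩
    rw [h, ← E_single]
    congr 1
    funext j
    by_cases hj : j = i
    · subst hj; rw [Pi.single_eq_same]
    · rw [Pi.single_eq_of_ne hj]
      have h2 := congrFun h1 j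
      rw [Pi.mul_apply] at h2
      by_contra h3
      exact hcj j hj (mul_right_cancel₀ h3 (by rw [h2, one_mul]))
  fixT := by
    intro u hu hfix
    obtain ⟨a, ha, h⟩ := H.mem_UU.1 hu
    have h0 : a = 0 := by
      funext j
      obtain ⟨i, hij⟩ : ∃ i : Fin 6, j ≠ i := (exists_ne j).imp fun _ h => h.symm
      obtain ⟨t, ht, c, hc, hci, hcj⟩ := P.exists_t H i
      have h1 := hfix t ht
      rw [comm_iff hc h] at h1
      have h2 := congrFun h1 j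
      rw [Pi.mul_apply] at h2
      by_contra h3
      exact hcj j hij (mul_right_cancel₀ h3 (by rw [h2, one_mul]))
    apply Subtype.ext
    rw [h, h0]
    unfold E
    simp [xx_zero]

/-! ### Commutative preimages -/

theorem Fr.exists_mul (H : Fr φ q) {s l : K} (hs : φ s = s) (hs0 : s ≠ 0) (hl0 : l ≠ 0) :
    ∃ g : ↥(twistedD4 K q), ∀ i a, (g : GL chevD4.Idx K) * xx φ i a * (g : GL chevD4.Idx K)⁻¹ =
      xx φ i (ch φ s l i * a) := by
  obtain ⟨m, hm⟩ := Num.sq_surjective (K := K) l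
  have hm0 : m ≠ 0 := by rintro rfl; exact hl0 (by rw [← hm, mul_zero])
  obtain ⟨h, hG, -, hc⟩ := exists_torus H.three H.pow hs hs0 hm0
  rw [hm] at hc
  exact ⟨⟨h, hG⟩, hc⟩

theorem Fr.abPre_short (H : Fr φ q) (hK : 4 < Nat.card K) {i : Fin 6} (hi : i = 1 ∨ i = 2 ∨ i = 3) :
    AbPre (VV φ q i) := by
  have hd : ∀ a, dm φ i a := by
    intro a h
    rcases hi with rfl | rfl | rfl <;> rcases h with h | h | h <;> exact absurd h (by decide)
  refine FieldAlt.AbPre.of_field (F := K) hK (fun a => (⟨xx φ i a, H.xx_mem' (hd a)⟩ : ↥(twistedD4 K q))) ?_ ?_ ?_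
  · intro a b
    exact Subtype.ext (xx_add φ i a b)
  · intro c hc0
    have h1 : φ c ≠ 0 := (map_ne_zero φ).2 hc0
    have h2 : φ (φ c) ≠ 0 := (map_ne_zero φ).2 h1
    obtain ⟨s, l, hs, hs0, hl0, hch⟩ : ∃ s l : K, φ s = s ∧ s ≠ 0 ∧ l ≠ 0 ∧ ch φ s l i = c := by
      rcases hi with rfl | rfl | rfl
      · exact ⟨1, c, map_one φ, one_ne_zero, hc0, rfl⟩
      · refine ⟨1, c, map_one φ, one_ne_zero, hc0, ?_⟩
        show 1 * c = c
        rw [one_mul]
      · refine ⟨c * φ c * φ (φ c), (φ c)⁻¹, ?_, mul_ne_zero (mul_ne_zero hc0 h1) h2, inv_ne_zero h1, ?_⟩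
        · rw [map_mul, map_mul, H.three]; ring
        · show c * φ c * φ (φ c) * ((φ c)⁻¹ * φ ((φ c)⁻¹)) = c
          rw [map_inv₀]
          field_simp
    obtain ⟨g, hg⟩ := H.exists_mul hs hs0 hl0
    refine ⟨g, fun a => Subtype.ext ?_⟩
    have := hg i a
    rw [hch] at this
    exact this
  · rintro v ⟨a, ha, hv⟩
    exact ⟨a, Subtype.ext hv.symm⟩

theorem Fr.abPre_five (H : Fr φ q) : AbPre (VV φ q 5) := by
  apply AbPre.of_le_commutator
  rintro v ⟨f, hf, hv⟩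
  have hf' : φ f = f := hf (Or.inr (Or.inr rfl))
  have hx : (⟨xx φ 0 f, H.xx_mem' (fun _ => hf')⟩ : ↥(twistedD4 K q)) ∈
      centralizer (VV φ q 5 : Set ↥(twistedD4 K q)) := by
    rw [mem_centralizer_iff]
    rintro w ⟨b, -, hw⟩
    apply Subtype.ext
    show (w : GL chevD4.Idx K) * xG 14 f = xG 14 f * (w : GL chevD4.Idx K)
    rw [hw]
    exact (xG_commute (r := 23) (s := 14) (by decide +kernel) b f).eq
  have hy : (⟨xx φ 4 1, H.xx_mem' (fun _ => map_one φ)⟩ : ↥(twistedD4 K q)) ∈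
      centralizer (VV φ q 5 : Set ↥(twistedD4 K q)) := by
    rw [mem_centralizer_iff]
    rintro w ⟨b, -, hw⟩
    apply Subtype.ext
    show (w : GL chevD4.Idx K) * xG 22 1 = xG 22 1 * (w : GL chevD4.Idx K)
    rw [hw]
    exact (xG_commute (r := 23) (s := 22) (by decide +kernel) b 1).eq
  have e : v = ⁅(⟨xx φ 0 f, H.xx_mem' (fun _ => hf')⟩ : ↥(twistedD4 K q)),
      ⟨xx φ 4 1, H.xx_mem' (fun _ => map_one φ)⟩⁆ := by
    apply Subtype.ext
    show (v : GL chevD4.Idx K) = ⁅(xG 14 f : GL chevD4.Idx K), xG 22 1⁆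
    rw [xcomm (r := 14) (s := 22) (k := 23) (e := 1) (by norm_num) (by norm_num) (by norm_num) (by norm_num)
      (by norm_num) (by decide +kernel) (Or.inl rfl), mul_one, hv]
    rfl
  rw [e]
  exact commutator_mem_commutator hx hy

theorem Fr.abPre_four (H : Fr φ q) : AbPre (VV φ q 4) := by
  refine H.abPre_five.conj (⟨na K, na_mem H.pow⟩ : ↥(twistedD4 K q)) ?_
  rintro v ⟨e, he, hv⟩
  refine ⟨e, fun _ => he (Or.inr (Or.inl rfl)), ?_⟩
  show (na K)⁻¹ * (v : GL chevD4.Idx K) * na K = xG 23 e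
  rw [hv]
  exact n_inv_conj (s := 23) (by norm_num) e

theorem Fr.abPre_zero (H : Fr φ q) : AbPre (VV φ q 0) := by
  refine H.abPre_four.conj (⟨nb K, nb_mem H.pow⟩ : ↥(twistedD4 K q)) ?_
  rintro v ⟨a, ha, hv⟩
  obtain ⟨u, hu⟩ := nb_inv_conj (K := K) (s := 14) (by norm_num) a
  have hr : rb' 14 = 22 := by decide +kernel
  rw [hr, inv_inv] at hu
  have hG : (nb K)⁻¹ * xG 14 a * nb K ∈ twistedD4 K q := by
    have h1 : (xG 14 a : GL chevD4.Idx K) ∈ twistedD4 K q := H.xx_mem' (i := 0) ha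
    exact mul_mem (mul_mem (inv_mem (nb_mem H.pow)) h1) (nb_mem H.pow)
  refine ⟨u, fun _ => ?_, ?_⟩
  · rw [hu] at hG
    have hf := H.le hG
    rw [mem_fix, sig_22] at hf
    have h2 : E φ (Pi.single 4 (φ u)) = E φ (Pi.single 4 u) := by rw [E_single, E_single]; exact hf
    have h3 := congrFun (E_inj h2) 4
    rwa [Pi.single_eq_same, Pi.single_eq_same] at h3
  · show (nb K)⁻¹ * (v : GL chevD4.Idx K) * nb K = xG 22 u
    rw [hv]
    exact hu

theorem Fr.abPre (H : Fr φ q) (hK : 4 < Nat.card K) (i : Fin 6) : AbPre (VV φ q i) := by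
  fin_cases i
  · exact H.abPre_zero
  · exact H.abPre_short hK (Or.inl rfl)
  · exact H.abPre_short hK (Or.inr (Or.inl rfl))
  · exact H.abPre_short hK (Or.inr (Or.inr rfl))
  · exact H.abPre_four
  · exact H.abPre_five

theorem Fr.noDouble (H : Fr φ q) {p : ℕ} {r l : K} (P : Par φ p r l) {a : ℕ} (ha : 0 < a) (hq : q = 2 ^ a)
    (hK : Nat.card K = q ^ 3) (h4 : 4 < Nat.card K) : NoDouble ↥(twistedD4 K q) := by
  have := Fact.mk P.prime
  have W := whyp H P ha hq hK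
  refine W.noDouble fun i => ?_
  refine Spl.of_comm P.odd W.tp (W.pg.to_le (W.VU i)) (W.VT i) ?_ (H.abPre h4 i)
  intro v hv hc
  exact W.fixT v (W.VU i hv) hc

end Main

/-- **³D₄(q) has no perfect double cover**, `q = 2^a ≥ 4`. -/
theorem noDouble {K : Type*} [Field K] [Fintype K] {a : ℕ} (ha : 2 ≤ a) (hK : Fintype.card K = (2 ^ a) ^ 3) :
    NoDouble ↥(twistedD4 K (2 ^ a)) := by
  have hK' : Fintype.card K = 2 ^ (a * 3) := by rw [hK, ← pow_mul]
  have := Fact.mk Nat.prime_two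
  have hc : CharP K 2 := charP_of_card_eq_prime_pow hK'
  have hqp : IsPrimePow (2 ^ a) := Nat.prime_two.isPrimePow.pow (by omega)
  obtain ⟨φ, hφ⟩ := D4Fixed.exists_frob hqp hK
  have hK3 := phi3 hK hφ
  have H : Fr φ (2 ^ a) := ⟨hK3, hφ, twisted_le_fix hK hφ⟩
  have hcK : Nat.card K = (2 ^ a) ^ 3 := by rw [Nat.card_eq_fintype_card, hK]
  have h4 : 2 ^ 2 ≤ 2 ^ a := Nat.pow_le_pow_right (by norm_num) ha
  have hodd : Odd (2 ^ a - 1) :=
    Nat.Even.sub_odd (by omega) (even_two.pow_of_ne_zero (by omega)) odd_one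
  obtain ⟨p, hp, hpo, r, l, hr0, hl0, hφr, hr, hlp, hn⟩ := exists_params (K := K) (φ := φ) (by omega) hodd hcK hφ
    (by omega)
  refine H.noDouble (⟨hp, hpo, hr0, hl0, hφr, hr, hlp, hn⟩ : Par φ p r l) (by omega : 0 < a) rfl hcK ?_
  rw [hcK]
  have h5 : 4 ^ 3 ≤ (2 ^ a) ^ 3 := Nat.pow_le_pow_left (by omega) 3
  omega

/-- **The row `d43`.** -/
theorem d43 : ∀ (F : Type) [Field F] [Fintype F] (a : ℕ), 1 ≤ a → Fintype.card F = 8 ^ a →
    NoDouble ↥(twistedD4 F (2 ^ a)) := by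
  intro F _ _ a ha hF
  have hF' : Fintype.card F = (2 ^ a) ^ 3 := by
    rw [hF, ← pow_mul, mul_comm, pow_mul]; norm_num
  rcases Nat.lt_or_ge a 2 with h | h
  · obtain rfl : a = 1 := by omega
    rw [pow_one] at hF' ⊢
    exact ThreeD4Two.noDouble hF'
  · exact noDouble h hF'

end Cfsg.Agent.KFacts.Mult.ThreeD4Big

end
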