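import Cfsg.Agent.Nodes.RGDFoldSL
import Cfsg.Agent.KFacts.Mult.Chev
import Cfsg.Agent.KFacts.Mult.RGDS
import Cfsg.Agent.KFacts.Mult.FieldAlt
import Cfsg.Agent.Nodes.RGDTwNode

-- merged: Cfsg.Agent.KFacts.Mult.FoldW
section

/-!
# No double covers of twisted groups obtained by folding, characteristic 2

For `FoldData`, `FoldGrp` (`Nodes/RGDFold`) with the nodes of `Nodes/RGDFoldSL`: separation of the positive relative
roots by elements of order `p` of the torus with parameters in the fixed field, commutative preimages of the root groups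
of the fundamental roots.
-/

set_option autoImplicit false
set_option linter.unusedSectionVars false
set_option maxHeartbeats 400000

namespace Cfsg.Agent.KFacts.Mult.FoldW

open Subgroup Cfsg.Agent.KFacts.MulDef Cfsg.Agent.KFacts.MulTwo Cfsg.Agent.KFacts.Mult.WeightsTwo
  Cfsg.Agent.KFacts.Mult.RGDW Cfsg.Agent.KFacts.Mult.Num
open CoxeterSystem Cfsg.Agent.ChevalleyStructure.CoxeterGeom Cfsg.Agent.Tits.Roots Cfsg.Agent.Tits.Core
  Cfsg.Agent.Nodes.BNOf Cfsg.Agent.Nodes.RGDTwGen Cfsg.Agent.Nodes.RGDChev Cfsg.Agent.Nodes.RGDFold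
  Cfsg.Agent.Nodes.RGDFoldSL
open Cfsg.Lie Cfsg.Agent.ChevalleyStructure Cfsg.Agent.ChevalleyStructure.Elts
  Cfsg.Agent.ChevalleyStructure.TwistedU Cfsg.Agent.ChevalleyStructure.TwistedFix
  Cfsg.Agent.ChevalleyStructure.TwistedFixOrbit
open Cfsg.Agent.ChevalleyStructure.SL2Hom (up lo mem_closure_SL2)
open scoped commutatorElement

universe u

/-! ### Tables -/

/-- the character of the cocharacter of a block -/
def cI (D : ChevalleyDatum) {l : ℕ} (o : List (Fin l)) (s : ℕ) : ℤ := (o.map fun j : Fin l => D.cartan j s).sum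

/-- separation of the positive relative roots by cocharacters -/
def sepB (D : ChevalleyDatum) {l m : ℕ} (J : Fin m → List (Fin l)) (L : List (List ℕ)) : Bool :=
  L.flatten.all fun r => L.flatten.all fun s => decide (V D J r = V D J s) ||
    (List.finRange m).any fun i => (List.finRange m).any fun j =>
      let k := (cI D (J i) r * cI D (J j) s - cI D (J j) r * cI D (J i) s).natAbs
      k == 1 || k == 2 || k == 4

/-- the characters are constant on classes -/
def clsB (D : ChevalleyDatum) {l m : ℕ} (J : Fin m → List (Fin l)) (L : List (List ℕ)) : Bool :=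
  L.all fun o => o.all fun r => o.all fun s => (List.finRange m).all fun i => cI D (J i) r == cI D (J i) s

/-- classes -/
def filB (L : List (List ℕ)) : Bool :=
  L.all fun o => decide o.Nodup && decide ((L.flatten.filter fun s => decide (s ∈ o)) = o)

section SL

variable {F : Type*} [Field F]

theorem up_add (a b : F) : (up (a + b) : Matrix.SpecialLinearGroup (Fin 2) F) = up a * up b := by
  apply Subtype.ext
  show (!![1, a + b; 0, 1] : Matrix (Fin 2) (Fin 2) F) = !![1, a; 0, 1] * !![1, b; 0, 1]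
  ext i j
  fin_cases i <;> fin_cases j <;> simp [Matrix.mul_apply, Fin.sum_univ_two, add_comm]

theorem hS_up {y : F} (hy : y ≠ 0) (a : F) : hS y * up a * (hS y)⁻¹ = up (y * y * a) := by
  rw [mul_inv_eq_iff_eq_mul]
  apply Subtype.ext
  rw [Matrix.SpecialLinearGroup.coe_mul, Matrix.SpecialLinearGroup.coe_mul, coe_hS hy]
  show !![y, 0; 0, y⁻¹] * (!![1, a; 0, 1] : Matrix (Fin 2) (Fin 2) F) = !![1, y * y * a; 0, 1] * !![y, 0; 0, y⁻¹]
  ext i j
  fin_cases i <;> fin_cases j <;> simp [Matrix.mul_apply, Fin.sum_univ_two, hy]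
  field_simp

end SL

section Main

variable {D : ChevalleyDatum} {l : ℕ} {M' : CoxeterMatrix (Fin l)} {hp : IsType D l M'} {K : Type u} [Field K]
  {m : ℕ} {M : CoxeterMatrix (Fin m)} {A : Fin m → Fin m → ℤ} {J : Fin m → List (Fin l)} {L : List (List ℕ)}
  {σ : GL D.Idx K →* GL D.Idx K} {ρ ρ' : ℕ → ℕ} {f : ℕ → K → K} {G : Subgroup (GL D.Idx K)}

/-! ### The torus -/

variable (hp K) in
/-- the torus element of a block -/
def hI (o : List (Fin l)) (t : K) : GL D.Idx K := (o.map fun j : Fin l => hG hp.inList (D.simple (j : ℕ)) t).prod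

theorem hI_conj (o : List (Fin l)) {t : K} (ht : t ≠ 0) {s : ℕ} (hs : s < D.nroots) (a : K) :
    hI hp K o t * xG hp.inList s a * (hI hp K o t)⁻¹ = xG hp.inList s (t ^ cI D o s * a) := by
  induction o generalizing a with
  | nil => simp [hI, cI]
  | cons j o ih =>
    have e : hI hp K (j :: o) t = hG hp.inList (D.simple (j : ℕ)) t * hI hp K o t := by
      unfold hI; rw [List.map_cons, List.prod_cons]
    have e2 : cI D (j :: o) s = D.cartan j s + cI D o s := by unfold cI; rw [List.map_cons, List.sum_cons]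
    have e3 : ∀ g h x : GL D.Idx K, g * h * x * (g * h)⁻¹ = g * (h * x * h⁻¹) * g⁻¹ := by intro g h x; group
    rw [e, e3, ih, BruhatSplit.hG_simple_conj hp.inList (lt_rank hp j) hs ht, e2, zpow_add₀ ht, mul_assoc]

theorem hI_mem_diag (o : List (Fin l)) {t : K} (ht : t ≠ 0) : hI hp K o t ∈ D.diagonalSubgroup K := by
  unfold hI
  refine Subgroup.list_prod_mem _ ?_
  intro g hg
  obtain ⟨j, -, rfl⟩ := List.mem_map.1 hg
  exact hG_mem_diagonal hp.inList (RootVec.simple_lt hp.checked (lt_rank hp j)) ht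

theorem hI_pow (o : List (Fin l)) {t : K} (ht : t ≠ 0) {p : ℕ} (h : t ^ p = 1) : hI hp K o t ^ p = 1 := by
  induction o with
  | nil => simp [hI]
  | cons j o ih =>
    have e : hI hp K (j :: o) t = hG hp.inList (D.simple (j : ℕ)) t * hI hp K o t := by
      unfold hI; rw [List.map_cons, List.prod_cons]
    have hc : Commute (hG hp.inList (D.simple (j : ℕ)) t) (hI hp K o t) :=
      Chev.diag_comm hp.inList (hG_mem_diagonal hp.inList (RootVec.simple_lt hp.checked (lt_rank hp j)) ht)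
        (hI_mem_diag o ht)
    rw [e, hc.mul_pow, ih, Chev.hG_pow hp.inList (RootVec.simple_lt hp.checked (lt_rank hp j)) ht h, one_mul]

theorem hv_eq_hI {φ : K →+* K} {t : K} (hφt : φ t = t) : ∀ (o : List ℕ) (js : List (Fin l)),
    js.map (fun j : Fin l => D.simple (j : ℕ)) = o → (∀ s ∈ o, s < D.nroots) →
    hv (psi hp.inList K) φ o (hS t) = hI hp K js t := by
  intro o js
  induction js generalizing o with
  | nil =>
    rintro rfl _
    rfl
  | cons j js ih =>
    rintro rfl ho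
    rw [List.map_cons] at ho ⊢
    show psi hp.inList K (D.simple (j : ℕ)) (hS t) *
      hv (psi hp.inList K) φ (js.map fun j : Fin l => D.simple (j : ℕ)) (Matrix.SpecialLinearGroup.map φ (hS t)) = _
    rw [map_hS, hφt, ih _ rfl fun s hs => ho s (List.mem_cons_of_mem _ hs), psi_hS hp.inList (ho _ List.mem_cons_self)]
    unfold hI
    rw [List.map_cons, List.prod_cons]

theorem hI_mem (FG : FoldGrp hp K J L σ ρ ρ' f G) {φ : K →+* K} {i : Fin m} {r : ℕ} {o : List ℕ}
    (N : NodeOK D J L ρ i r o) (hf : ∀ s ∈ r :: o, ∀ t, f s t = φ t) {t : K} (hφt : φ t = t) :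
    hI hp K (J i) t ∈ G := by
  have ht : t ∈ Fx φ (o.length + 1) := mem_Fx.2 (Function.iterate_fixed hφt _)
  have h1 := Ph_mem FG N hf (hS (⟨t, ht⟩ : Fx φ (o.length + 1)))
  rw [map_hS] at h1
  have h2 : Ph hp K N φ (hS t) = hI hp K (J i) t := hv_eq_hI hφt (r :: o) (J i) N.Jn N.lt
  rw [← h2]
  exact h1

/-! ### Root groups -/

theorem lprod_conj {x : ℕ → K → GL D.Idx K} {g : GL D.Idx K} {χ : ℕ → K} (c : ℕ → K) : ∀ {o : List ℕ},
    (∀ s ∈ o, ∀ t, g * x s t * g⁻¹ = x s (χ s * t)) → g * lprod x o c * g⁻¹ = lprod x o fun s => χ s * c s := by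
  intro o
  induction o with
  | nil => intro _; rw [lprod_nil, lprod_nil, mul_one, mul_inv_cancel]
  | cons s o ih =>
    intro h
    have e : ∀ a b : GL D.Idx K, g * (a * b) * g⁻¹ = (g * a * g⁻¹) * (g * b * g⁻¹) := by intro a b; group
    rw [lprod_cons, lprod_cons, e, h s List.mem_cons_self, ih fun s' hs' => h s' (List.mem_cons_of_mem _ hs')]

theorem comm_rspan {x : ℕ → K → GL D.Idx K} {g : GL D.Idx K} {S : Set ℕ} (h : ∀ s ∈ S, ∀ t, g * x s t = x s t * g)
    {v : GL D.Idx K} (hv : v ∈ rspan x S) : g * v = v * g := by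
  have h1 : rspan x S ≤ centralizer {g} := rspan_le _ fun s hs t => by
    rw [mem_centralizer_singleton_iff]
    exact (h s hs t).symm
  have h2 := h1 hv
  rw [mem_centralizer_singleton_iff] at h2
  exact h2.symm

variable {W : Type*} [Group W] (cs : CoxeterSystem M W) (h : IsCartan M A)
variable (FD : FoldData D M A J L) (FG : FoldGrp hp K J L σ ρ ρ' f G)

include FD in
/-- positive relative roots -/
theorem exists_class {y : Fin m → ℤ} (hy : y ∈ RGD.Pos cs h) (hp' : IsType D l M') : ∃ o ∈ L, ∃ r ∈ o, V D J r = y ∧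
    (∀ k < D.nroots, (V D J k = y ↔ k ∈ o)) ∧ ∀ k ∈ o, k < D.nroots := by
  obtain ⟨r, hr, rfl⟩ := (FD.isRoot_iff hp'.checked (fun i r hr => wp_lt hp' (J i) hr) y).1 hy.1
  have h1 : r ∈ L.flatten := (FD.posL r hr).2 fun i => hy.2 i
  obtain ⟨o, ho, hro⟩ := List.mem_flatten.1 h1
  refine ⟨o, ho, r, hro, rfl, fun k hk => (FD.clsL o ho r hro k hk).symm, fun k hk => ?_⟩
  exact FD.ltL (List.mem_flatten.2 ⟨o, ho, hk⟩)

/-! ### Commutative preimages -/

variable {i : Fin m} {r : ℕ} {o : List ℕ}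

include FG in
/-- fundamental roots with a parameter field of order at least 8 -/
theorem abPre_field [Finite K] [CharP K 2] {φ : K →+* K} (N : NodeOK D J L ρ i r o)
    (hf : ∀ s ∈ r :: o, ∀ t, f s t = φ t) (hq : 4 < Nat.card (Fx φ (o.length + 1))) :
    AbPre ((R D hp K J σ (sr i)).subgroupOf G) := by
  haveI : CharP (Fx φ (o.length + 1)) 2 := inferInstance
  refine FieldAlt.AbPre.of_field hq (fun a => Phi FG N hf (up a)) ?_ ?_ ?_
  · intro a b
    rw [up_add, map_mul]
  · intro c hc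
    obtain ⟨y, hy⟩ := sq_surjective c
    have hy0 : y ≠ 0 := by rintro rfl; exact hc (by rw [← hy, zero_mul])
    refine ⟨Phi FG N hf (hS y), fun a => ?_⟩
    rw [← map_mul, ← map_inv, ← map_mul, hS_up hy0, hy]
  · intro v hv
    obtain ⟨a, ha⟩ := (mem_X_iff FG N hf v).1 hv
    exact ⟨a, ha.symm⟩

/-- `x_z ∈ C(X_z)'` -/
theorem abPre_commB {q0 : K → Prop} {z r s : ℕ} (hz : z < D.nroots) (hcb : Chev.commB D z r s = true) {V : Subgroup ↥G}
    (hV : ∀ v ∈ V, ∃ a, q0 a ∧ (v : GL D.Idx K) = xG hp.inList z a) (h1 : q0 1) (hneg : ∀ a, q0 a → q0 (-a))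
    (hr : ∀ a, q0 a → xG hp.inList r a ∈ G) (hs : ∀ a, q0 a → xG hp.inList s a ∈ G) : AbPre V := by
  have h := hcb
  unfold Chev.commB at h
  simp only [Bool.and_eq_true, decide_eq_true_eq, bne_iff_ne, ne_eq] at h
  obtain ⟨⟨⟨⟨⟨⟨⟨⟨⟨⟨hr', hs'⟩, h1'⟩, h2⟩, h3⟩, h4⟩, h5⟩, h6⟩, h7⟩, h8⟩, h9⟩ := h
  apply AbPre.of_le_commutator
  intro g hgz
  obtain ⟨a, hqa, ha⟩ := hV g hgz
  obtain ⟨C, hC, hw⟩ : ∃ C : ℤ, C.natAbs = 1 ∧ D.commTerms r s = [(z, C, 1, 1)] := by
    revert h7
    split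
    · rename_i v C hc
      intro h7
      rw [Bool.and_eq_true, beq_iff_eq, beq_iff_eq] at h7
      exact ⟨C, h7.2, by rw [hc, h7.1]⟩
    · intro h7
      exact absurd h7 (by decide)
  have hC' : ((C : K)) * ((C : K)) = 1 := by
    rcases Int.natAbs_eq_iff.1 hC with h | h <;> rw [h] <;> simp
  have hqC : q0 ((C : K) * a) := by
    rcases Int.natAbs_eq_iff.1 hC with h | h <;> rw [h]
    · simpa using hqa
    · simpa using hneg a hqa
  have hcw : ∀ u : K, ⁅(xG hp.inList s u)⁻¹, (xG hp.inList r (-1))⁻¹⁆ = xG hp.inList z ((C : K) * u) := by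
    intro u
    rw [comm_xG hp hr' hs' h1' h2]
    unfold ChevalleyDatum.commWord
    rw [hw]
    simp only [List.map_cons, List.map_nil, wordG_cons, wordG_nil, mul_one, _root_.neg_neg, pow_one]
  have hsz : ∀ u v : K, xG hp.inList z v * xG hp.inList s u = xG hp.inList s u * xG hp.inList z v := fun u v =>
    Chev.commute_of_empty hp hs' hz h5 h6 h9 u v
  have hrz : ∀ u v : K, xG hp.inList z v * xG hp.inList r u = xG hp.inList r u * xG hp.inList z v := fun u v =>
    Chev.commute_of_empty hp hr' hz h3 h4 h8 u v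
  have key : g = ⁅(⟨xG hp.inList s ((C : K) * a), hs _ hqC⟩ : G)⁻¹, (⟨xG hp.inList r (-1), hr _ (hneg _ h1)⟩ : G)⁻¹⁆ := by
    apply Subtype.ext
    have e1 : ((⁅(⟨xG hp.inList s ((C : K) * a), hs _ hqC⟩ : G)⁻¹,
        (⟨xG hp.inList r (-1), hr _ (hneg _ h1)⟩ : G)⁻¹⁆ : G) : GL D.Idx K) =
        ⁅(xG hp.inList s ((C : K) * a))⁻¹, (xG hp.inList r (-1))⁻¹⁆ := rfl
    rw [e1, hcw, ← mul_assoc, hC', one_mul, ← ha]
  rw [key]
  refine commutator_mem_commutator (inv_mem ?_) (inv_mem ?_)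
  · rw [mem_centralizer_iff]
    intro x hxz
    obtain ⟨v, -, hv⟩ := hV x hxz
    apply Subtype.ext
    show (x : GL D.Idx K) * xG hp.inList s _ = xG hp.inList s _ * (x : GL D.Idx K)
    rw [hv, hsz]
  · rw [mem_centralizer_iff]
    intro x hxz
    obtain ⟨v, -, hv⟩ := hV x hxz
    apply Subtype.ext
    show (x : GL D.Idx K) * xG hp.inList r _ = xG hp.inList r _ * (x : GL D.Idx K)
    rw [hv, hrz]

/-! ### The theorem -/

include h FD FG in
/-- **No double covers of folded groups.** -/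
theorem noDouble_of_fold [Finite K] [CharP K 2] {φ : K →+* K} {p : ℕ} [Fact p.Prime] (hodd : Odd p) {b : K}
    (hb0 : b ≠ 0) (hb : orderOf b = p) (hφb : φ b = b) (hL2 : ∃ r ∈ L.flatten, ∃ s ∈ L.flatten, V D J r ≠ V D J s)
    (hsep : sepB D J L = true) (hcls : clsB D J L = true) (hfil : filB L = true)
    (hN : ∀ i, ∃ (r : ℕ) (o : List ℕ), NodeOK D J L ρ i r o ∧ ∀ s ∈ r :: o, ∀ t, f s t = φ t)
    (hab : ∀ i, AbPre ((R D hp K J σ (sr i)).subgroupOf G)) : NoDouble ↥G := by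
  have : Fact (Nat.Prime 2) := ⟨Nat.prime_two⟩
  have hpp : p.Prime := Fact.out
  set cs := M.toCoxeterSystem with hcs
  have : Finite M.Group := Cfsg.Agent.Nodes.RGDFold.finite_W (hp := hp) cs h FD
  have R0 := Cfsg.Agent.Nodes.RGDFold.rgd cs h FD FG 2
  have hbp : ∀ z : ℤ, (b ^ z) ^ p = 1 := fun z => by
    rw [← zpow_natCast, ← zpow_mul, mul_comm, zpow_mul, zpow_natCast, ← hb, pow_orderOf_eq_one, one_zpow]
  have hbz : ∀ z : ℤ, b ^ z = 1 ↔ (p : ℤ) ∣ z := zpow_eq_one_iff hb0 hb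
  have hz0 : ∀ z : ℤ, b ^ z ≠ 0 := fun z => zpow_ne_zero z hb0
  have hφz : ∀ z : ℤ, φ (b ^ z) = b ^ z := fun z => by rw [map_zpow₀, hφb]
  -- the `p`-torsion of the torus
  set T' : Subgroup G := (Chev.TT hp.inList K p).subgroupOf G with hT'
  have hG : ∀ (i : Fin m) (z : ℤ), hI hp K (J i) (b ^ z) ∈ G := by
    intro i z
    obtain ⟨r, o, N, hf⟩ := hN i
    exact hI_mem FG N hf (hφz z)
  have hmemT : ∀ (i : Fin m) (z : ℤ), (⟨hI hp K (J i) (b ^ z), hG i z⟩ : G) ∈ T' :=
    fun i z => ⟨hI_mem_diag (hp := hp) _ (hz0 z), hI_pow (hp := hp) _ (hz0 z) (hbp z)⟩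
  have key : ∀ x ∈ RGD.Pos cs h, ∀ y ∈ RGD.Pos cs h, x ≠ y → ∃ t ∈ T',
      (∀ v ∈ (R D hp K J σ x).subgroupOf G, t * v = v * t) ∧
      ∀ v ∈ (R D hp K J σ y).subgroupOf G, t * v = v * t → v = 1 := by
    intro x hx y hy hxy
    obtain ⟨ox, hox, rx, hrx, hVx, hx1, hx2⟩ := exists_class cs h FD hx hp
    obtain ⟨oy, hoy, ry, hry, hVy, hy1, hy2⟩ := exists_class cs h FD hy hp
    have hVne : V D J rx ≠ V D J ry := by rw [hVx, hVy]; exact hxy
    -- the check
    unfold sepB at hsep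
    rw [List.all_eq_true] at hsep
    have h1 := hsep rx (List.mem_flatten.2 ⟨ox, hox, hrx⟩)
    rw [List.all_eq_true] at h1
    have h2 := h1 ry (List.mem_flatten.2 ⟨oy, hoy, hry⟩)
    simp only [Bool.or_eq_true, decide_eq_true_eq, beq_iff_eq, List.any_eq_true] at h2
    obtain ⟨i, -, j, -, hm⟩ := h2.resolve_left hVne
    set k : ℤ := cI D (J i) rx * cI D (J j) ry - cI D (J j) rx * cI D (J i) ry with hk
    have hpk : ¬ (p : ℤ) ∣ k := by
      intro hd
      have hd' : p ∣ k.natAbs := Int.natCast_dvd.1 hd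
      have h3 : 3 ≤ p := by
        have := hpp.two_le
        rcases hodd with ⟨k, hk⟩
        omega
      rcases hm with (h4 | h4) | h4
      · rw [h4] at hd'; have := Nat.le_of_dvd one_pos hd'; omega
      · rw [h4] at hd'; have := Nat.le_of_dvd two_pos hd'; omega
      · rw [h4] at hd'
        have h6 := Nat.le_of_dvd (by norm_num) hd'
        have h7 : p ≠ 4 := by rintro rfl; exact absurd hpp (by norm_num)
        have h7 : p = 3 := by omega
        rw [h7] at hd'; omega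
    have hclass : ∀ {o : List ℕ} (_ : o ∈ L) {r s : ℕ} (_ : r ∈ o) (_ : s ∈ o) (i : Fin m),
        cI D (J i) r = cI D (J i) s := by
      intro o ho r s hr hs i
      unfold clsB at hcls
      rw [List.all_eq_true] at hcls
      have h3 := hcls o ho
      rw [List.all_eq_true] at h3
      have h4 := h3 r hr
      rw [List.all_eq_true] at h4
      have h5 := h4 s hs
      rw [List.all_eq_true] at h5
      exact eq_of_beq (h5 i (List.mem_finRange i))
    set g : G := ⟨hI hp K (J i) (b ^ (-cI D (J j) rx)), hG i _⟩ * ⟨hI hp K (J j) (b ^ (cI D (J i) rx)), hG j _⟩ with hg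
    have hconj : ∀ {s : ℕ} (_ : s < D.nroots) (t : K), (g : GL D.Idx K) * xG hp.inList s t * (g : GL D.Idx K)⁻¹ =
        xG hp.inList s (b ^ (cI D (J i) rx * cI D (J j) s - cI D (J j) rx * cI D (J i) s) * t) := by
      intro s hs t
      have e3 : (g : GL D.Idx K) * xG hp.inList s t * (g : GL D.Idx K)⁻¹ = hI hp K (J i) (b ^ (-cI D (J j) rx)) *
          (hI hp K (J j) (b ^ (cI D (J i) rx)) * xG hp.inList s t * (hI hp K (J j) (b ^ (cI D (J i) rx)))⁻¹) *
          (hI hp K (J i) (b ^ (-cI D (J j) rx)))⁻¹ := by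
        rw [hg, Subgroup.coe_mul]; group
      rw [e3, hI_conj _ (hz0 _) hs, hI_conj _ (hz0 _) hs, ← mul_assoc, ← zpow_mul, ← zpow_mul, ← zpow_add₀ hb0]
      congr 3
      ring
    refine ⟨g, mul_mem (hmemT i _) (hmemT j _), ?_, ?_⟩
    · intro v hv
      rw [mem_subgroupOf, R_eq hx1 hx2] at hv
      apply Subtype.ext
      refine comm_rspan (x := xG hp.inList) (S := {k | k ∈ ox}) ?_ hv.1
      intro s hs t
      refine Chev.comm_of_scalar hp.inList (hconj (hx2 s hs)) ?_ t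
      have e : cI D (J i) rx * cI D (J j) s - cI D (J j) rx * cI D (J i) s = 0 := by
        rw [hclass hox (show s ∈ ox from hs) hrx, hclass hox (show s ∈ ox from hs) hrx]; ring
      rw [e, zpow_zero]
    · intro v hv hc
      rw [mem_subgroupOf, R_eq hy1 hy2] at hv
      have hfil' := hfil
      unfold filB at hfil'
      rw [List.all_eq_true] at hfil'
      have hf1 := hfil' oy hoy
      rw [Bool.and_eq_true, decide_eq_true_eq, decide_eq_true_eq] at hf1
      obtain ⟨c, -, hvc⟩ := orbit_coords FG.setup hoy hf1.1 hf1.2 hv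
      have h5 : (g : GL D.Idx K) * (v : GL D.Idx K) * (g : GL D.Idx K)⁻¹ = (v : GL D.Idx K) := by
        rw [mul_inv_eq_iff_eq_mul]
        exact congrArg Subtype.val hc
      rw [hvc, lprod_conj (χ := fun s => b ^ (cI D (J i) rx * cI D (J j) s - cI D (J j) rx * cI D (J i) s)) c
        (fun s hs t => hconj (hy2 s hs) t)] at h5
      have h6 := inj_orbit FG.setup hoy hf1.2 h5
      have h7 : ∀ s ∈ oy, c s = 0 := by
        intro s hs
        by_contra hcs
        have h8 := mul_right_cancel₀ hcs ((h6 s hs).trans (one_mul _).symm)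
        rw [hbz, hclass hoy hs hry, hclass hoy hs hry] at h8
        exact hpk h8
      apply Subtype.ext
      rw [hvc]
      have h8 : ∀ {o' : List ℕ}, (∀ s ∈ o', c s = 0) → lprod (xG (F := K) hp.inList) o' c = 1 := by
        intro o'
        induction o' with
        | nil => intro _; rfl
        | cons s o' ih =>
          intro h9
          rw [lprod_cons, h9 s List.mem_cons_self, xG_zero, one_mul]
          exact ih fun s' hs' => h9 s' (List.mem_cons_of_mem _ hs')
      exact h8 h7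
  refine noDouble_of_abPre R0 (GG_eq_top_of_G1 (Cfsg.Agent.Nodes.RGDFold.G1_eq_top cs h FD FG 2)) hodd (T' := T') ?_ ?_ key ?_ hab
  · intro g hg
    exact ⟨hg.1, g.2⟩
  · rintro ⟨g, hg⟩
    refine ⟨1, Subtype.ext (Subtype.ext ?_)⟩
    show (g : GL D.Idx K) ^ p ^ 1 = 1
    rw [pow_one]; exact hg.2
  · -- fixed point free
    intro y hy
    obtain ⟨r, hr, s, hs, hrs⟩ := hL2
    obtain ⟨x, hx, hxy⟩ : ∃ x ∈ RGD.Pos cs h, x ≠ y := by
      have hroot : ∀ {r : ℕ}, r ∈ L.flatten → V D J r ∈ RGD.Pos cs h := fun {r} hr =>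
        ⟨(FD.isRoot_iff hp.checked (fun i r hr => wp_lt hp (J i) hr) _).2 ⟨r, FD.ltL hr, rfl⟩,
          fun i => (FD.posL r (FD.ltL hr)).1 hr i⟩
      by_cases h0 : V D J r = y
      · exact ⟨_, hroot hs, fun h1 => hrs (h0.trans h1.symm)⟩
      · exact ⟨_, hroot hr, h0⟩
    obtain ⟨t, ht, -, h3⟩ := key x hx y hy hxy
    exact ⟨t, ht, h3⟩

end Main

end Cfsg.Agent.KFacts.Mult.FoldW

end

-- merged: Cfsg.Agent.KFacts.Mult.TwESixBig
section

/-!
# ²E₆(q), q = 2^a ≥ 4, has no perfect double cover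
-/

set_option autoImplicit false
set_option linter.unusedSectionVars false
set_option maxHeartbeats 400000

namespace Cfsg.Agent.KFacts.Mult.TwESixBig

open Subgroup Cfsg.Agent.KFacts.MulDef Cfsg.Agent.KFacts.MulTwo Cfsg.Agent.KFacts.Mult.WeightsTwo
  Cfsg.Agent.KFacts.Mult.RGDW Cfsg.Agent.KFacts.Mult.Num Cfsg.Agent.KFacts.Mult.FoldW
open CoxeterSystem Cfsg.Agent.ChevalleyStructure.CoxeterGeom Cfsg.Agent.Tits.Roots Cfsg.Agent.Tits.Core
  Cfsg.Agent.Nodes.BNOf Cfsg.Agent.Nodes.RGDTwGen Cfsg.Agent.Nodes.RGDChev Cfsg.Agent.Nodes.RGDFold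
  Cfsg.Agent.Nodes.RGDFoldSL
open Cfsg.Lie Cfsg.Agent.ChevalleyStructure Cfsg.Agent.ChevalleyStructure.Elts
  Cfsg.Agent.ChevalleyStructure.TwistedU Cfsg.Agent.ChevalleyStructure.TwistedFix
open Cfsg.Agent.Nodes.RGDTwE6 (foldData foldGrp hp J A isCartan)
open Cfsg.Agent.Nodes.RGDTwNode.E6 (rep rest nodeOK eps_one)
open Cfsg.Agent.ChevalleyStructure.TwE6Basic (sg fix exists_frob)

universe u

theorem sep : sepB chevE6 J TwistedE6U.L = true := by decide +kernel
theorem clsOK : clsB chevE6 J TwistedE6U.L = true := by decide +kernel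
theorem filOK : filB TwistedE6U.L = true := by decide +kernel
theorem two : ∃ r ∈ TwistedE6U.L.flatten, ∃ s ∈ TwistedE6U.L.flatten, V chevE6 J r ≠ V chevE6 J s := by decide +kernel
theorem cb0 : Chev.commB chevE6 46 71 1 = true := by decide +kernel
theorem cb1 : Chev.commB chevE6 39 70 2 = true := by decide +kernel
theorem rho_fixed : ∀ r ∈ [71, 1, 70, 2], TwistedE6Sigma.rho r = r ∧ r < chevE6.nroots := by decide +kernel

section

variable {K : Type u} [Field K] [Fintype K] [CharP K 2] {q : ℕ} {φ : K →+* K}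

theorem eps_cast (r : Fin 72) : ((TwistedE6Sigma.eps r : ℤ) : K) = 1 := by
  have h := TwistedE6Sigma.eps_sq r r.2
  rcases mul_self_eq_one_iff.1 h with h1 | h1 <;> rw [h1]
  · simp
  · simp [CharTwo.neg_eq]

/-- long root elements -/
theorem long_mem (hφ : ∀ x, φ x = x ^ q) (hqq : ∀ t : K, (t ^ q) ^ q = t) {r : ℕ} (hr : r ∈ [71, 1, 70, 2])
    {a : K} (ha : φ a = a) : xG (F := K) hp.inList r a ∈ twistedE6 K q := by
  have : Fact (Nat.Prime 2) := ⟨Nat.prime_two⟩
  obtain ⟨h1, h2⟩ := rho_fixed r hr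
  have hroot : IsRoot (CoxeterMatrix.F₄.toCoxeterSystem) isCartan (V chevE6 J r) :=
    (foldData.isRoot_iff hp.checked (fun i r hr => wp_lt hp (J i) hr) _).2 ⟨r, h2, rfl⟩
  refine R_le CoxeterMatrix.F₄.toCoxeterSystem isCartan foldData (foldGrp hφ hqq) 2 hroot ?_
  refine ⟨mem_rspan (xG hp.inList) (S := {k | k < chevE6.nroots ∧ V chevE6 J k = V chevE6 J r}) ⟨h2, rfl⟩ a, ?_⟩
  show sg φ (xG hp.inList r a) = xG hp.inList r a
  have h3 : sg φ (xG hp.inList r a) = xG hp.inList (TwistedE6Sigma.rho r) (((TwistedE6Sigma.eps r : ℤ) : K) * φ a) :=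
    TwistedE6U.sig_X φ h2 a
  rw [h1] at h3
  have h4 := eps_cast (K := K) ⟨r, h2⟩
  simp only at h4
  rw [h3, h4, one_mul, ha]

theorem abPre (hφ : ∀ x, φ x = x ^ q) (hqq : ∀ t : K, (t ^ q) ^ q = t) (hq : 4 < Nat.card K) (i : Fin 4) :
    AbPre ((R chevE6 hp K J (sg φ) (sr i)).subgroupOf (twistedE6 K q)) := by
  have hf : ∀ i : Fin 4, ∀ s ∈ rep i :: rest i, ∀ t, (fun r t => ((TwistedE6Sigma.eps r : ℤ) : K) * φ t) s t = φ t := by
    intro i s hs t
    show ((TwistedE6Sigma.eps s : ℤ) : K) * φ t = φ t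
    rw [eps_one i s hs, Int.cast_one, one_mul]
  have FG := foldGrp (K := K) hφ hqq
  have long : ∀ (i : Fin 4) (z : ℕ), rep i = z → rest i = [] → ∀ v ∈ (R chevE6 hp K J (sg φ) (sr i)).subgroupOf
      (twistedE6 K q), ∃ a, φ a = a ∧ (v : GL chevE6.Idx K) = xG hp.inList z a := by
    intro i z hz ho v hv
    obtain ⟨a, ha, e⟩ := (mem_R_iff FG (nodeOK i) (hf i) (v : GL chevE6.Idx K)).1 hv
    rw [hz, ho] at e
    rw [ho] at ha
    refine ⟨a, ha, e.trans ?_⟩
    show xG hp.inList z a * 1 = _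
    rw [mul_one]
  have hneg : ∀ a : K, φ a = a → φ (-a) = -a := fun a ha => by rw [map_neg, ha]
  have short : ∀ i : Fin 4, (rest i).length = 1 → AbPre ((R chevE6 hp K J (sg φ) (sr i)).subgroupOf
      (twistedE6 K q)) := by
    intro i hi
    refine abPre_field FG (nodeOK i) (hf i) ?_
    have h1 : Fx φ ((rest i).length + 1) = ⊤ := by
      rw [hi, eq_top_iff]
      intro t _
      rw [mem_Fx]
      show φ (φ t) = t
      rw [hφ, hφ, hqq]
    rw [h1]
    have h2 : Nat.card (⊤ : Subfield K) = Nat.card K := Nat.card_congr Subfield.topEquiv.toEquiv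
    rw [h2]; exact hq
  fin_cases i
  · exact abPre_commB (hp := hp) (q0 := fun a => φ a = a) (z := 46) (r := 71) (s := 1) (by decide +kernel) cb0 (long 0 46 rfl rfl)
      (map_one φ) hneg (fun a ha => long_mem hφ hqq (by decide) ha) (fun a ha => long_mem hφ hqq (by decide) ha)
  · exact abPre_commB (hp := hp) (q0 := fun a => φ a = a) (z := 39) (r := 70) (s := 2) (by decide +kernel) cb1 (long 1 39 rfl rfl)
      (map_one φ) hneg (fun a ha => long_mem hφ hqq (by decide) ha) (fun a ha => long_mem hφ hqq (by decide) ha)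
  · exact short 2 rfl
  · exact short 3 rfl

end

/-- **²E₆(q) has no perfect double cover**, `q = 2^a ≥ 4`. -/
theorem noDouble {K : Type u} [Field K] [Fintype K] {a : ℕ} (ha : 2 ≤ a) (hK : Fintype.card K = (2 ^ a) ^ 2) :
    NoDouble ↥(twistedE6 K (2 ^ a)) := by
  have hK' : Fintype.card K = 2 ^ (a * 2) := by rw [hK, ← pow_mul]
  haveI := Fact.mk Nat.prime_two
  have hc : CharP K 2 := charP_of_card_eq_prime_pow hK'
  have hqp : IsPrimePow (2 ^ a) := Nat.prime_two.isPrimePow.pow (by omega)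
  obtain ⟨φ, hφ, hqq⟩ := exists_frob hqp hK
  have hcK : Nat.card K = (2 ^ a) ^ 2 := by rw [Nat.card_eq_fintype_card, hK]
  have h4 : 2 ^ 2 ≤ 2 ^ a := Nat.pow_le_pow_right (by norm_num) ha
  have hodd : Odd (2 ^ a - 1) :=
    Nat.Even.sub_odd (by omega) (even_two.pow_of_ne_zero (by omega)) odd_one
  obtain ⟨p, hp', hpq⟩ := Nat.exists_prime_and_dvd (n := 2 ^ a - 1) (by omega)
  have hpodd : Odd p := Odd.of_dvd_nat hodd hpq
  haveI := Fact.mk hp'
  have hdiv : 2 ^ a - 1 ∣ (2 ^ a) ^ 2 - 1 := by simpa using Nat.sub_dvd_pow_sub_pow (2 ^ a) 1 2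
  obtain ⟨b, hb0, hb⟩ := exists_orderOf (K := K) (p := p) (by rw [hcK]; exact hpq.trans hdiv)
  have hbq : b ^ (2 ^ a - 1) = 1 := orderOf_dvd_iff_pow_eq_one.1 (hb ▸ hpq)
  have hφb : φ b = b := by
    rw [hφ]
    have : 2 ^ a = (2 ^ a - 1) + 1 := by omega
    rw [this, pow_succ, hbq, one_mul]
  refine noDouble_of_fold isCartan foldData (foldGrp hφ hqq) hpodd hb0 hb hφb two sep clsOK filOK ?_
    (abPre hφ hqq (by rw [hcK]; nlinarith))
  intro i
  refine ⟨rep i, rest i, nodeOK i, fun s hs t => ?_⟩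
  show ((TwistedE6Sigma.eps s : ℤ) : K) * φ t = φ t
  rw [eps_one i s hs, Int.cast_one, one_mul]

/-- **The row `e62`.** -/
theorem e62 : ∀ (F : Type) [Field F] [Fintype F] (a : ℕ), 2 ≤ a → Fintype.card F = 4 ^ a →
    NoDouble ↥(twistedE6 F (2 ^ a)) := by
  intro F _ _ a ha hF
  have hF' : Fintype.card F = (2 ^ a) ^ 2 := by
    rw [hF, ← pow_mul, mul_comm, pow_mul]; norm_num
  exact noDouble ha hF'

end Cfsg.Agent.KFacts.Mult.TwESixBig

end
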