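import Cfsg.Agent.KFacts.Mult.TwESixLift
import Cfsg.Agent.BabyU.Out
import Cfsg.Agent.BabyU.FusFinal
import Cfsg.Agent.TwoESix.LeviHyp
import Cfsg.Agent.TwoESix.LeviG
import Cfsg.Agent.TwoESix.RootsInst
import Cfsg.Agent.TwoESix.ExtTwisted
import Cfsg.Agent.TwoESix.GoodInst
import Cfsg.Agent.BM.HBFinal

-- merged: Cfsg.Agent.KFacts.Mult.TwESixArms
section

/-!
# Automorphisms of `2².²E₆(2)`: the abstract part

`X` is a finite perfect central extension of `E` by a 2-group of order 4, where `E` is generated by ten nodes satisfying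
the relations `Good` and these relations bound the order by `|E|`.  An automorphism of `X` which acts trivially on the
kernel and preserves the preimage of the class of the nodes is inner (`inner'`).

The ten nodes lift to elements with the exact Coxeter relations; the values of the three `E₇` words are `z₁`, `1`, `z₃`
with `z₁`, `z₃` generating the kernel.  An automorphism of `²E₆(2)` is inner up to a permutation of the three arms, and
this permutation is visible in the values of the words.
-/

set_option autoImplicit false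

namespace Cfsg.Agent.KFacts.Mult.TwESixArms

open Subgroup Cfsg Cfsg.Agent.TwoESix Cfsg.Agent.TwoESix.Cox10 Cfsg.Agent.TwoESix.Lift
open Cfsg.Agent.R01.Lifts Cfsg.Agent.BabyU Cfsg.Agent.BabyU.OutCount Cfsg.Agent.BabyU.OutFree
open Cfsg.Agent.KFacts.Mult.TwESixLift

universe u v

/-! ### The lifts -/

section Abs

variable {X : Type u} {E : Type v} [Group X] [Group E] {π : X →* E}

/-- The facts on the extension. -/
structure Cov (π : X →* E) : Prop where
  surj : Function.Surjective π
  cen : π.ker ≤ center X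
  el : ∀ z, π z = 1 → z * z = 1
  card : Nat.card π.ker = 4

theorem Cov.comm (C : Cov π) {z : X} (hz : π z = 1) (g : X) : z * g = g * z :=
  (mem_center_iff.1 (C.cen hz) g).symm

/-- Lifts of a configuration of nodes. -/
structure Basis (π : X →* E) (m : Fin 10 → X) : Prop where
  w : WGood m
  top : closure (Set.range m) = ⊤
  k1 : π (ev m W321 ^ 9) = 1
  k3 : π (ev m W213 ^ 9) = 1
  ne1 : ev m W321 ^ 9 ≠ 1
  ne3 : ev m W213 ^ 9 ≠ 1
  ne13 : ev m W321 ^ 9 ≠ ev m W213 ^ 9

theorem exists_basis [Finite X] {e : Fin 10 → E} (he : Good e) (hgen : closure (Set.range e) = ⊤)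
    (hcard : ∀ (Y : Type u) [Group Y] (y : Fin 10 → Y), Good y → closure (Set.range y) = ⊤ →
      Nat.card Y ≤ Nat.card E)
    (hperf : commutator X = ⊤) (C : Cov π) : ∃ m : Fin 10 → X, (∀ i, π (m i) = e i) ∧ Basis π m := by
  have hp : IsPGroup 2 π.ker := fun z => ⟨1, by
    rw [pow_one, pow_two]; exact Subtype.ext (C.el z z.2)⟩
  obtain ⟨m, hm, hw⟩ := exists_lift (WGood.of_good he) (Nat.card X) X π le_rfl C.surj C.cen hp
  have hme : (fun i => π (m i)) = e := funext hm
  have htop : closure (Set.range m) = ⊤ := closure_eq_top C.cen hperf (by rw [hme]; exact hgen)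
  have hk1 : π (ev m W321 ^ 9) = 1 := by rw [map_pow, ev_map, hme]; exact he.e321
  have hk3 : π (ev m W213 ^ 9) = 1 := by rw [map_pow, ev_map, hme]; exact he.e213
  refine ⟨m, hm, ?_⟩
  -- the order of a cyclic subgroup containing both words
  have key : ∀ z : X, π z = 1 → ev m W321 ^ 9 ∈ zpowers z → ev m W213 ^ 9 ∈ zpowers z → False := by
    intro z hz h1 h3
    have hAk : zpowers z ≤ π.ker := (zpowers_le).2 hz
    have hN : (zpowers z).Normal := normal_of_le_center (hAk.trans C.cen)
    have hq : Good (fun i => QuotientGroup.mk' (zpowers z) (m i)) := by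
      have h2 := hw.map (QuotientGroup.mk' (zpowers z))
      refine ⟨h2.lift, h2.spider, ?_, h2.e231, ?_⟩
      · rw [← ev_map, ← map_pow, QuotientGroup.mk'_apply, QuotientGroup.eq_one_iff]
        exact h1
      · rw [← ev_map, ← map_pow, QuotientGroup.mk'_apply, QuotientGroup.eq_one_iff]
        exact h3
    have hqt : closure (Set.range fun i => QuotientGroup.mk' (zpowers z) (m i)) = ⊤ := by
      have h2 : (Set.range fun i => QuotientGroup.mk' (zpowers z) (m i)) =
          (QuotientGroup.mk' (zpowers z)) '' Set.range m := by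
        rw [← Set.range_comp]; rfl
      rw [h2, ← MonoidHom.map_closure, htop, ← MonoidHom.range_eq_map, MonoidHom.range_eq_top]
      exact QuotientGroup.mk'_surjective _
    have hle := hcard (X ⧸ zpowers z) _ hq hqt
    have c1 : Nat.card X = Nat.card (X ⧸ zpowers z) * Nat.card (zpowers z) :=
      Subgroup.card_eq_card_quotient_mul_card_subgroup _
    have c2 : Nat.card X = Nat.card E * Nat.card π.ker := by
      rw [Subgroup.card_eq_card_quotient_mul_card_subgroup π.ker]
      congr 1
      exact Nat.card_congr (QuotientGroup.quotientKerEquivOfSurjective π C.surj).toEquiv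
    have hEpos : 0 < Nat.card E := by
      have : Finite E := Finite.of_surjective π C.surj
      exact Nat.card_pos
    have h2 : Nat.card (zpowers z) ≤ 2 := by
      rw [Nat.card_zpowers]
      exact orderOf_le_of_pow_eq_one (by norm_num) (by rw [pow_two]; exact C.el z hz)
    rw [C.card, c1] at c2
    have h5 : Nat.card (X ⧸ zpowers z) * Nat.card (zpowers z) ≤ Nat.card E * 2 := Nat.mul_le_mul hle h2
    omega
  refine ⟨hw, htop, hk1, hk3, fun h => ?_, fun h => ?_, fun h => ?_⟩
  · exact key _ hk3 (by rw [h]; exact one_mem _) (mem_zpowers _)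
  · exact key _ hk1 (mem_zpowers _) (by rw [h]; exact one_mem _)
  · exact key _ hk1 (mem_zpowers _) (by rw [← h]; exact mem_zpowers _)

theorem ev_mul_c {v : X} (hv : ∀ g, v * g = g * v) (s : Fin 10 → X) (w : List (Fin 10)) :
    ev (fun i => s i * v) w = ev s w * v ^ w.length := by
  induction w with
  | nil => simp [ev_nil]
  | cons i w ih =>
    rw [ev_cons, ih, ev_cons, List.length_cons, pow_succ']
    calc s i * v * (ev s w * v ^ w.length) = s i * (v * ev s w) * v ^ w.length := by group
      _ = s i * (ev s w * v) * v ^ w.length := by rw [hv]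
      _ = _ := by group

theorem sig_mul_c {v : X} (hv : ∀ g, v * g = g * v) (hvv : v * v = 1) (s : Fin 10 → X) (k : Fin 3) :
    sig (fun i => s i * v) k = sig s k * v := by
  show ev (fun i => s i * v) (OutFree.W k) ^ 9 = _
  have hcom : Commute (ev s (OutFree.W k)) (v ^ 7) := Commute.pow_right (hv _).symm 7
  rw [ev_mul_c hv, W_length, hcom.mul_pow, ← pow_mul]
  congr 1
  show v ^ 63 = v
  rw [show 63 = 2 * 31 + 1 by norm_num, pow_succ, pow_mul, pow_two, hvv, one_pow, one_mul]

/-- **The arms are fixed.** -/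
theorem arm_zero (C : Cov π) {m : Fin 10 → X} (B : Basis π m) (θ : X →* X) (hz : ∀ z, π z = 1 → θ z = z)
    {n : Fin 6} (hθ : ∀ i, π (θ (m i)) = π (m (P6 n i))) : n = 0 ∧ ∀ i, θ (m i) = m i := by
  have hcs : CS m := ⟨B.w.lift, B.w.spider⟩
  have hu : ∀ i, ∃ u, π u = 1 ∧ θ (m i) = m (P6 n i) * u := fun i =>
    ⟨(m (P6 n i))⁻¹ * θ (m i), by rw [map_mul, map_inv, hθ, inv_mul_cancel], by group⟩
  choose u hu1 hu2 using hu
  have hcu : ∀ i g, u i * g = g * u i := fun i g => C.comm (hu1 i) g
  have h3 : ∀ {i j}, adj i j = true → (m i * m j) ^ 3 = 1 := by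
    intro i j hij
    have := B.w.lift i j
    rwa [M10_apply, lab_adj i j hij] at this
  have hadj : ∀ i j, adj i j = true → u i = u j := by
    intro i j hij
    have h4 : (θ (m i) * θ (m j)) ^ 3 = 1 := by rw [← map_mul, ← map_pow, h3 hij, map_one]
    have h5 : θ (m i) * θ (m j) = m (P6 n i) * m (P6 n j) * (u i * u j) := by
      rw [hu2, hu2]
      calc m (P6 n i) * u i * (m (P6 n j) * u j) = m (P6 n i) * (u i * m (P6 n j)) * u j := by group
        _ = m (P6 n i) * (m (P6 n j) * u i) * u j := by rw [hcu]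
        _ = _ := by group
    have h6 : π (u i * u j) = 1 := by rw [map_mul, hu1, hu1, mul_one]
    have hcom : Commute (m (P6 n i) * m (P6 n j)) (u i * u j) := (C.comm h6 _).symm
    rw [h5, hcom.mul_pow, h3 (by rw [adj_P6]; exact hij), one_mul, pow_succ, pow_two, C.el _ h6, one_mul] at h4
    have h7 : u j * u j = 1 := C.el _ (hu1 j)
    calc u i = u i * (u j * u j) := by rw [h7, mul_one]
      _ = u i * u j * u j := by group
      _ = u j := by rw [h4, one_mul]
  set v := u 3 with hv
  have hall : ∀ i, u i = v := all_nodes (fun i => u i = v) (fun i j hij hi => by rw [← hadj i j hij]; exact hi) rfl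
  have hθ' : ∀ i, θ (m i) = m (P6 n i) * v := fun i => by rw [hu2, hall]
  have hvv : v * v = 1 := C.el _ (hu1 3)
  have hvc : ∀ g, v * g = g * v := hcu 3
  have hk : ∀ k, π (sig m k) = 1 := by
    intro k
    fin_cases k
    · exact B.k1
    · show π (ev m W231 ^ 9) = 1
      rw [B.w.e231, map_one]
    · exact B.k3
  have key : ∀ k, sig m k = sig m (Q6 n k) * v := by
    intro k
    have h4 : θ (sig m k) = sig (fun i => θ (m i)) k := by
      show θ (ev m (OutFree.W k) ^ 9) = _
      rw [map_pow, ev_map]; rfl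
    have h5 : (fun i => θ (m i)) = fun i => m (P6 n i) * v := funext hθ'
    rw [hz _ (hk k), h5, sig_mul_c hvc hvv, sig_P6 hcs] at h4
    exact h4
  have e0 : sig m 0 = ev m W321 ^ 9 := rfl
  have e1 : sig m 1 = 1 := B.w.e231
  have e2 : sig m 2 = ev m W213 ^ 9 := rfl
  have n1 := B.ne1
  have n3 := B.ne3
  have n13 := B.ne13
  rw [← e0] at n1 n13
  rw [← e2] at n3 n13
  have q0 := key 0
  have q1 := key 1
  have q2 := key 2
  have s0 : sig m 0 * sig m 0 = 1 := C.el _ (hk 0)
  have s2 : sig m 2 * sig m 2 = 1 := C.el _ (hk 2)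
  have hvi : ∀ a : X, a = a * v → v = 1 := fun a h => by
    have := h.symm
    exact mul_eq_left.1 this
  have hn : n = 0 ∧ v = 1 := by
    fin_cases n
    · exact ⟨rfl, hvi _ q0⟩
    · exfalso
      have h1 : v = 1 := hvi _ q2
      have h2 : sig m 0 = sig m 1 * v := q0
      rw [e1, h1, mul_one] at h2
      exact n1 h2
    · exfalso
      have h1 : v = 1 := hvi _ q1
      have h2 : sig m 0 = sig m 2 * v := q0
      rw [h1, mul_one] at h2
      exact n13 h2
    · exfalso
      have h1 : v = 1 := hvi _ q0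
      have h2 : sig m 2 = sig m 1 * v := q2
      rw [e1, h1, mul_one] at h2
      exact n3 h2
    · exfalso
      have h2 : sig m 2 = sig m 1 * v := q2
      have h3 : sig m 0 = sig m 2 * v := q0
      rw [e1, one_mul] at h2
      rw [h2, hvv] at h3
      exact n1 h3
    · exfalso
      have h2 : sig m 0 = sig m 1 * v := q0
      have h3 : sig m 1 = sig m 2 * v := q1
      rw [e1, one_mul] at h2
      rw [e1] at h3
      have h4 : v = sig m 2 := by
        calc v = sig m 2 * sig m 2 * v := by rw [s2, one_mul]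
          _ = sig m 2 * (sig m 2 * v) := by group
          _ = sig m 2 := by rw [← h3, mul_one]
      exact n13 (h2.trans h4)
  obtain ⟨rfl, hv1⟩ := hn
  exact ⟨rfl, fun i => by rw [hθ', hv1, mul_one, P6_zero]⟩

/-- Non-trivial permutations of the arms are not inner. -/
theorem not_inner' [Finite X] (hcard : ∀ (Y : Type u) [Group Y] (y : Fin 10 → Y), Good y →
      closure (Set.range y) = ⊤ → Nat.card Y ≤ Nat.card E)
    (hperf : commutator X = ⊤) (C : Cov π) {f : Fin 10 → E} (hf : GG f) {n : Fin 6} (hn : n ≠ 0) (x : E) :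
    ¬ ∀ i, x * f i * x⁻¹ = f (P6 n i) := by
  intro hx
  obtain ⟨m, hm, B⟩ := exists_basis hf.1 hf.2 hcard hperf C
  obtain ⟨y, rfl⟩ := C.surj x
  refine hn (arm_zero C B (MulAut.conj y).toMonoidHom (n := n) (fun z hz => ?_) fun i => ?_).1
  · show MulAut.conj y z = z
    rw [MulAut.conj_apply, ← C.comm hz y, mul_inv_cancel_right]
  · show π (MulAut.conj y (m i)) = _
    rw [MulAut.conj_apply, map_mul, map_mul, map_inv, hm, hm, hx]

variable {F : Type*} [Field F] [Fintype F] {hF : Fintype.card F = 2 ^ 2}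

/-- Two configurations are conjugate up to a permutation of the arms. -/
theorem arms' [Finite X] (hcard : ∀ (Y : Type u) [Group Y] (y : Fin 10 → Y), Good y →
      closure (Set.range y) = ⊤ → Nat.card Y ≤ Nat.card E)
    (hperf : commutator X = ⊤) (C : Cov π) (hE : ∃ a b : E, ¬ Commute a b) {R : Set E} (H : OutCount.Hyp hF R)
    {f f' : Fin 10 → E} (hf : GG f) (hfR : ∀ i, f i ∈ R) (hf' : GG f') (hfR' : ∀ i, f' i ∈ R) :
    ∃ (x : E) (k : Fin 6), ∀ i, x * f' i * x⁻¹ = f (P6 k i) := by
  let g : Fin 7 → Fin 10 → E := Fin.snoc (α := fun _ => Fin 10 → E) (fun k : Fin 6 => fun i => f (P6 k i)) f'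
  have hg1 : ∀ k : Fin 6, g k.castSucc = fun i => f (P6 k i) := fun k => by simp [g]
  have hg2 : g (Fin.last 6) = f' := Fin.snoc_last _ _
  have hgg : ∀ k, GG (g k) := by
    intro k
    refine Fin.lastCases ?_ (fun k => ?_) k
    · rw [hg2]; exact hf'
    · rw [hg1]; exact hf.P6 k
  have hgR : ∀ k i, g k i ∈ R := by
    intro k
    refine Fin.lastCases ?_ (fun k => ?_) k
    · rw [hg2]; exact hfR'
    · rw [hg1]; exact fun i => hfR _
  have hfree : ∀ k h, Cj (g k) h → ∀ x : E, ¬ ∀ i, x * h i * x⁻¹ = h (pAC i) := by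
    rintro k _ ⟨y, rfl⟩ x hx
    exact not_inner' hcard hperf C (Out.GG.cj (hgg k) y) (n := 2) (by decide) x hx
  -- two arm permutations of `f` are not conjugate
  have hperm : ∀ k l : Fin 6, k ≠ l → ¬ Cj (g k.castSucc) (g l.castSucc) := by
    rintro k l hkl ⟨x, hx⟩
    rw [hg1, hg1] at hx
    obtain ⟨n, hn, hnn⟩ := P6_div k l hkl
    refine not_inner' hcard hperf C hf hn x fun j => ?_
    obtain ⟨i, rfl⟩ := P6_surj k j
    rw [← hnn]
    exact congrFun hx i
  obtain ⟨k, l, hkl, hc⟩ := seven H (f := g) (fun k => Out.cfg_of_gg (hgg k) (hgR k) hE) hfree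
  have fin : ∀ k : Fin 6, Cj (g (Fin.last 6)) (g k.castSucc) → ∃ (x : E) (k : Fin 6), ∀ i, x * f' i * x⁻¹ = f (P6 k i) := by
    rintro k ⟨x, hx⟩
    rw [hg1, hg2] at hx
    exact ⟨x, k, fun i => congrFun hx i⟩
  revert hkl hc
  refine Fin.lastCases ?_ (fun k => ?_) k
  · refine Fin.lastCases ?_ (fun l => ?_) l
    · intro h; exact absurd rfl h
    · intro _ hc; exact fin l hc
  · refine Fin.lastCases ?_ (fun l => ?_) l
    · intro _ hc; exact fin k hc.symm
    · intro hkl hc
      exact absurd hc (hperm k l fun h => hkl (by rw [h]))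

/-- **Automorphisms acting trivially on the kernel are inner**, abstract form. -/
theorem inner' [Finite X] (hcard : ∀ (Y : Type u) [Group Y] (y : Fin 10 → Y), Good y →
      closure (Set.range y) = ⊤ → Nat.card Y ≤ Nat.card E)
    (hperf : commutator X = ⊤) (C : Cov π) (hE : ∃ a b : E, ¬ Commute a b) {R : Set E} (H : OutCount.Hyp hF R)
    {e : Fin 10 → E} (he : GG e) (heR : ∀ i, e i ∈ R)
    (α : MulAut X) (hα : ∀ z, π z = 1 → α z = z) (hR : ∀ x, π x ∈ R → π (α x) ∈ R) :
    ∃ k : X, ∀ x, α x = k * x * k⁻¹ := by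
  obtain ⟨m, hm, B⟩ := exists_basis he.1 he.2 hcard hperf C
  have hme : (fun i => π (m i)) = e := funext hm
  have hf' : GG (fun i => π (α (m i))) := by
    refine ⟨?_, ?_⟩
    · have h1 := B.w.map (π.comp α.toMonoidHom)
      refine ⟨h1.lift, h1.spider, ?_, h1.e231, ?_⟩
      · show ev (fun i => (π.comp α.toMonoidHom) (m i)) W321 ^ 9 = 1
        rw [← ev_map, ← map_pow]
        show π (α _) = 1
        rw [hα _ B.k1, B.k1]
      · show ev (fun i => (π.comp α.toMonoidHom) (m i)) W213 ^ 9 = 1
        rw [← ev_map, ← map_pow]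
        show π (α _) = 1
        rw [hα _ B.k3, B.k3]
    · have h2 : (Set.range fun i => π (α (m i))) = (π.comp α.toMonoidHom) '' Set.range m := by
        rw [← Set.range_comp]; rfl
      rw [h2, ← MonoidHom.map_closure, B.top, ← MonoidHom.range_eq_map, MonoidHom.range_eq_top]
      exact C.surj.comp α.surjective
  have hfR' : ∀ i, π (α (m i)) ∈ R := fun i =>
    hR _ (by rw [hm]; exact heR i)
  obtain ⟨x, k, hx⟩ := arms' hcard hperf C hE H he heR hf' hfR'
  obtain ⟨y, rfl⟩ := C.surj x
  obtain ⟨-, hy⟩ := arm_zero C B ((MulAut.conj y).toMonoidHom.comp α.toMonoidHom) (n := k) (fun z hz => by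
    show MulAut.conj y (α z) = z
    rw [hα z hz, MulAut.conj_apply, ← C.comm hz y, mul_inv_cancel_right]) fun i => by
    show π (MulAut.conj y (α (m i))) = _
    rw [MulAut.conj_apply, map_mul, map_mul, map_inv, hx, hm]
  have hid : (MulAut.conj y).toMonoidHom.comp α.toMonoidHom = MonoidHom.id X := by
    refine MonoidHom.eq_of_eqOn_dense B.top ?_
    rintro _ ⟨i, rfl⟩
    exact hy i
  refine ⟨y⁻¹, fun x => ?_⟩
  have h1 : y * α x * y⁻¹ = x := DFunLike.congr_fun hid x
  rw [inv_inv]
  conv_rhs => rw [← h1]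
  group

end Abs

end Cfsg.Agent.KFacts.Mult.TwESixArms

end

-- merged: Cfsg.Agent.KFacts.Mult.TwESixInner
section

/-!
# Automorphisms of `2².²E₆(2)`

`K` is a finite perfect central extension of `²E₆(2)` by a 2-group of order 4.  An automorphism of `K` acting trivially
on the kernel is inner (`inner`, `center_inner`).
-/

set_option autoImplicit false

namespace Cfsg.Agent.KFacts.Mult.TwESixInner

open Subgroup Cfsg Cfsg.Lie Cfsg.Agent.TwoESix Cfsg.Agent.TwoESix.Cox10 Cfsg.Agent.TwoESix.Lift
open Cfsg.Agent.R01.Lifts Cfsg.Agent.BabyU Cfsg.Agent.BabyU.OutCount Cfsg.Agent.BabyU.OutFree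
open Cfsg.Agent.KFacts.Mult.TwESixLift Cfsg.Agent.KFacts.Mult.TwESixArms

universe u v

/-- **Automorphisms of `2².²E₆(2)` acting trivially on the kernel are inner.** -/
theorem inner {F : Type v} [Field F] [Fintype F] (hF : Fintype.card F = 4) {K : Type u} [Group K] [Finite K]
    (hperf : commutator K = ⊤) {π : K →* twistedE6 F 2} (hs : Function.Surjective π) (hc : π.ker ≤ center K)
    (hp : IsPGroup 2 π.ker) (h4 : Nat.card π.ker = 4) (α : MulAut K) (hα : ∀ z, π z = 1 → α z = z) :
    ∃ k : K, ∀ x, α x = k * x * k⁻¹ := by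
  have hcard : ∀ (Y : Type u) [Group Y] (y : Fin 10 → Y), Good y → closure (Set.range y) = ⊤ →
      Nat.card Y ≤ Nat.card (twistedE6 F 2) := fun Y _ y hy hty => by
    rw [BM.HBFinal.card_E F hF]; exact (BM.HBFinal.card_le hy hty).2
  obtain ⟨e, r, he, hgen, hr, -, hcl⟩ := GoodInst.exists_good F hF
  have heT : ∀ i, e i ∈ rootClass F := fun i => by
    obtain ⟨g, hg⟩ := hcl i
    exact ⟨g, r, hr, hg⟩
  have B0 := ExtTwisted.basic F hF
  have hF2 : Fintype.card F = 2 ^ 2 := hF
  have H : OutCount.Hyp hF2 (rootClass F) := LeviHyp.outHyp (LeviG.rootFacts hF hF2) B0.opp_trans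
  have : Finite (twistedE6 F 2) := Finite.of_surjective π hs
  obtain ⟨hel, -⟩ := TwESixLift.main he hgen hcard hperf hs hc hp
  have hk : ∀ x, π x = 1 ↔ π (α x) = 1 := by
    intro x
    constructor
    · intro h; rw [hα x h]; exact h
    · intro h
      have h1 := hα _ h
      have h2 := α.injective h1
      rw [← h2]; exact h
  exact inner' hcard hperf ⟨hs, hc, hel, h4⟩ (FusFinal.exists_not_commute (RootsInst.roots F hF)) H
    ⟨he, hgen⟩ heT α hα fun x => (ExtTwisted.cover_auto B0 hs α hk x).1

/-- **The same for a group with centre of order 4.** -/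
theorem center_inner {K : Type u} [Group K] [Finite K] (hperf : commutator K = ⊤)
    (h4 : Nat.card ↥(center K) = 4)
    (hX : ∃ (F : Type) (_ : Field F) (_ : Fintype F), Fintype.card F = 4 ∧
      Nonempty (K ⧸ center K ≃* ↥(Lie.twistedE6 F 2))) (α : MulAut K) (hα : ∀ z ∈ center K, α z = z) :
    ∃ k : K, ∀ x, α x = k * x * k⁻¹ := by
  obtain ⟨F, _, _, hF, ⟨f⟩⟩ := hX
  let π : K →* Lie.twistedE6 F 2 := f.toMonoidHom.comp (QuotientGroup.mk' (center K))
  have hker : π.ker = center K := by
    ext x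
    rw [MonoidHom.mem_ker]
    show f (QuotientGroup.mk' (center K) x) = 1 ↔ _
    rw [map_eq_one_iff f f.injective, QuotientGroup.mk'_apply, QuotientGroup.eq_one_iff]
  have hs : Function.Surjective π := f.surjective.comp (QuotientGroup.mk'_surjective _)
  have hp : IsPGroup 2 π.ker := IsPGroup.of_card (n := 2) (by rw [hker, h4]; norm_num)
  refine inner hF hperf hs hker.le hp (by rw [hker]; exact h4) α fun z hz => hα z ?_
  rw [← hker]; exact hz

end Cfsg.Agent.KFacts.Mult.TwESixInner

end
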