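import Cfsg.Agent.KFacts.Mult.RGDW
import Cfsg.Agent.KFacts.Mult.FieldAlt
import Cfsg.Agent.KFacts.TwF4.Sys
import Cfsg.Agent.KFacts.TwF4.Torus
import Mathlib
import Cfsg.Agent.SplitTwo.RootSysZ
import Cfsg.Agent.S1068
import Cfsg.Agent.S1110

-- merged: Cfsg.Agent.KFacts.Mult.OddSpl
section

/-!
# Splitting preimages with an action of a group of odd order

`Spl.of_notMem`: let `D` be of odd order, normalising `V`, with an element acting fixed point freely on `V`.  If, in every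
double cover, the central involution `c` does not lie in the commutator group of the preimage of `V`, then the preimage
of `V` splits with a complement normalised by `D`.
-/

set_option autoImplicit false

namespace Cfsg.Agent.KFacts.Mult.OddSpl

open Subgroup Cfsg.Agent.KFacts.MulDef Cfsg.Agent.KFacts.MulTwo Cfsg.Agent.KFacts.Mult.WeightsTwo
  Cfsg.Agent.KFacts.Mult.RGDW
open scoped commutatorElement

universe u

variable {X : Type u} [Group X]

/-- A complex character of `A` with value `-1` at an involution outside the commutator group. -/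
theorem exists_char {L : Type*} [Group L] [Finite L] {A : Subgroup L} {c : L} (hc : c ∈ A) (hcc : c * c = 1)
    (hn : c ∉ ⁅A, A⁆) : ∃ φ : A →* ℂˣ, φ ⟨c, hc⟩ = -1 := by
  have h1 : (Abelianization.of (⟨c, hc⟩ : A)) ≠ 1 := by
    intro h
    apply hn
    have h2 : (⟨c, hc⟩ : A) ∈ commutator A := by
      have := (QuotientGroup.eq_one_iff (N := commutator A) (⟨c, hc⟩ : A)).1 h
      exact this
    have h3 : (⟨c, hc⟩ : A).1 ∈ (commutator A).map A.subtype := ⟨_, h2, rfl⟩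
    rw [Subgroup.map_subtype_commutator] at h3
    exact h3
  obtain ⟨φ, hφ⟩ := CommGroup.exists_apply_ne_one_of_hasEnoughRootsOfUnity (Abelianization A) ℂ h1
  refine ⟨φ.comp Abelianization.of, ?_⟩
  have h4 : (φ (Abelianization.of (⟨c, hc⟩ : A))) ^ 2 = 1 := by
    rw [← map_pow, ← map_pow, pow_two]
    have : (⟨c, hc⟩ : A) * ⟨c, hc⟩ = 1 := Subtype.ext hcc
    rw [this, map_one, map_one]
  have h5 := congrArg Units.val h4
  rw [Units.val_pow_eq_pow_val, Units.val_one, sq_eq_one_iff] at h5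
  rcases h5 with h5 | h5
  · exact absurd (Units.ext h5) hφ
  · exact Units.ext (by rw [Units.val_neg, Units.val_one]; exact h5)

theorem conj_eq_of_map_eq {L : Type*} [Group L] {π : L →* X} {c : L} (hd : Dbl π c) {x y : L} (h : π x = π y)
    (a : L) : x * a * x⁻¹ = y * a * y⁻¹ := by
  have h2 : π (y⁻¹ * x) = 1 := by rw [map_mul, map_inv, h, inv_mul_cancel]
  rcases (hd.ker _).1 h2 with h3 | h3
  · rw [inv_mul_eq_one] at h3
    rw [h3]
  · rw [inv_mul_eq_iff_eq_mul] at h3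
    rw [h3]
    calc y * c * a * (y * c)⁻¹ = y * (c * a) * c⁻¹ * y⁻¹ := by group
      _ = y * (a * c) * c⁻¹ * y⁻¹ := by rw [hd.cen a]
      _ = y * a * y⁻¹ := by group

/-- Two elements with the same image. -/
theorem eq_or_of_map_eq {L : Type*} [Group L] {π : L →* X} {c : L} (hd : Dbl π c) {x y : L} (h : π x = π y) :
    x = y ∨ x = y * c := by
  have h2 : π (y⁻¹ * x) = 1 := by rw [map_mul, map_inv, h, inv_mul_cancel]
  rcases (hd.ker _).1 h2 with h3 | h3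
  · left; exact (inv_mul_eq_one.1 h3).symm
  · right; exact inv_mul_eq_iff_eq_mul.1 h3

/-- **The splitting criterion.** -/
theorem exists_split {L : Type*} [Group L] [Finite L] {π : L →* X} {c : L} (hd : Dbl π c) {D V : Subgroup X}
    (hD : Odd (Nat.card D)) (hDV : ∀ t ∈ D, ∀ v ∈ V, t * v * t⁻¹ ∈ V)
    (hfix : ∃ t ∈ D, ∀ v ∈ V, t * v = v * t → v = 1) (hc : c ∉ ⁅V.comap π, V.comap π⁆) :
    ∃ M : Subgroup L, c ∉ M ∧ M ≤ V.comap π ∧ (∀ v ∈ V.comap π, v ∈ M ∨ v * c ∈ M) ∧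
      ∀ t ∈ D.comap π, ∀ m ∈ M, t * m * t⁻¹ ∈ M := by
  classical
  have : Finite X := Finite.of_surjective π hd.surj
  set A : Subgroup L := V.comap π with hA
  have hcA : c ∈ A := by
    rw [hA, mem_comap, (hd.ker c).2 (Or.inr rfl)]; exact V.one_mem
  obtain ⟨φ, hφ⟩ := exists_char hcA hd.sq hc
  have : Fintype D := Fintype.ofFinite D
  let s : X → L := fun x => (hd.surj x).choose
  have hs : ∀ x, π (s x) = x := fun x => (hd.surj x).choose_spec
  have hmem : ∀ x : L, π x ∈ D → ∀ a ∈ A, x * a * x⁻¹ ∈ A := by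
    intro x hx a ha
    rw [hA, mem_comap, map_mul, map_mul, map_inv]
    exact hDV _ hx _ ha
  let cj : ∀ d : D, A →* A := fun d =>
    { toFun := fun a => ⟨s d * a * (s d)⁻¹, hmem _ (by rw [hs]; exact d.2) a a.2⟩
      map_one' := Subtype.ext (by show s d * 1 * (s d)⁻¹ = 1; rw [mul_one, mul_inv_cancel])
      map_mul' := fun a b => Subtype.ext (by
        show s d * (a.1 * b.1) * (s d)⁻¹ = s d * a.1 * (s d)⁻¹ * (s d * b.1 * (s d)⁻¹)
        group) }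
  let Φ : A →* ℂˣ := ∏ d : D, φ.comp (cj d)
  have hΦ : ∀ a, Φ a = ∏ d : D, φ (cj d a) := fun a => MonoidHom.finset_prod_apply _ _ _
  have hΦc : Φ ⟨c, hcA⟩ = -1 := by
    rw [hΦ]
    have h1 : ∀ d : D, φ (cj d ⟨c, hcA⟩) = -1 := by
      intro d
      have : cj d ⟨c, hcA⟩ = ⟨c, hcA⟩ := Subtype.ext (by
        show s d * c * (s d)⁻¹ = c
        rw [← hd.cen, mul_inv_cancel_right])
      rw [this, hφ]
    rw [Finset.prod_congr rfl fun d _ => h1 d, Finset.prod_const, Finset.card_univ, ← Nat.card_eq_fintype_card,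
      hD.neg_one_pow]
  have hinv : ∀ (g : L) (hg : π g ∈ D) (a : A), Φ ⟨g * a * g⁻¹, hmem g hg a a.2⟩ = Φ a := by
    intro g hg a
    rw [hΦ, hΦ]
    refine Fintype.prod_equiv (Equiv.mulRight ⟨π g, hg⟩) _ _ fun d => ?_
    congr 1
    apply Subtype.ext
    show s d * (g * a * g⁻¹) * (s d)⁻¹ = s ((d * ⟨π g, hg⟩ : D) : X) * a * (s ((d * ⟨π g, hg⟩ : D) : X))⁻¹
    have e1 : s d * (g * a * g⁻¹) * (s d)⁻¹ = (s d * g) * a * (s d * g)⁻¹ := by group
    rw [e1]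
    apply conj_eq_of_map_eq hd
    rw [map_mul, hs, hs]
    rfl
  refine ⟨Φ.ker.map A.subtype, ?_, map_subtype_le _, ?_, ?_⟩
  · rintro ⟨k, hk, hkc⟩
    have h1 : k = ⟨c, hcA⟩ := Subtype.ext hkc
    have hk' : Φ k = 1 := MonoidHom.mem_ker.1 hk
    rw [h1, hΦc] at hk'
    have h2 := congrArg Units.val hk'
    simp only [Units.val_neg, Units.val_one] at h2
    norm_num at h2
  · intro v hv
    obtain ⟨t, ht, hfix⟩ := hfix
    let f : V → V := fun w => ⟨t * w.1 * t⁻¹ * (w.1)⁻¹, mul_mem (hDV t ht _ w.2) (inv_mem w.2)⟩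
    have hinj : Function.Injective f := by
      rintro ⟨v, hv⟩ ⟨w, hw⟩ hvw
      have h1 : t * v * t⁻¹ * v⁻¹ = t * w * t⁻¹ * w⁻¹ := congrArg Subtype.val hvw
      have h2 : t * (w⁻¹ * v) = w⁻¹ * v * t := by
        have e1 : t * (w⁻¹ * v) = t * w⁻¹ * t⁻¹ * (t * v * t⁻¹ * v⁻¹) * v * t := by group
        rw [e1, h1]; group
      have h3 := hfix _ (mul_mem (inv_mem hw) hv) h2
      exact Subtype.ext (inv_mul_eq_one.1 h3).symm
    obtain ⟨w, hw⟩ := Finite.surjective_of_injective hinj ⟨π v, hv⟩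
    have hw1 : t * w.1 * t⁻¹ * (w.1)⁻¹ = π v := congrArg Subtype.val hw
    have hwA : s w.1 ∈ A := by rw [hA, mem_comap, hs]; exact w.2
    have htD : π (s t) ∈ D := by rw [hs]; exact ht
    let y : A := ⟨s t * s w.1 * (s t)⁻¹, hmem _ htD _ hwA⟩ * ⟨s w.1, hwA⟩⁻¹
    have hy : Φ y = 1 := by
      have h5 := hinv (s t) htD ⟨s w.1, hwA⟩
      show Φ (⟨s t * s w.1 * (s t)⁻¹, hmem _ htD _ hwA⟩ * ⟨s w.1, hwA⟩⁻¹) = 1
      rw [map_mul, map_inv, h5, mul_inv_cancel]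
    have hπ : π v = π y.1 := by
      rw [← hw1]
      show _ = π (s t * s w.1 * (s t)⁻¹ * (s w.1)⁻¹)
      rw [map_mul, map_mul, map_mul, map_inv, map_inv, hs, hs]
    rcases eq_or_of_map_eq hd hπ with h6 | h6
    · left
      exact ⟨y, MonoidHom.mem_ker.2 hy, h6.symm⟩
    · right
      refine ⟨y, MonoidHom.mem_ker.2 hy, ?_⟩
      show y.1 = v * c
      rw [h6, mul_assoc, hd.sq, mul_one]
  · rintro g hg _ ⟨m, hm, rfl⟩
    refine ⟨⟨g * m * g⁻¹, hmem g hg m m.2⟩, MonoidHom.mem_ker.2 ?_, rfl⟩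
    rw [hinv g hg m]
    exact MonoidHom.mem_ker.1 hm

/-- **Splitting, all double covers.** -/
theorem Spl.of_notMem {D V : Subgroup X}
    (hD : Odd (Nat.card D)) (hDV : ∀ t ∈ D, ∀ v ∈ V, t * v * t⁻¹ ∈ V)
    (hfix : ∃ t ∈ D, ∀ v ∈ V, t * v = v * t → v = 1)
    (h : ∀ (L : Type) [Group L] [Finite L] (π : L →* X) (c : L), Dbl π c → c ∉ ⁅V.comap π, V.comap π⁆) :
    Spl D V := fun L _ _ π c hd => exists_split hd hD hDV hfix (h L π c hd)

theorem Spl.of_abPre {D V : Subgroup X}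
    (hD : Odd (Nat.card D)) (hDV : ∀ t ∈ D, ∀ v ∈ V, t * v * t⁻¹ ∈ V)
    (hfix : ∃ t ∈ D, ∀ v ∈ V, t * v = v * t → v = 1) (h : AbPre V) : Spl D V := by
  refine Spl.of_notMem hD hDV hfix fun L _ _ π c hd hc => hd.ne ?_
  have h1 : ⁅V.comap π, V.comap π⁆ = ⊥ := by
    rw [Subgroup.commutator_eq_bot_iff_le_centralizer]
    intro x hx
    rw [mem_centralizer_iff]
    exact fun y hy => h L π c hd y x hy hx
  rw [h1, mem_bot] at hc
  exact hc

theorem Spl.mono {D T V : Subgroup X} (h : Spl D V) (hT : T ≤ D) : Spl T V := by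
  intro L _ _ π c hd
  obtain ⟨M, h1, h2, h3, h4⟩ := h L π c hd
  exact ⟨M, h1, h2, h3, fun t ht => h4 t (hT ht)⟩

end Cfsg.Agent.KFacts.Mult.OddSpl

end

-- merged: Cfsg.Agent.KFacts.Mult.SuzSpl
section

/-!
# Splitting of the preimage of a Suzuki 2-group in double covers

`SuzC σ D e`: coordinates `e p u` of a Suzuki 2-group `V = {e p u}`, `Z = {e 0 u}`, with the torus acting by
`(p, u) ↦ (χ p, χ σ(χ) u)`, inside the group `D`.
`SuzC.notMem`: if the preimages of `Z` and `V` commute and `|F| > 4`, then the central involution is not in the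
commutator group of the preimage of `V`.
-/

set_option autoImplicit false

namespace Cfsg.Agent.KFacts.Mult.SuzSpl

open Subgroup Cfsg.Agent.KFacts.MulDef Cfsg.Agent.KFacts.MulTwo Cfsg.Agent.KFacts.Mult.WeightsTwo
  Cfsg.Agent.KFacts.Mult.RGDW Cfsg.Agent.KFacts.Mult.OddSpl Cfsg.Agent.KFacts.Mult.FieldAlt
open scoped commutatorElement

universe u

variable {X : Type u} [Group X] {F : Type*} [Field F]

/-- Coordinates of a Suzuki 2-group with torus. -/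
structure SuzC (σ : F →+* F) (D : Subgroup X) (e : F → F → X) : Prop where
  mul : ∀ p u q v, e p u * e q v = e (p + q) (u + v + p * σ q)
  inj : ∀ p u q v, e p u = e q v → p = q ∧ u = v
  nor : ∀ h ∈ D, ∀ p u, ∃ q v, h * e p u * h⁻¹ = e q v
  tor : ∀ χ : F, χ ≠ 0 → ∃ h ∈ D, ∀ p u, h * e p u * h⁻¹ = e (χ * p) (χ * σ χ * u)

namespace SuzC

variable {σ : F →+* F} {D : Subgroup X} {e : F → F → X} (S : SuzC σ D e)

include S in
theorem one : e 0 0 = 1 := by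
  have h := S.mul 0 0 0 0
  simp only [add_zero, zero_mul] at h
  exact mul_eq_left.1 h

variable [CharP F 2]

include S in
theorem mul_inv' (p u : F) : e p u * e p (u + p * σ p) = 1 := by
  rw [S.mul, ← S.one]
  have h1 : p + p = 0 := CharTwo.add_self_eq_zero p
  have h2 : u + (u + p * σ p) + p * σ p = 0 := by
    have h3 := CharTwo.add_self_eq_zero u
    have h4 := CharTwo.add_self_eq_zero (p * σ p)
    linear_combination h3 + h4
  rw [h1, h2]

include S in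
theorem inv (p u : F) : (e p u)⁻¹ = e p (u + p * σ p) :=
  inv_eq_of_mul_eq_one_right (S.mul_inv' p u)

/-- the Suzuki 2-group -/
def V : Subgroup X where
  carrier := {x | ∃ p u, e p u = x}
  one_mem' := ⟨0, 0, S.one⟩
  mul_mem' := by
    rintro _ _ ⟨p, u, rfl⟩ ⟨q, v, rfl⟩
    exact ⟨_, _, (S.mul p u q v).symm⟩
  inv_mem' := by
    rintro _ ⟨p, u, rfl⟩
    exact ⟨_, _, (S.inv p u).symm⟩

/-- its centre -/
def Z : Subgroup X where
  carrier := {x | ∃ u, e 0 u = x}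
  one_mem' := ⟨0, S.one⟩
  mul_mem' := by
    rintro _ _ ⟨u, rfl⟩ ⟨v, rfl⟩
    exact ⟨u + v, by rw [S.mul]; simp⟩
  inv_mem' := by
    rintro _ ⟨u, rfl⟩
    exact ⟨u, by rw [S.inv]; simp⟩

theorem mem_V {x : X} : x ∈ S.V ↔ ∃ p u, e p u = x := Iff.rfl

theorem mem_Z {x : X} : x ∈ S.Z ↔ ∃ u, e 0 u = x := Iff.rfl

theorem Z_le : S.Z ≤ S.V := by
  rintro _ ⟨u, rfl⟩
  exact ⟨0, u, rfl⟩

theorem nor_V : ∀ t ∈ D, ∀ v ∈ S.V, t * v * t⁻¹ ∈ S.V := by
  rintro t ht _ ⟨p, u, rfl⟩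
  obtain ⟨q, v, h⟩ := S.nor t ht p u
  exact ⟨q, v, h.symm⟩

theorem nor_Z : ∀ t ∈ D, ∀ v ∈ S.Z, t * v * t⁻¹ ∈ S.Z := by
  rintro t ht _ ⟨u, rfl⟩
  obtain ⟨q, v, h⟩ := S.nor t ht 0 u
  have h0 : e 0 u * e 0 u = 1 := by
    have := S.mul_inv' 0 u
    simpa using this
  have h1 : e q v * e q v = 1 := by
    rw [← h]
    calc t * e 0 u * t⁻¹ * (t * e 0 u * t⁻¹) = t * (e 0 u * e 0 u) * t⁻¹ := by group
      _ = 1 := by rw [h0]; group
  rw [S.mul, ← S.one] at h1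
  have h2 := (S.inj _ _ _ _ h1).2
  have h3 : q * σ q = 0 := by
    have h4 := CharTwo.add_self_eq_zero v
    linear_combination h2 - h4
  have hq : q = 0 := by
    rcases mul_eq_zero.1 h3 with h5 | h5
    · exact h5
    · exact (map_eq_zero σ).1 h5
  subst hq
  exact ⟨v, h.symm⟩

/-- `χ σ(χ) = 1` only for `χ = 1`. -/
theorem eq_one_of (hσ : ∀ x, σ (σ x) = x ^ 2) {χ : F} (h : χ * σ χ = 1) : χ = 1 := by
  have h0 : χ ≠ 0 := left_ne_zero_of_mul_eq_one h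
  have h1 : σ χ = χ⁻¹ := (inv_eq_of_mul_eq_one_right h).symm
  have h2 : χ ^ 2 = χ := by
    rw [← hσ, h1, map_inv₀, h1, inv_inv]
  have h3 : χ * χ = χ * 1 := by rw [mul_one, ← pow_two]; exact h2
  exact mul_left_cancel₀ h0 h3

include S in
theorem exists_free (hσ : ∀ x, σ (σ x) = x ^ 2) (hq : ∃ χ : F, χ ≠ 0 ∧ χ ≠ 1) :
    ∃ t ∈ D, ∀ v ∈ S.V, t * v = v * t → v = 1 := by
  obtain ⟨χ, h0, h1⟩ := hq
  obtain ⟨h, hh, hact⟩ := S.tor χ h0
  refine ⟨h, hh, ?_⟩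
  rintro _ ⟨p, u, rfl⟩ hc
  have h2 : h * e p u * h⁻¹ = e p u := by rw [hc, mul_inv_cancel_right]
  rw [hact] at h2
  obtain ⟨h3, h4⟩ := S.inj _ _ _ _ h2
  have hp : p = 0 := by
    by_contra hp
    exact h1 (mul_left_eq_self₀.1 h3 |>.resolve_right hp)
  have hu : u = 0 := by
    by_contra hu
    exact h1 (eq_one_of hσ (mul_left_eq_self₀.1 h4 |>.resolve_right hu))
  rw [hp, hu, S.one]

/-- **The central involution is not a product of commutators in the preimage of `V`.** -/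
theorem notMem (hσ : ∀ x, σ (σ x) = x ^ 2) [Finite F] (hq : 4 < Nat.card F) (hD : Odd (Nat.card D))
    {L : Type*} [Group L] [Finite L] {π : L →* X} {c : L} (hd : Dbl π c)
    (hZV : ∀ x y : L, π x ∈ S.Z → π y ∈ S.V → x * y = y * x) : c ∉ ⁅S.V.comap π, S.V.comap π⁆ := by
  classical
  have hex : ∃ χ : F, χ ≠ 0 ∧ χ ≠ 1 := by
    by_contra hcon
    push Not at hcon
    have : Nat.card F ≤ 2 := by
      have h1 : Function.Injective (fun x : F => if x = 0 then (0 : Fin 2) else 1) := by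
        intro x y hxy
        by_cases hx : x = 0 <;> by_cases hy : y = 0
        · rw [hx, hy]
        · simp [hx, hy] at hxy
        · simp [hx, hy] at hxy
        · rw [hcon x hx, hcon y hy]
      have h2 := Nat.card_le_card_of_injective _ h1
      rwa [Nat.card_eq_fintype_card (α := Fin 2), Fintype.card_fin] at h2
    omega
  obtain ⟨t, ht, hfix⟩ := S.exists_free hσ hex
  -- the complement in the preimage of `Z`
  have hcZ : c ∉ ⁅S.Z.comap π, S.Z.comap π⁆ := by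
    have h1 : ⁅S.Z.comap π, S.Z.comap π⁆ = ⊥ := by
      rw [Subgroup.commutator_eq_bot_iff_le_centralizer]
      intro x hx
      rw [mem_centralizer_iff]
      exact fun y hy => hZV y x hy (S.Z_le hx)
    rw [h1, mem_bot]
    exact hd.ne
  obtain ⟨M, hcM, hMZ, hZM, hDM⟩ := exists_split hd hD S.nor_Z ⟨t, ht, fun v hv => hfix v (S.Z_le hv)⟩ hcZ
  -- commutators
  have hcomm : ∀ x y : L, π x ∈ S.V → π y ∈ S.V → π ⁅x, y⁆ ∈ S.Z := by
    rintro x y ⟨p, u, hp⟩ ⟨q, v, hq⟩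
    have h1 : π (x * y) = e (p + q) (u + v + p * σ q) := by rw [map_mul, ← hp, ← hq, S.mul]
    have h2 : π (y * x) = e (p + q) (v + u + q * σ p) := by rw [map_mul, ← hp, ← hq, S.mul, add_comm q p]
    have h3 : π ⁅x, y⁆ = π (x * y) * (π (y * x))⁻¹ := by
      rw [← map_inv, ← map_mul, commutatorElement_def]; congr 1; group
    rw [h3, h1, h2, S.inv, S.mul]
    have h4 : p + q + (p + q) = 0 := CharTwo.add_self_eq_zero _
    rw [h4]
    exact ⟨_, rfl⟩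
  have hmulr : ∀ x y z : L, π x ∈ S.V → π y ∈ S.V → π z ∈ S.V → ⁅x, y * z⁆ = ⁅x, y⁆ * ⁅x, z⁆ := by
    intro x y z hx hy hz
    have h1 := hZV ⁅x, z⁆ y (hcomm x z hx hz) hy
    have e1 : ⁅x, y * z⁆ = ⁅x, y⁆ * (y * ⁅x, z⁆ * y⁻¹) := by simp only [commutatorElement_def]; group
    rw [e1, ← h1, mul_inv_cancel_right]
  have hone : ∀ x z : L, π x ∈ S.V → π z ∈ S.Z → ⁅x, z⁆ = 1 := by
    intro x z hx hz
    rw [commutatorElement_def, ← hZV z x hz hx]; group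
  have hdep : ∀ x y y' : L, π x ∈ S.V → π y ∈ S.V → (∃ p u v, π y = e p u ∧ π y' = e p v) →
      ⁅x, y'⁆ = ⁅x, y⁆ := by
    rintro x y y' hx hy ⟨p, u, v, h1, h2⟩
    have h3 : π (y⁻¹ * y') ∈ S.Z := by
      rw [map_mul, map_inv, h1, h2, S.inv, S.mul, CharTwo.add_self_eq_zero]
      exact ⟨_, rfl⟩
    have h4 : y' = y * (y⁻¹ * y') := by group
    rw [h4, hmulr x y _ hx hy (S.Z_le h3), hone x _ hx h3, mul_one]
  have hdep' : ∀ x x' y : L, π x ∈ S.V → π y ∈ S.V → (∃ p u v, π x = e p u ∧ π x' = e p v) →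
      ⁅x', y⁆ = ⁅x, y⁆ := by
    intro x x' y hx hy h
    rw [← inv_inj, commutatorElement_inv, commutatorElement_inv]
    exact hdep y x x' hy hx h
  let s : F → L := fun a => (hd.surj (e a 0)).choose
  have hs : ∀ a, π (s a) = e a 0 := fun a => (hd.surj (e a 0)).choose_spec
  have hsV : ∀ a, π (s a) ∈ S.V := fun a => ⟨a, 0, (hs a).symm⟩
  have hconj : ∀ χ a b : F, χ ≠ 0 → ⁅s a, s b⁆ ∈ M → ⁅s (χ * a), s (χ * b)⁆ ∈ M := by
    intro χ a b hχ hab
    obtain ⟨h, hh, hact⟩ := S.tor χ hχ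
    obtain ⟨g, rfl⟩ := hd.surj h
    have h1 := hDM g hh _ hab
    have h2 : g * ⁅s a, s b⁆ * g⁻¹ = ⁅g * s a * g⁻¹, g * s b * g⁻¹⁆ := by
      simp only [commutatorElement_def]; group
    have h3 : ∀ a, π (g * s a * g⁻¹) = e (χ * a) 0 := by
      intro a
      rw [map_mul, map_mul, map_inv, hs, hact, mul_zero]
    have h4 : ∀ a, π (g * s a * g⁻¹) ∈ S.V := fun a => ⟨_, _, (h3 a).symm⟩
    rw [h2] at h1
    rw [hdep (s (χ * a)) (g * s b * g⁻¹) (s (χ * b)) (hsV _) (h4 b) ⟨χ * b, 0, 0, h3 b, hs _⟩,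
      hdep' (g * s a * g⁻¹) (s (χ * a)) (g * s b * g⁻¹) (h4 a) (h4 b) ⟨χ * a, 0, 0, h3 a, hs _⟩]
    exact h1
  have hswap : ∀ x y : L, ⁅x, y⁆ ∈ M → ⁅y, x⁆ ∈ M := by
    intro x y h
    rw [← commutatorElement_inv]
    exact inv_mem h
  have hs0 : π (s 0) ∈ S.Z := ⟨0, (hs 0).symm⟩
  let H : AddSubgroup F :=
    { carrier := {b | ⁅s 1, s b⁆ ∈ M}
      zero_mem' := by
        show ⁅s 1, s 0⁆ ∈ M
        rw [hone _ _ (hsV 1) hs0]
        exact one_mem _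
      add_mem' := by
        intro a b ha hb
        show ⁅s 1, s (a + b)⁆ ∈ M
        have h1 : π (s a * s b) = e (a + b) (0 + 0 + a * σ b) := by rw [map_mul, hs, hs, S.mul]
        rw [hdep (s 1) (s a * s b) (s (a + b)) (hsV 1) ⟨_, _, h1.symm⟩ ⟨_, _, _, h1, hs _⟩,
          hmulr _ _ _ (hsV 1) (hsV a) (hsV b)]
        exact mul_mem ha hb
      neg_mem' := by
        intro a ha
        rwa [CharTwo.neg_eq] }
  have hH : ∀ b, b ∈ H ↔ ⁅s 1, s b⁆ ∈ M := fun b => Iff.rfl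
  have htop : H = ⊤ := by
    refine eq_top_of_inv hq H ?_ ?_ ?_
    · rw [hH, commutatorElement_self]; exact one_mem _
    · intro x hx
      rw [hH] at hx ⊢
      by_cases hx0 : x = 0
      · subst hx0; rwa [inv_zero]
      · have h1 := hconj x⁻¹ 1 x (inv_ne_zero hx0) hx
        rw [mul_one, inv_mul_cancel₀ hx0] at h1
        exact hswap _ _ h1
    · intro a b ha hb
      rw [hH] at ha hb ⊢
      have h1 : π (s a * s b) = e (a + b) (0 + 0 + a * σ b) := by rw [map_mul, hs, hs, S.mul]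
      rw [hdep (s 1) (s a * s b) (s (a + b)) (hsV 1) ⟨_, _, h1.symm⟩ ⟨_, _, _, h1, hs _⟩,
        hmulr _ _ _ (hsV 1) (hsV a) (hsV b)]
      have h2 := (hZM _ (hcomm _ _ (hsV 1) (hsV a))).resolve_left ha
      have h3 := (hZM _ (hcomm _ _ (hsV 1) (hsV b))).resolve_left hb
      have h4 : ⁅s 1, s a⁆ * ⁅s 1, s b⁆ = ⁅s 1, s a⁆ * c * (⁅s 1, s b⁆ * c) := by
        calc ⁅s 1, s a⁆ * ⁅s 1, s b⁆ = ⁅s 1, s a⁆ * ⁅s 1, s b⁆ * (c * c) := by rw [hd.sq, mul_one]
          _ = ⁅s 1, s a⁆ * (⁅s 1, s b⁆ * c) * c := by group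
          _ = ⁅s 1, s a⁆ * (c * ⁅s 1, s b⁆) * c := by rw [hd.cen]
          _ = _ := by group
      rw [h4]
      exact mul_mem h2 h3
  have hall : ∀ a b : F, ⁅s a, s b⁆ ∈ M := by
    intro a b
    by_cases ha : a = 0
    · subst ha
      apply hswap
      rw [hone _ _ (hsV b) hs0]
      exact one_mem _
    · have h1 : a⁻¹ * b ∈ H := by rw [htop]; trivial
      have h2 := hconj a 1 (a⁻¹ * b) ha h1
      rwa [mul_one, mul_inv_cancel_left₀ ha] at h2
  intro hc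
  apply hcM
  refine (Subgroup.commutator_le.2 ?_ : ⁅S.V.comap π, S.V.comap π⁆ ≤ M) hc
  intro x hx y hy
  have hx' := hx
  have hy' := hy
  obtain ⟨p, u, hp⟩ := hx'
  obtain ⟨q, v, hq⟩ := hy'
  rw [hdep x (s q) y hx (hsV q) ⟨q, 0, v, hs q, hq.symm⟩,
    hdep' (s p) x (s q) (hsV p) (hsV q) ⟨p, 0, u, hs p, hp.symm⟩]
  exact hall p q

end SuzC

end Cfsg.Agent.KFacts.Mult.SuzSpl

end

-- merged: Cfsg.Agent.KFacts.Mult.TwFRel
section

/-!
# Double covers of groups of type `²F₄`: the preimages of the root groups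

* `Sys.OO a`, `Sys.abPre`: the preimage of `X_{2a+1}` is commutative;
* `Sys.zv`: the preimages of `Z(X_{2a})` and `X_{2a}` commute.
-/

set_option autoImplicit false

namespace Cfsg.Agent.KFacts.Mult.TwFRel

open Subgroup Cfsg.Agent.KFacts.MulDef Cfsg.Agent.KFacts.MulTwo Cfsg.Agent.KFacts.Mult.WeightsTwo
  Cfsg.Agent.KFacts.Mult.RGDW Cfsg.Agent.KFacts.Mult.OddSpl
open Cfsg.Agent.KFacts.TwF4 (Sys)
open scoped commutatorElement

universe u

section cover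

variable {G : Type u} [Group G] {L : Type*} [Group L] {π : L →* G} {c : L}

/-- commuting elements of the quotient: conjugation changes the sign at most -/
theorem conj_or (hd : Dbl π c) {g x : L} (h : π g * π x = π x * π g) : g * x * g⁻¹ = x ∨ g * x * g⁻¹ = x * c := by
  rcases comm_or hd h with h1 | h1
  · left; rw [h1, mul_inv_cancel_right]
  · right
    rw [h1, ← mul_assoc, mul_inv_cancel_right, hd.cen]

/-- Separated by a torus element: the lifts commute. -/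
theorem comm_lift (hd : Dbl π c) {A C C' : L} {h : G} (h1 : h * π A = π A * h) (h2 : π A * π C' = π C' * π A)
    (h3 : π C = h * h * π C' * (h * h)⁻¹ * (π C')⁻¹) : A * C = C * A := by
  obtain ⟨g, rfl⟩ := hd.surj h
  have k1 : A * (g * g) * A⁻¹ = g * g := by
    have e : A * (g * g) * A⁻¹ = (A * g * A⁻¹) * (A * g * A⁻¹) := by group
    rw [e]
    rcases conj_or hd (g := A) (x := g) h1.symm with h4 | h4
    · rw [h4]
    · rw [h4]
      calc g * c * (g * c) = g * (c * g) * c := by group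
        _ = g * (g * c) * c := by rw [hd.cen]
        _ = g * g * (c * c) := by group
        _ = g * g := by rw [hd.sq, mul_one]
  have k2 : A * (g * g * C' * (g * g)⁻¹ * C'⁻¹) * A⁻¹ = g * g * C' * (g * g)⁻¹ * C'⁻¹ := by
    have e : A * (g * g * C' * (g * g)⁻¹ * C'⁻¹) * A⁻¹ =
        (A * (g * g) * A⁻¹) * (A * C' * A⁻¹) * (A * (g * g) * A⁻¹)⁻¹ * (A * C' * A⁻¹)⁻¹ := by group
    rw [e, k1]
    rcases conj_or hd (g := A) (x := C') h2 with h4 | h4
    · rw [h4]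
    · rw [h4]
      calc g * g * (C' * c) * (g * g)⁻¹ * (C' * c)⁻¹ = g * g * C' * (c * (g * g)⁻¹) * c⁻¹ * C'⁻¹ := by group
        _ = g * g * C' * ((g * g)⁻¹ * c) * c⁻¹ * C'⁻¹ := by rw [hd.cen]
        _ = _ := by group
  have k3 : π C = π (g * g * C' * (g * g)⁻¹ * C'⁻¹) := by
    rw [h3]; simp only [map_mul, map_inv]
  rw [mul_inv_eq_iff_eq_mul] at k2
  rcases eq_or_of_map_eq hd k3 with h4 | h4
  · rw [h4]; exact k2
  · rw [h4, ← mul_assoc, k2, mul_assoc, ← hd.cen A, ← mul_assoc]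

/-- **The three element argument**: `[x, y]` commutes with `v` if `x` commutes with `v` in the quotient, `v y v⁻¹ = y z`
in the quotient, and the lifts of `x` and `z` commute. -/
theorem comm_comm (hd : Dbl π c) {A B C y x : L} (h1 : π y * π A = π A * π y) (h2 : π y * π B = π B * π C * π y)
    (h3 : A * C = C * A) (h4 : π A * π B = π x * (π B * π A)) : x * y = y * x := by
  have k1 := conj_or hd h1
  have k2 : y * B * y⁻¹ = B * C ∨ y * B * y⁻¹ = B * C * c := by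
    apply eq_or_of_map_eq hd
    rw [map_mul, map_mul, map_inv, h2, map_mul, mul_inv_cancel_right]
  -- the commutator of `A` and `B`
  have k3 : π x = π (A * B * (B * A)⁻¹) := by
    rw [map_mul, map_inv, map_mul, map_mul, h4]; group
  have k4 : y * (A * B * (B * A)⁻¹) * y⁻¹ = A * B * (B * A)⁻¹ := by
    have e : y * (A * B * (B * A)⁻¹) * y⁻¹ =
        ((y * A * y⁻¹) * (y * B * y⁻¹)) * ((y * B * y⁻¹) * (y * A * y⁻¹))⁻¹ := by group
    have gen : ∀ δ ε : L, (∀ g : L, δ * g = g * δ) → (∀ g : L, ε * g = g * ε) →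
        (A * δ * (B * C * ε)) * (B * C * ε * (A * δ))⁻¹ = A * B * (B * A)⁻¹ := by
      intro δ ε hδ hε
      have e1 : B * C * ε * (A * δ) = B * (A * C) * (ε * δ) := by
        calc B * C * ε * (A * δ) = B * C * (ε * A) * δ := by group
          _ = B * C * (A * ε) * δ := by rw [hε]
          _ = B * (C * A) * (ε * δ) := by group
          _ = _ := by rw [h3]
      have e2 : A * δ * (B * C * ε) = A * B * C * (ε * δ) := by
        calc A * δ * (B * C * ε) = A * (δ * (B * C * ε)) := by group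
          _ = A * (B * C * ε * δ) := by rw [hδ]
          _ = _ := by group
      rw [e1, e2]
      group
    rw [e]
    have c1 : ∀ g : L, (1 : L) * g = g * 1 := fun g => by rw [one_mul, mul_one]
    rcases k1 with k1 | k1 <;> rcases k2 with k2 | k2 <;> rw [k1, k2]
    · have := gen 1 1 c1 c1
      simpa only [mul_one] using this
    · have := gen 1 c c1 hd.cen
      simpa only [mul_one] using this
    · have := gen c 1 hd.cen c1
      simpa only [mul_one] using this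
    · exact gen c c hd.cen hd.cen
  rw [mul_inv_eq_iff_eq_mul] at k4
  rcases eq_or_of_map_eq hd k3 with h5 | h5
  · rw [h5]; exact k4.symm
  · rw [h5, mul_assoc, hd.cen y, ← mul_assoc, ← k4, mul_assoc]

end cover

section sys

variable {F : Type*} [Field F] [CharP F 2] {σ : F →+* F} {G : Type u} [Group G] (S : Sys σ G)

theorem o_zero (a : ZMod 8) : S.o a 0 = 1 := by
  have h := S.o_add a 0 0
  rw [add_zero] at h
  exact mul_eq_left.1 h

theorem o_inv (a : ZMod 8) (t : F) : (S.o a t)⁻¹ = S.o a t := by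
  refine inv_eq_of_mul_eq_one_right ?_
  rw [S.o_add, CharTwo.add_self_eq_zero, o_zero]

/-- the root group `X_{2a+1}` -/
def OO (a : ZMod 8) : Subgroup G where
  carrier := {x | ∃ t, S.o a t = x}
  one_mem' := ⟨0, o_zero S a⟩
  mul_mem' := by
    rintro _ _ ⟨t, rfl⟩ ⟨s, rfl⟩
    exact ⟨t + s, (S.o_add a t s).symm⟩
  inv_mem' := by
    rintro _ ⟨t, rfl⟩
    exact ⟨t, (o_inv S a t).symm⟩

theorem mem_OO {a : ZMod 8} {x : G} : x ∈ OO S a ↔ ∃ t, S.o a t = x := Iff.rfl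

/-- The preimage of `X_{2a+1}` is commutative. -/
theorem abPre (a : ZMod 8) : AbPre (OO S a) := by
  refine AbPre.of_le_commutator ?_
  rintro _ ⟨t, rfl⟩
  have h1 := S.e_e1 a 1 0 t 0
  rw [one_mul] at h1
  have h2 : S.o a t = ⁅(S.e a 1 0)⁻¹, (S.e (a + 1) t 0)⁻¹⁆ := by
    rw [commutatorElement_def, inv_inv, inv_inv]
    have h3 : S.o a t = (S.e (a + 1) t 0 * S.e a 1 0)⁻¹ * (S.e a 1 0 * S.e (a + 1) t 0) := by
      rw [h1]; group
    rw [h3]; group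
  rw [h2]
  refine Subgroup.commutator_mem_commutator (inv_mem ?_) (inv_mem ?_)
  · rw [mem_centralizer_iff]
    rintro _ ⟨s, rfl⟩
    exact (S.e_o0 a 1 0 s).symm
  · rw [mem_centralizer_iff]
    rintro _ ⟨s, rfl⟩
    exact S.o_e1 a s t 0

/-- **The preimages of `Z(X_{2a})` and `X_{2a}` commute.** -/
theorem zv (a : ZMod 8) {L : Type*} [Group L] {π : L →* G} {c : L} (hd : Dbl π c)
    (hγ : ∃ (h : G) (ψ : F), ψ ≠ 1 ∧ h * S.o (a - 1) 1 = S.o (a - 1) 1 * h ∧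
      ∀ s, h * S.o a s * h⁻¹ = S.o a (ψ * s)) :
    ∀ x y : L, (∃ w, S.e a 0 w = π x) → (∃ p u, S.e a p u = π y) → x * y = y * x := by
  rintro x y ⟨w, hw⟩ ⟨p, u, hp⟩
  obtain ⟨h, ψ, hψ, hh1, hh2⟩ := hγ
  have e1 : a - 1 + 1 = a := by ring
  have e2 : a - 1 + 2 = a + 1 := by ring
  obtain ⟨A, hA⟩ := hd.surj (S.o (a - 1) 1)
  obtain ⟨B, hB⟩ := hd.surj (S.e (a + 1) w 0)
  obtain ⟨C, hC⟩ := hd.surj (S.o a (p * w))
  -- the lifts of `o (a - 1) 1` and `o a (p w)` commute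
  have hψ2 : ψ * ψ + 1 ≠ 0 := by
    intro h0
    apply hψ
    have h1 : (ψ + 1) * (ψ + 1) = 0 := by
      have h2 := CharTwo.add_self_eq_zero ψ
      linear_combination h0 + h2
    have h3 := mul_self_eq_zero.1 h1
    have h4 := CharTwo.add_self_eq_zero (1 : F)
    linear_combination h3 - h4
  obtain ⟨C', hC'⟩ := hd.surj (S.o a ((ψ * ψ + 1)⁻¹ * (p * w)))
  have hAC : A * C = C * A := by
    refine comm_lift hd (h := h) (C' := C') (by rw [hA]; exact hh1) ?_ ?_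
    · rw [hA, hC']
      have := S.o_o1 (a - 1) 1 ((ψ * ψ + 1)⁻¹ * (p * w))
      rwa [e1] at this
    · rw [hC, hC']
      have k1 : h * h * S.o a ((ψ * ψ + 1)⁻¹ * (p * w)) * (h * h)⁻¹ =
          S.o a (ψ * (ψ * ((ψ * ψ + 1)⁻¹ * (p * w)))) := by
        rw [← hh2, ← hh2]; group
      rw [k1, o_inv, S.o_add]
      congr 1
      have k2 : ψ * (ψ * ((ψ * ψ + 1)⁻¹ * (p * w))) + (ψ * ψ + 1)⁻¹ * (p * w) =
          ((ψ * ψ + 1)⁻¹ * (ψ * ψ + 1)) * (p * w) := by ring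
      rw [k2, inv_mul_cancel₀ hψ2, one_mul]
  refine comm_comm hd (A := A) (B := B) (C := C) ?_ ?_ hAC ?_
  · rw [hA, ← hp]
    have := S.o_e1 (a - 1) 1 p u
    rw [e1] at this
    exact this.symm
  · rw [hB, hC, ← hp, S.e_e1 a p u w 0, mul_assoc (S.e (a + 1) w 0) (S.e a p u), S.e_o0, ← mul_assoc]
  · rw [hA, hB, ← hw]
    have h1 := S.o_e2 (a - 1) 1 w 0
    rw [e1, e2, one_mul] at h1
    have h2 := S.o_e1 (a - 1) 1 0 w
    rw [e1] at h2
    have h3 := S.e_e1 a 0 w w 0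
    rw [zero_mul, o_zero, mul_one] at h3
    rw [h1, mul_assoc, h2, ← mul_assoc, ← h3, mul_assoc]

end sys

end Cfsg.Agent.KFacts.Mult.TwFRel

end

-- merged: Cfsg.Agent.KFacts.Mult.TwFWeights
section

/-!
# The characters of the torus of `²F₄(q)` in exponential form

For a unit `l` the characters `chE`, `chO` at `(ev l u, ev l v)`, `ev l (i, j) = l ^ i σ(l) ^ j`, are `ev l` of explicit
exponents; `ev l w ≠ 1` if `w.1² - 2 w.2²` divides 4 and `l ≠ 1` has odd order.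
-/

set_option autoImplicit false

namespace Cfsg.Agent.KFacts.Mult.TwFWeights

open Cfsg.Agent.KFacts.TwF4

/-- exponents: `(i, j)` stands for `i + j θ`, `θ² = 2` -/
abbrev Ex := ℤ × ℤ

/-- multiplication by `θ` -/
def sg (w : Ex) : Ex := (2 * w.2, w.1)

/-- exponents of `chE` -/
def xE (a : ZMod 8) (u v : Ex) : Ex := (![u, v, sg v - u, v - sg u, -u, -v, u - sg v, sg u - v] : Fin 8 → Ex) a

/-- exponents of `chO` -/
def xO (a : ZMod 8) (u v : Ex) : Ex := xE a u v + xE (a + 1) u v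

/-- weight of the root group `X_k` -/
def wt (k : ℕ) (p : Ex × Ex) : Ex :=
  if k % 2 = 1 then xO ((k / 2 : ℕ) : ZMod 8) p.1 p.2 else xE ((k / 2 : ℕ) : ZMod 8) p.1 p.2

/-- the torus elements centralising `X_k` -/
def tab (k : ℕ) : Ex × Ex :=
  ([((0, 0), (0, 0)), ((1, 0), (-1, 0)), ((1, 0), (0, 0)), ((1, 1), (1, 0)), ((0, 1), (1, 0)), ((1, 0), (1, 0)),
    ((1, 0), (0, 1)), ((1, 0), (1, 1)), ((0, 0), (1, 0))] : List (Ex × Ex)).getD k ((0, 0), (0, 0))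

/-- the norm of `ℤ[√2]` -/
def nm (w : Ex) : ℤ := w.1 * w.1 - 2 * (w.2 * w.2)

theorem table_aux : ∀ k j : Fin 8, (j = k → wt (j.val + 1) (tab (k.val + 1)) = 0) ∧
    (j ≠ k → nm (wt (j.val + 1) (tab (k.val + 1))) ∣ 4) := by decide +kernel

theorem table (k j : ℕ) (hk1 : 1 ≤ k) (hk8 : k ≤ 8) (hj1 : 1 ≤ j) (hj8 : j ≤ 8) :
    (j = k → wt j (tab k) = 0) ∧ (j ≠ k → nm (wt j (tab k)) ∣ 4) := by
  obtain ⟨h1, h2⟩ := table_aux ⟨k - 1, by omega⟩ ⟨j - 1, by omega⟩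
  have e1 : k - 1 + 1 = k := by omega
  have e2 : j - 1 + 1 = j := by omega
  simp only [e1, e2] at h1 h2
  refine ⟨fun h => h1 (Fin.ext (by show j - 1 = k - 1; omega)), fun h => h2 fun h' => h ?_⟩
  have h3 : j - 1 = k - 1 := congrArg Fin.val h'
  omega

theorem table' : (nm (xO 1 (tab 1).1 (tab 1).2) ∣ 4 ∧ xO 0 (tab 1).1 (tab 1).2 = 0) ∧
    (nm (xO 2 (tab 3).1 (tab 3).2) ∣ 4 ∧ xO 1 (tab 3).1 (tab 3).2 = 0) ∧
    (nm (xO 3 (tab 5).1 (tab 5).2) ∣ 4 ∧ xO 2 (tab 5).1 (tab 5).2 = 0) ∧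
    (nm (xO 4 (tab 7).1 (tab 7).2) ∣ 4 ∧ xO 3 (tab 7).1 (tab 7).2 = 0) := by decide +kernel

variable {F : Type*} [Field F] (σ : F →+* F)

/-- `l ^ i σ(l) ^ j` -/
def ev (l : Fˣ) (w : Ex) : Fˣ := l ^ w.1 * (Units.map (σ : F →* F) l) ^ w.2

theorem ev_zero (l : Fˣ) : ev σ l 0 = 1 := by
  unfold ev
  rw [Prod.fst_zero, Prod.snd_zero, zpow_zero, zpow_zero, one_mul]

theorem ev_add (l : Fˣ) (u v : Ex) : ev σ l (u + v) = ev σ l u * ev σ l v := by
  unfold ev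
  rw [Prod.fst_add, Prod.snd_add, zpow_add, zpow_add]
  exact mul_mul_mul_comm _ _ _ _

theorem ev_neg (l : Fˣ) (u : Ex) : ev σ l (-u) = (ev σ l u)⁻¹ := by
  unfold ev
  rw [Prod.fst_neg, Prod.snd_neg, zpow_neg, zpow_neg, mul_inv]

theorem ev_sub (l : Fˣ) (u v : Ex) : ev σ l (u - v) = ev σ l u / ev σ l v := by
  rw [sub_eq_add_neg, ev_add, ev_neg, div_eq_mul_inv]

variable (hσ : ∀ x, σ (σ x) = x ^ 2)

include hσ in
theorem map_ev (l : Fˣ) (u : Ex) : Units.map (σ : F →* F) (ev σ l u) = ev σ l (sg u) := by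
  unfold ev sg
  rw [map_mul, map_zpow, map_zpow, map_map σ hσ, ← zpow_natCast, ← zpow_mul, mul_comm]
  rfl

include hσ in
theorem chE_ev (a : ZMod 8) (l : Fˣ) (u v : Ex) : chE σ a (ev σ l u) (ev σ l v) = ev σ l (xE a u v) := by
  have h8 : ∀ a : ZMod 8, a = 0 ∨ a = 1 ∨ a = 2 ∨ a = 3 ∨ a = 4 ∨ a = 5 ∨ a = 6 ∨ a = 7 := by decide
  rcases h8 a with rfl | rfl | rfl | rfl | rfl | rfl | rfl | rfl
  · rfl
  · rfl
  · rw [chE_two, map_ev σ hσ, ← ev_sub]; rfl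
  · rw [chE_three, map_ev σ hσ, ← ev_sub]; rfl
  · rw [chE_four, ← ev_neg]; rfl
  · rw [chE_five, ← ev_neg]; rfl
  · rw [chE_six, map_ev σ hσ, ← ev_sub]; rfl
  · rw [chE_seven, map_ev σ hσ, ← ev_sub]; rfl

include hσ in
theorem chO_ev (a : ZMod 8) (l : Fˣ) (u v : Ex) : chO σ a (ev σ l u) (ev σ l v) = ev σ l (xO a u v) := by
  unfold chO xO
  rw [chE_ev σ hσ, chE_ev σ hσ, ev_add]

theorem ev_pow {l : Fˣ} {n : ℕ} (hl : l ^ n = 1) (u : Ex) : ev σ l u ^ n = 1 := by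
  have key : ∀ (x : Fˣ) (i : ℤ), x ^ n = 1 → (x ^ i) ^ n = 1 := by
    intro x i hx
    rw [← zpow_natCast, ← zpow_mul, mul_comm, zpow_mul, zpow_natCast, hx, one_zpow]
  unfold ev
  rw [mul_pow, key l _ hl, key _ _ (by rw [← map_pow, hl, map_one]), one_mul]

include hσ in
theorem ev_ne_one {l : Fˣ} {n : ℕ} (hn : Odd n) (hl : l ^ n = 1) (hl1 : l ≠ 1) {w : Ex} (hw : nm w ∣ 4) :
    ev σ l w ≠ 1 := by
  intro h
  have h' := congrArg (Units.map (σ : F →* F)) h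
  rw [map_ev σ hσ, map_one] at h'
  unfold ev at h h'
  unfold sg at h'
  dsimp only at h'
  set M := Units.map (σ : F →* F) l with hM
  obtain ⟨i, j⟩ := w
  dsimp only at h h'
  have h1 : l ^ i = M ^ (-j) := by rw [zpow_neg]; exact eq_inv_of_mul_eq_one_left h
  have h2 : l ^ (2 * j) = M ^ (-i) := by rw [zpow_neg]; exact eq_inv_of_mul_eq_one_left h'
  have h3 : l ^ (i * i) = l ^ (2 * (j * j)) := by
    calc l ^ (i * i) = (l ^ i) ^ i := zpow_mul _ _ _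
      _ = (M ^ (-j)) ^ i := by rw [h1]
      _ = (M ^ (-i)) ^ j := by rw [← zpow_mul, ← zpow_mul]; congr 1; ring
      _ = (l ^ (2 * j)) ^ j := by rw [h2]
      _ = l ^ (2 * (j * j)) := by rw [← zpow_mul]; congr 1; ring
  have h4 : l ^ (nm (i, j)) = 1 := by
    show l ^ (i * i - 2 * (j * j)) = 1
    rw [zpow_sub, h3, mul_inv_cancel]
  obtain ⟨k, hk⟩ := hw
  have h5 : l ^ (4 : ℤ) = 1 := by rw [hk, zpow_mul, h4, one_zpow]
  have h6 : l ^ 4 = 1 := by exact_mod_cast h5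
  have h7 : orderOf l ∣ 4 := orderOf_dvd_of_pow_eq_one h6
  have h8 : orderOf l ∣ n := orderOf_dvd_of_pow_eq_one hl
  have h9 : Nat.Coprime 4 n := by
    have : Nat.Coprime (2 ^ 2) n := Nat.Coprime.pow_left 2 (Nat.coprime_two_left.2 hn)
    exact this
  have h10 := Nat.eq_one_of_dvd_coprimes h9 h7 h8
  exact hl1 (orderOf_eq_one_iff.1 h10)

end Cfsg.Agent.KFacts.Mult.TwFWeights

end

-- merged: Cfsg.Agent.KFacts.Mult.RankTwoProd
section

/-!
# Products of root groups in rank two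

`Hyp Y m`: subgroups `Y 1, …, Y m` with the commutator relations `[Y k, Y l] ≤ ⟨Y r | k < r < l⟩` and
`Y k ∩ ⟨Y r | k < r⟩ = 1`.  Orders, decompositions, fixed points of elements normalising all `Y k`.
-/

set_option autoImplicit false

namespace Cfsg.Agent.KFacts.Mult.RankTwoProd

open Subgroup
open scoped commutatorElement

variable {G : Type*} [Group G]

/-- `⟨Y k, …, Y m⟩` -/
def W (Y : ℕ → Subgroup G) (m k : ℕ) : Subgroup G := ⨆ r ∈ Set.Icc k m, Y r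

/-- The hypotheses. -/
structure Hyp (Y : ℕ → Subgroup G) (m : ℕ) : Prop where
  comm : ∀ k l, 1 ≤ k → k < l → l ≤ m → ∀ x ∈ Y k, ∀ y ∈ Y l, ⁅x, y⁆ ∈ ⨆ r ∈ Set.Ioo k l, Y r
  inter : ∀ k, 1 ≤ k → k ≤ m → Y k ⊓ W Y m (k + 1) = ⊥

variable {Y : ℕ → Subgroup G} {m : ℕ}

theorem le_W {k r : ℕ} (h1 : k ≤ r) (h2 : r ≤ m) : Y r ≤ W Y m k :=
  le_iSup₂_of_le (f := fun (r : ℕ) (_ : r ∈ Set.Icc k m) => Y r) r ⟨h1, h2⟩ le_rfl

theorem W_le {k : ℕ} {S : Subgroup G} (h : ∀ r, k ≤ r → r ≤ m → Y r ≤ S) : W Y m k ≤ S :=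
  iSup₂_le fun r hr => h r hr.1 hr.2

theorem W_mono {k l : ℕ} (h : k ≤ l) : W Y m l ≤ W Y m k := W_le fun _ h1 h2 => le_W (h.trans h1) h2

theorem W_top {k : ℕ} (h : m < k) : W Y m k = ⊥ := by
  rw [eq_bot_iff]
  exact W_le fun r h1 h2 => by omega

theorem W_eq {k : ℕ} (h : k ≤ m) : W Y m k = Y k ⊔ W Y m (k + 1) := by
  apply le_antisymm
  · refine W_le fun r h1 h2 => ?_
    rcases h1.eq_or_lt with rfl | h3
    · exact le_sup_left
    · exact (le_W h3 h2).trans le_sup_right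
  · exact sup_le (le_W le_rfl h) (W_mono (Nat.le_succ k))

namespace Hyp

variable (H : Hyp Y m)

include H in
theorem conj_W {k : ℕ} (h1 : 1 ≤ k) {x : G} (hx : x ∈ Y k) {v : G} (hv : v ∈ W Y m (k + 1)) :
    x * v * x⁻¹ ∈ W Y m (k + 1) := by
  have h2 : W Y m (k + 1) ≤ (W Y m (k + 1)).comap (MulAut.conj x).toMonoidHom := by
    refine W_le fun r hr1 hr2 y hy => ?_
    show x * y * x⁻¹ ∈ W Y m (k + 1)
    have h3 := H.comm k r h1 hr1 hr2 x hx y hy
    have h4 : ⁅x, y⁆ ∈ W Y m (k + 1) :=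
      (iSup₂_le fun s hs => le_W hs.1 (hs.2.le.trans hr2) : (⨆ s ∈ Set.Ioo k r, Y s) ≤ W Y m (k + 1)) h3
    have e : x * y * x⁻¹ = ⁅x, y⁆ * y := by rw [commutatorElement_def]; group
    rw [e]
    exact mul_mem h4 (le_W hr1 hr2 hy)
  exact h2 hv

include H in
theorem le_normalizer {k : ℕ} (h1 : 1 ≤ k) : Y k ≤ normalizer (W Y m (k + 1) : Set G) := by
  intro x hx
  rw [mem_normalizer_iff]
  intro v
  constructor
  · exact fun hv => H.conj_W h1 hx hv
  · intro hv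
    have := H.conj_W h1 (inv_mem hx) hv
    simpa [mul_assoc] using this

include H in
theorem exists_mul {k : ℕ} (h1 : 1 ≤ k) (h2 : k ≤ m) {u : G} (hu : u ∈ W Y m k) :
    ∃ x ∈ Y k, ∃ v ∈ W Y m (k + 1), x * v = u := by
  rw [W_eq h2, ← SetLike.mem_coe, Subgroup.coe_mul_of_left_le_normalizer_right _ _ (H.le_normalizer h1)] at hu
  exact hu

include H in
theorem unique {k : ℕ} (h1 : 1 ≤ k) (h2 : k ≤ m) {x x' v v' : G} (hx : x ∈ Y k) (hx' : x' ∈ Y k)
    (hv : v ∈ W Y m (k + 1)) (hv' : v' ∈ W Y m (k + 1)) (h : x * v = x' * v') : x = x' ∧ v = v' := by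
  have h3 : x'⁻¹ * x = v' * v⁻¹ := by
    rw [inv_mul_eq_iff_eq_mul, ← mul_assoc, ← h, mul_inv_cancel_right]
  have h4 : x'⁻¹ * x ∈ Y k ⊓ W Y m (k + 1) :=
    Subgroup.mem_inf.2 ⟨mul_mem (inv_mem hx') hx, by rw [h3]; exact mul_mem hv' (inv_mem hv)⟩
  rw [H.inter k h1 h2, mem_bot] at h4
  have h5 : x = x' := (inv_mul_eq_one.1 h4).symm
  subst h5
  exact ⟨rfl, mul_left_cancel h⟩

include H in
theorem card_W {k : ℕ} (h1 : 1 ≤ k) (h2 : k ≤ m) :
    Nat.card (W Y m k) = Nat.card (Y k) * Nat.card (W Y m (k + 1)) := by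
  rw [← Nat.card_prod]
  refine (Nat.card_congr (Equiv.ofBijective (fun p : Y k × W Y m (k + 1) =>
    (⟨p.1.1 * p.2.1, mul_mem (le_W le_rfl h2 p.1.2) (W_mono (Nat.le_succ k) p.2.2)⟩ : W Y m k)) ⟨?_, ?_⟩)).symm
  · rintro ⟨x, v⟩ ⟨x', v'⟩ h
    obtain ⟨h3, h4⟩ := H.unique h1 h2 x.2 x'.2 v.2 v'.2 (congrArg Subtype.val h)
    exact Prod.ext (Subtype.ext h3) (Subtype.ext h4)
  · rintro ⟨u, hu⟩
    obtain ⟨x, hx, v, hv, h3⟩ := H.exists_mul h1 h2 hu
    exact ⟨(⟨x, hx⟩, ⟨v, hv⟩), Subtype.ext h3⟩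

include H in
/-- An element normalising all `Y k` and acting fixed point freely on all but one of them. -/
theorem mem_of_fixed {t : G} (ht : ∀ k, 1 ≤ k → k ≤ m → ∀ x ∈ Y k, t * x * t⁻¹ ∈ Y k) {i : ℕ}
    (hfree : ∀ k, 1 ≤ k → k ≤ m → k ≠ i → ∀ x ∈ Y k, t * x = x * t → x = 1) :
    ∀ (n k : ℕ), k + n = m + 1 → 1 ≤ k → ∀ u ∈ W Y m k, t * u = u * t → u ∈ Y i ∧ (i < k → u = 1) := by
  have htW : ∀ k, 1 ≤ k → ∀ v ∈ W Y m k, t * v * t⁻¹ ∈ W Y m k := by
    intro k hk v hv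
    have h2 : W Y m k ≤ (W Y m k).comap (MulAut.conj t).toMonoidHom :=
      W_le fun r hr1 hr2 y hy => le_W hr1 hr2 (ht r (hk.trans hr1) hr2 y hy)
    exact h2 hv
  intro n
  induction n with
  | zero =>
    intro k hk h1 u hu _
    rw [W_top (by omega), mem_bot] at hu
    subst hu
    exact ⟨one_mem _, fun _ => rfl⟩
  | succ n ih =>
    intro k hk h1 u hu hc
    have h2 : k ≤ m := by omega
    obtain ⟨x, hx, v, hv, rfl⟩ := H.exists_mul h1 h2 hu
    have h3 : (t * x * t⁻¹) * (t * v * t⁻¹) = x * v := by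
      have e : (t * x * t⁻¹) * (t * v * t⁻¹) = t * (x * v) * t⁻¹ := by group
      rw [e, hc, mul_inv_cancel_right]
    obtain ⟨h4, h5⟩ := H.unique h1 h2 (ht k h1 h2 x hx) hx (htW (k + 1) (by omega) v hv) hv h3
    have h4' : t * x = x * t := by
      nth_rw 2 [← h4]; group
    have h5' : t * v = v * t := by
      nth_rw 2 [← h5]; group
    obtain ⟨h6, h7⟩ := ih (k + 1) (by omega) (by omega) v hv h5'
    by_cases hki : k = i
    · subst hki
      rw [h7 (Nat.lt_succ_self k), mul_one]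
      exact ⟨hx, fun h => absurd h (lt_irrefl k)⟩
    · have h8 := hfree k h1 h2 hki x hx h4'
      subst h8
      rw [one_mul]
      exact ⟨h6, fun h => h7 (by omega)⟩

include H in
theorem mem_of_fixed' {t : G} (ht : ∀ k, 1 ≤ k → k ≤ m → ∀ x ∈ Y k, t * x * t⁻¹ ∈ Y k) {i : ℕ}
    (hfree : ∀ k, 1 ≤ k → k ≤ m → k ≠ i → ∀ x ∈ Y k, t * x = x * t → x = 1) {u : G} (hu : u ∈ W Y m 1)
    (hc : t * u = u * t) : u ∈ Y i := (H.mem_of_fixed ht hfree m 1 (by omega) le_rfl u hu hc).1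

end Hyp

end Cfsg.Agent.KFacts.Mult.RankTwoProd

end

-- merged: Cfsg.Agent.KFacts.Mult.TwFFour
section

/-!
# `²F₄(q)`, `q > 2`, has no perfect double cover
-/

set_option autoImplicit false
set_option linter.unusedSectionVars false

namespace Cfsg.Agent.KFacts.Mult.TwFFour

open Subgroup Cfsg.Agent.KFacts.MulDef Cfsg.Agent.KFacts.MulTwo Cfsg.Agent.KFacts.Mult.WeightsTwo
  Cfsg.Agent.KFacts.Mult.RGDW Cfsg.Agent.KFacts.Mult.OddSpl Cfsg.Agent.KFacts.Mult.SuzSpl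
  Cfsg.Agent.KFacts.Mult.TwFRel Cfsg.Agent.KFacts.Mult.TwFWeights
open Cfsg.Lie Cfsg.Agent.ChevalleyStructure.TwF4.TwistedFix Cfsg.Agent.ChevalleyStructure.TwF4.Torus
open Cfsg.Agent.Octagon.KSys Cfsg.Agent.Octagon.KPar Cfsg.Agent.Octagon.KRoot
open Cfsg.Agent.KFacts.TwF4 Cfsg.Agent.KFacts.TwF4.Inst
open Cfsg.Agent.KFacts.Mult.RankTwoProd (W Hyp le_W W_le)
open scoped commutatorElement

/-- The `p`-part of a finite abelian group. -/
theorem exists_ppart {G : Type*} [Group G] {D : Subgroup G} [Finite D] (hD : ∀ a ∈ D, ∀ b ∈ D, a * b = b * a)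
    {p : ℕ} (hp : p.Prime) : ∃ T ≤ D, IsPGroup p T ∧ ∃ N, ¬ p ∣ N ∧ ∀ h ∈ D, h ^ N ∈ T := by
  obtain ⟨k, N, hN, hc⟩ := Nat.exists_eq_pow_mul_and_not_dvd (n := Nat.card D) Nat.card_pos.ne' p hp.ne_one
  let T : Subgroup G :=
    { carrier := {h | h ∈ D ∧ h ^ p ^ k = 1}
      one_mem' := ⟨one_mem _, one_pow _⟩
      mul_mem' := by
        rintro a b ⟨ha, ha'⟩ ⟨hb, hb'⟩
        refine ⟨mul_mem ha hb, ?_⟩
        rw [(show Commute a b from hD a ha b hb).mul_pow, ha', hb', one_mul]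
      inv_mem' := by
        rintro a ⟨ha, ha'⟩
        exact ⟨inv_mem ha, by rw [inv_pow, ha', inv_one]⟩ }
  refine ⟨T, fun h hh => hh.1, ?_, N, hN, ?_⟩
  · rintro ⟨h, hh⟩
    exact ⟨k, Subtype.ext hh.2⟩
  · intro h hh
    refine ⟨pow_mem hh _, ?_⟩
    have h1 : (⟨h, hh⟩ : D) ^ Nat.card D = 1 := pow_card_eq_one'
    have h2 : h ^ Nat.card D = 1 := congrArg Subtype.val h1
    rw [← pow_mul, mul_comm, ← hc, h2]

section inst

variable {K : Type*} [Field K] [CharP K 2] [Finite K] {φ : K →+* K} {e : ℕ} (hφ : Rln φ e)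

variable (K e) in
/-- the root groups, numbered by natural numbers -/
def Y (k : ℕ) : Subgroup ↥(twistedF4 K e) := XX K e (k : ZMod (2 * 8))

include hφ in
theorem hyp : Hyp (Y K e) 8 where
  comm := fun k l h1 h2 h3 x hx y hy => (Cfsg.Agent.SplitTwo.RootSysZ.rgdz (rootSys hφ)).comm k l h1 h2 h3 x hx y hy
  inter := fun k h1 h2 => by
    rw [eq_bot_iff, ← (rootSys hφ).inter (k : ZMod (2 * 8))]
    refine inf_le_inf_left _ (W_le fun r hr1 hr2 => ?_)
    have e1 : (r : ZMod (2 * 8)) = (k : ZMod (2 * 8)) + ((r - k : ℕ) : ZMod (2 * 8)) := by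
      rw [← Nat.cast_add]; congr 1; omega
    show XX K e (r : ZMod (2 * 8)) ≤ _
    rw [e1]
    exact le_iSup₂_of_le (f := fun (s : ℕ) (_ : s ∈ Set.Ioo 0 8) =>
      (rootSys hφ).X ((k : ZMod (2 * 8)) + ((s : ℕ) : ZMod (2 * 8)))) (r - k) ⟨by omega, by omega⟩ le_rfl

variable (K e) in
/-- the torus -/
def DD : Subgroup ↥(twistedF4 K e) := (chevF4.diagonalSubgroup K).subgroupOf (twistedF4 K e)

include hφ in
theorem D_conj {h : ↥(twistedF4 K e)} (hh : h ∈ DD K e) (k : ℕ) {x : ↥(twistedF4 K e)} (hx : x ∈ Y K e k) :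
    h * x * h⁻¹ ∈ Y K e k := (rootSys hφ).H_conj h hh _ x hx

theorem D_comm (a : ↥(twistedF4 K e)) (ha : a ∈ DD K e) (b : ↥(twistedF4 K e)) (hb : b ∈ DD K e) :
    a * b = b * a := by
  have ha' : (a : GL chevF4.Idx K) ∈ chevF4.diagonalSubgroup K := ha
  have hb' : (b : GL chevF4.Idx K) ∈ chevF4.diagonalSubgroup K := hb
  rw [diagonal_eq_range] at ha' hb'
  obtain ⟨c, hc⟩ := ha'
  obtain ⟨d, hd⟩ := hb'
  apply Subtype.ext
  show (a : GL chevF4.Idx K) * b = b * a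
  rw [← hc, ← hd, ← map_mul, ← map_mul, mul_comm]

theorem memY_odd (k : ℕ) (h1 : 1 ≤ k) (h2 : k ≤ 8) (hk : k % 2 = 1) (g : ↥(twistedF4 K e)) :
    g ∈ Y K e k ↔ ∃ t, ro hφ ((k / 2 : ℕ) : ZMod 8) t = g := by
  have key : ∀ (i : ℕ) (j : ZMod (2 * 8)) (a : ZMod 8), (i : ZMod (2 * 8)) = j → ((i / 2 : ℕ) : ZMod 8) = a →
      (g ∈ XX K e j ↔ ∃ t, ro hφ a t = g) → (g ∈ Y K e i ↔ ∃ t, ro hφ ((i / 2 : ℕ) : ZMod 8) t = g) := by
    intro i j a h3 h4 h5
    rw [h4]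
    unfold Y
    rw [h3]
    exact h5
  have hk' : k = 1 ∨ k = 3 ∨ k = 5 ∨ k = 7 := by omega
  rcases hk' with rfl | rfl | rfl | rfl
  · refine key 1 1 0 (by decide) (by decide) ?_
    rw [memXX1 hφ]; simp only [y1_eq]
  · refine key 3 3 1 (by decide) (by decide) ?_
    rw [memXX3 hφ]; simp only [y3_eq]
  · refine key 5 5 2 (by decide) (by decide) ?_
    rw [memXX5 hφ]; simp only [y5_eq]
  · refine key 7 7 3 (by decide) (by decide) ?_
    rw [memXX7 hφ]; simp only [y7_eq]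

theorem memY_even (k : ℕ) (h1 : 1 ≤ k) (h2 : k ≤ 8) (hk : k % 2 = 0) (g : ↥(twistedF4 K e)) :
    g ∈ Y K e k ↔ ∃ p u, re hφ ((k / 2 : ℕ) : ZMod 8) p u = g := by
  have key : ∀ (i : ℕ) (j : ZMod (2 * 8)) (a : ZMod 8), (i : ZMod (2 * 8)) = j → ((i / 2 : ℕ) : ZMod 8) = a →
      (g ∈ XX K e j ↔ ∃ p u, re hφ a p u = g) →
      (g ∈ Y K e i ↔ ∃ p u, re hφ ((i / 2 : ℕ) : ZMod 8) p u = g) := by
    intro i j a h3 h4 h5
    rw [h4]
    unfold Y
    rw [h3]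
    exact h5
  have hk' : k = 2 ∨ k = 4 ∨ k = 6 ∨ k = 8 := by omega
  rcases hk' with rfl | rfl | rfl | rfl
  · refine key 2 2 1 (by decide) (by decide) ?_
    rw [memXX2 hφ]; simp only [y2_eq]
  · refine key 4 4 2 (by decide) (by decide) ?_
    rw [memXX4 hφ]; simp only [y4_eq]
  · refine key 6 6 3 (by decide) (by decide) ?_
    rw [memXX6 hφ]; simp only [y6_eq]
  · refine key 8 8 4 (by decide) (by decide) ?_
    rw [memXX8 hφ]; simp only [y8_eq]

/-- `h` acts with the character `χ` on the `k`-th root group -/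
def Acts (h : ↥(twistedF4 K e)) (k : ℕ) (χ : Kˣ) : Prop :=
  (k % 2 = 1 → ∀ x, h * ro hφ ((k / 2 : ℕ) : ZMod 8) x * h⁻¹ = ro hφ ((k / 2 : ℕ) : ZMod 8) ((χ : K) * x)) ∧
  (k % 2 = 0 → ∀ p u, h * re hφ ((k / 2 : ℕ) : ZMod 8) p u * h⁻¹ =
    re hφ ((k / 2 : ℕ) : ZMod 8) ((χ : K) * p) ((χ : K) * φ (χ : K) * u))

theorem Acts.pow {h : ↥(twistedF4 K e)} {k : ℕ} {χ : Kˣ} (H : Acts hφ h k χ) (n : ℕ) :
    Acts hφ (h ^ n) k (χ ^ n) := by
  constructor
  · intro hk x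
    induction n generalizing x with
    | zero => simp
    | succ n ih =>
      have e1 : h ^ (n + 1) * ro hφ ((k / 2 : ℕ) : ZMod 8) x * (h ^ (n + 1))⁻¹ =
          h ^ n * (h * ro hφ ((k / 2 : ℕ) : ZMod 8) x * h⁻¹) * (h ^ n)⁻¹ := by rw [pow_succ]; group
      rw [e1, H.1 hk, ih]
      congr 1
      push_cast
      ring
  · intro hk p u
    induction n generalizing p u with
    | zero => simp
    | succ n ih =>
      have e1 : h ^ (n + 1) * re hφ ((k / 2 : ℕ) : ZMod 8) p u * (h ^ (n + 1))⁻¹ =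
          h ^ n * (h * re hφ ((k / 2 : ℕ) : ZMod 8) p u * h⁻¹) * (h ^ n)⁻¹ := by rw [pow_succ]; group
      rw [e1, H.2 hk, ih]
      congr 1
      · push_cast
        ring
      · push_cast
        rw [pow_succ, map_mul]
        ring

theorem Acts.cent {h : ↥(twistedF4 K e)} {k : ℕ} (h1 : 1 ≤ k) (h8 : k ≤ 8) (H : Acts hφ h k 1) :
    ∀ x ∈ Y K e k, h * x = x * h := by
  intro x hx
  rcases Nat.mod_two_eq_zero_or_one k with hk | hk
  · obtain ⟨p, u, rfl⟩ := (memY_even hφ k h1 h8 hk x).1 hx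
    have h2 := H.2 hk p u
    rw [Units.val_one, map_one, one_mul, one_mul, one_mul] at h2
    rw [mul_inv_eq_iff_eq_mul] at h2
    exact h2
  · obtain ⟨t, rfl⟩ := (memY_odd hφ k h1 h8 hk x).1 hx
    have h2 := H.1 hk t
    rw [Units.val_one, one_mul] at h2
    rw [mul_inv_eq_iff_eq_mul] at h2
    exact h2

theorem Acts.free {h : ↥(twistedF4 K e)} {k : ℕ} (h1 : 1 ≤ k) (h8 : k ≤ 8) {χ : Kˣ} (H : Acts hφ h k χ)
    (hχ : χ ≠ 1) : ∀ x ∈ Y K e k, h * x = x * h → x = 1 := by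
  intro x hx hc
  have hχ' : (χ : K) ≠ 1 := fun h => hχ (Units.ext h)
  rcases Nat.mod_two_eq_zero_or_one k with hk | hk
  · obtain ⟨p, u, rfl⟩ := (memY_even hφ k h1 h8 hk x).1 hx
    have h2 := H.2 hk p u
    rw [hc, mul_inv_cancel_right] at h2
    obtain ⟨h3, h4⟩ := (sys hφ).injE _ _ _ _ _ h2
    have hp : p = 0 := by
      by_contra hp
      exact hχ' ((mul_left_eq_self₀.1 h3.symm).resolve_right hp)
    have hu : u = 0 := by
      by_contra hu
      exact hχ' (SuzC.eq_one_of (sq_phi hφ) ((mul_left_eq_self₀.1 h4.symm).resolve_right hu))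
    subst hp hu
    have h5 := (sys hφ).e_mul ((k / 2 : ℕ) : ZMod 8) 0 0 0 0
    simp only [add_zero, zero_mul] at h5
    exact mul_eq_left.1 h5
  · obtain ⟨t, rfl⟩ := (memY_odd hφ k h1 h8 hk x).1 hx
    have h2 := H.1 hk t
    rw [hc, mul_inv_cancel_right] at h2
    have h3 := (sys hφ).injO _ h2
    have ht : t = 0 := by
      by_contra ht
      exact hχ' ((mul_left_eq_self₀.1 h3.symm).resolve_right ht)
    subst ht
    exact o_zero (sys hφ) _

theorem exists_acts (l : Kˣ) (u v : Ex) : ∃ h ∈ DD K e, (∀ k, Acts hφ h k (ev φ l (wt k (u, v)))) ∧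
    (∀ a x, h * ro hφ a x * h⁻¹ = ro hφ a ((ev φ l (xO a u v) : K) * x)) := by
  obtain ⟨h, hD, h1, h2⟩ := exists_torus hφ (ev φ l u) (ev φ l v)
  simp only [chO_ev φ (sq_phi hφ)] at h1
  simp only [chE_ev φ (sq_phi hφ)] at h2
  refine ⟨h, hD, fun k => ⟨fun hk x => ?_, fun hk p w => ?_⟩, h1⟩
  · rw [h1]
    unfold wt
    rw [if_pos hk]
  · rw [h2]
    unfold wt
    rw [if_neg (by omega)]

theorem suzC (k : ℕ) (h1 : 1 ≤ k) (h8 : k ≤ 8) (hk : k % 2 = 0) :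
    SuzC φ (DD K e) (re hφ ((k / 2 : ℕ) : ZMod 8)) where
  mul := (sys hφ).e_mul _
  inj := (sys hφ).injE _
  nor := by
    intro h hh p u
    have h2 := D_conj hφ hh k ((memY_even hφ k h1 h8 hk _).2 ⟨p, u, rfl⟩)
    obtain ⟨q, v, h3⟩ := (memY_even hφ k h1 h8 hk _).1 h2
    exact ⟨q, v, h3.symm⟩
  tor := by
    intro χ hχ
    have hex : ∃ c d : Kˣ, chE φ ((k / 2 : ℕ) : ZMod 8) c d = Units.mk0 χ hχ := by
      have hk' : k = 2 ∨ k = 4 ∨ k = 6 ∨ k = 8 := by omega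
      rcases hk' with rfl | rfl | rfl | rfl
      · refine ⟨1, Units.mk0 χ hχ, ?_⟩
        exact chE_one φ _ _
      · refine ⟨(Units.mk0 χ hχ)⁻¹, 1, ?_⟩
        refine (chE_two φ _ _).trans ?_
        rw [map_one, one_div, inv_inv]
      · refine ⟨1, Units.mk0 χ hχ, ?_⟩
        refine (chE_three φ _ _).trans ?_
        rw [map_one, div_one]
      · refine ⟨(Units.mk0 χ hχ)⁻¹, 1, ?_⟩
        refine (chE_four φ _ _).trans ?_
        rw [inv_inv]
    obtain ⟨c, d, hcd⟩ := hex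
    obtain ⟨h, hD, -, h2⟩ := exists_torus hφ c d
    refine ⟨h, hD, fun p u => ?_⟩
    rw [h2, hcd]
    rfl

/-! ### the order -/

include hφ in
theorem card_Y_odd (k : ℕ) (h1 : 1 ≤ k) (h8 : k ≤ 8) (hk : k % 2 = 1) : Nat.card (Y K e k) = Nat.card K := by
  refine (Nat.card_congr (Equiv.ofBijective (fun t : K => (⟨ro hφ ((k / 2 : ℕ) : ZMod 8) t,
    (memY_odd hφ k h1 h8 hk _).2 ⟨t, rfl⟩⟩ : Y K e k)) ⟨?_, ?_⟩)).symm
  · intro t s h
    exact (sys hφ).injO _ (congrArg Subtype.val h)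
  · rintro ⟨g, hg⟩
    obtain ⟨t, ht⟩ := (memY_odd hφ k h1 h8 hk _).1 hg
    exact ⟨t, Subtype.ext ht⟩

include hφ in
theorem card_Y_even (k : ℕ) (h1 : 1 ≤ k) (h8 : k ≤ 8) (hk : k % 2 = 0) :
    Nat.card (Y K e k) = Nat.card K * Nat.card K := by
  rw [← Nat.card_prod]
  refine (Nat.card_congr (Equiv.ofBijective (fun t : K × K => (⟨re hφ ((k / 2 : ℕ) : ZMod 8) t.1 t.2,
    (memY_even hφ k h1 h8 hk _).2 ⟨t.1, t.2, rfl⟩⟩ : Y K e k)) ⟨?_, ?_⟩)).symm
  · rintro ⟨t, u⟩ ⟨s, v⟩ h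
    obtain ⟨h3, h4⟩ := (sys hφ).injE _ _ _ _ _ (congrArg Subtype.val h)
    exact Prod.ext h3 h4
  · rintro ⟨g, hg⟩
    obtain ⟨t, u, ht⟩ := (memY_even hφ k h1 h8 hk _).1 hg
    exact ⟨(t, u), Subtype.ext ht⟩

include hφ in
theorem card_U : Nat.card (W (Y K e) 8 1) = Nat.card K ^ 12 := by
  have H := hyp hφ
  rw [H.card_W le_rfl (by norm_num), H.card_W (by norm_num) (by norm_num), H.card_W (by norm_num) (by norm_num),
    H.card_W (by norm_num) (by norm_num), H.card_W (by norm_num) (by norm_num), H.card_W (by norm_num) (by norm_num),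
    H.card_W (by norm_num) (by norm_num), H.card_W (by norm_num) (by norm_num),
    RankTwoProd.W_top (by norm_num), Subgroup.card_bot]
  rw [card_Y_odd hφ 1 (by norm_num) (by norm_num) (by norm_num), card_Y_even hφ (1 + 1) (by norm_num) (by norm_num) (by norm_num),
    card_Y_odd hφ (1 + 1 + 1) (by norm_num) (by norm_num) (by norm_num), card_Y_even hφ (1 + 1 + 1 + 1) (by norm_num) (by norm_num) (by norm_num),
    card_Y_odd hφ (1 + 1 + 1 + 1 + 1) (by norm_num) (by norm_num) (by norm_num),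
    card_Y_even hφ (1 + 1 + 1 + 1 + 1 + 1) (by norm_num) (by norm_num) (by norm_num),
    card_Y_odd hφ (1 + 1 + 1 + 1 + 1 + 1 + 1) (by norm_num) (by norm_num) (by norm_num),
    card_Y_even hφ (1 + 1 + 1 + 1 + 1 + 1 + 1 + 1) (by norm_num) (by norm_num) (by norm_num)]
  ring

end inst

section main

variable {K : Type*} [Field K] [Fintype K] {m : ℕ}

theorem card_D (hK : Fintype.card K = 2 ^ (2 * m + 1)) :
    Nat.card (DD K (2 ^ m)) = (2 ^ (2 * m + 1) - 1) ^ 2 := by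
  rw [← Cfsg.Agent.S1110.result hK]
  have h1 : (DD K (2 ^ m)).map (twistedF4 K (2 ^ m)).subtype = chevF4.diagonalSubgroup K ⊓ twistedF4 K (2 ^ m) :=
    Subgroup.subgroupOf_map_subtype _ _
  rw [← h1]
  exact Nat.card_congr ((DD K (2 ^ m)).equivMapOfInjective _ (Subgroup.subtype_injective _)).toEquiv

theorem odd_pred (n : ℕ) (hn : 1 ≤ n) : Odd (2 ^ n - 1) := by
  obtain ⟨k, rfl⟩ : ∃ k, n = k + 1 := ⟨n - 1, by omega⟩
  have h : 1 ≤ 2 ^ k := Nat.one_le_two_pow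
  exact ⟨2 ^ k - 1, by rw [pow_succ]; omega⟩

theorem not_dvd_index [CharP K 2] {φ : K →+* K} (hφ : Rln φ (2 ^ m)) (hK : Fintype.card K = 2 ^ (2 * m + 1)) :
    ¬ 2 ∣ (W (Y K (2 ^ m)) 8 1).index := by
  have h1 := (W (Y K (2 ^ m)) 8 1).card_mul_index
  rw [card_U hφ, Nat.card_eq_fintype_card (α := K), hK, Cfsg.Agent.S1068.result hK] at h1
  have hq : Even (2 ^ (2 * m + 1)) := ⟨2 ^ (2 * m), by rw [pow_succ]; ring⟩
  have hq1 : 1 ≤ 2 ^ (2 * m + 1) := Nat.one_le_two_pow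
  have h2 : (W (Y K (2 ^ m)) 8 1).index = (2 ^ (2 * m + 1) - 1) * ((2 ^ (2 * m + 1)) ^ 3 + 1) *
      ((2 ^ (2 * m + 1)) ^ 4 - 1) * ((2 ^ (2 * m + 1)) ^ 6 + 1) := by
    have h3 : 0 < (2 ^ (2 * m + 1)) ^ 12 := by positivity
    apply Nat.eq_of_mul_eq_mul_left h3
    rw [h1]
    ring
  have h4 : Odd (W (Y K (2 ^ m)) 8 1).index := by
    rw [h2]
    refine Odd.mul (Odd.mul (Odd.mul (odd_pred _ (by omega)) ?_) ?_) ?_
    · exact (hq.pow_of_ne_zero (by norm_num)).add_one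
    · rw [← pow_mul]
      exact odd_pred _ (by omega)
    · exact (hq.pow_of_ne_zero (by norm_num)).add_one
  intro h5
  exact (Nat.not_even_iff_odd.2 h4) (even_iff_two_dvd.2 h5)

/-- the torus elements -/
theorem exists_elt [CharP K 2] {φ : K →+* K} (hφ : Rln φ (2 ^ m)) {p N : ℕ} (hp : p.Prime) (hodd : Odd p)
    {l : Kˣ} (hlp : l ^ p = 1) (hl1 : l ≠ 1) (hN : ¬ p ∣ N) {T : Subgroup ↥(twistedF4 K (2 ^ m))}
    (hTN : ∀ h ∈ DD K (2 ^ m), h ^ N ∈ T) (k : ℕ) (h1 : 1 ≤ k) (h8 : k ≤ 8) :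
    ∃ t ∈ T, (∀ x ∈ Y K (2 ^ m) k, t * x = x * t) ∧
      ∀ j, 1 ≤ j → j ≤ 8 → j ≠ k → ∀ x ∈ Y K (2 ^ m) j, t * x = x * t → x = 1 := by
  obtain ⟨h, hD, hact, -⟩ := exists_acts hφ l (tab k).1 (tab k).2
  refine ⟨h ^ N, hTN h hD, ?_, ?_⟩
  · have h2 := (hact k).pow hφ N
    have h3 : ev φ l (wt k ((tab k).1, (tab k).2)) ^ N = 1 := by
      rw [Prod.mk.eta, (table k k h1 h8 h1 h8).1 rfl, ev_zero, one_pow]
    rw [h3] at h2
    exact h2.cent hφ h1 h8
  · intro j hj1 hj8 hjk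
    have h2 := (hact j).pow hφ N
    have h3 : ev φ l (wt j ((tab k).1, (tab k).2)) ≠ 1 := by
      rw [Prod.mk.eta]
      exact ev_ne_one φ (sq_phi hφ) hodd hlp hl1 ((table k j h1 h8 hj1 hj8).2 hjk)
    refine h2.free hφ hj1 hj8 ?_
    intro h4
    apply h3
    have h5 := orderOf_dvd_of_pow_eq_one h4
    have h6 := orderOf_dvd_of_pow_eq_one (ev_pow φ hlp (wt j ((tab k).1, (tab k).2)))
    have h7 : Nat.Coprime p N := (Nat.Prime.coprime_iff_not_dvd hp).2 hN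
    exact orderOf_eq_one_iff.1 (Nat.eq_one_of_dvd_coprimes h7 h6 h5)

/-- the separating elements for the commutation of `Z(X_{2a})` and `X_{2a}` -/
theorem exists_gamma [CharP K 2] {φ : K →+* K} (hφ : Rln φ (2 ^ m)) {p : ℕ} (hodd : Odd p)
    {l : Kˣ} (hlp : l ^ p = 1) (hl1 : l ≠ 1) (k : ℕ) (h1 : 1 ≤ k) (h8 : k ≤ 8) (hk : k % 2 = 0) :
    ∃ (h : ↥(twistedF4 K (2 ^ m))) (ψ : K), ψ ≠ 1 ∧
      h * (sys hφ).o (((k / 2 : ℕ) : ZMod 8) - 1) 1 = (sys hφ).o (((k / 2 : ℕ) : ZMod 8) - 1) 1 * h ∧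
      ∀ s, h * (sys hφ).o ((k / 2 : ℕ) : ZMod 8) s * h⁻¹ = (sys hφ).o ((k / 2 : ℕ) : ZMod 8) (ψ * s) := by
  have key : ∀ (i : ℕ) (a b : ZMod 8), nm (xO a (tab i).1 (tab i).2) ∣ 4 ∧ xO b (tab i).1 (tab i).2 = 0 →
      ((k / 2 : ℕ) : ZMod 8) = a → ((k / 2 : ℕ) : ZMod 8) - 1 = b →
      ∃ (h : ↥(twistedF4 K (2 ^ m))) (ψ : K), ψ ≠ 1 ∧
      h * (sys hφ).o (((k / 2 : ℕ) : ZMod 8) - 1) 1 = (sys hφ).o (((k / 2 : ℕ) : ZMod 8) - 1) 1 * h ∧
      ∀ s, h * (sys hφ).o ((k / 2 : ℕ) : ZMod 8) s * h⁻¹ = (sys hφ).o ((k / 2 : ℕ) : ZMod 8) (ψ * s) := by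
    intro i a b hab ha hb
    obtain ⟨h, -, -, h2⟩ := exists_acts hφ l (tab i).1 (tab i).2
    refine ⟨h, (ev φ l (xO a (tab i).1 (tab i).2) : K), ?_, ?_, ?_⟩
    · intro h3
      exact ev_ne_one φ (sq_phi hφ) hodd hlp hl1 hab.1 (Units.ext h3)
    · rw [hb, ← mul_inv_eq_iff_eq_mul]
      have h3 := h2 b 1
      rw [hab.2, ev_zero, Units.val_one, one_mul] at h3
      exact h3
    · intro s
      rw [ha]
      exact h2 a s
  have hk' : k = 2 ∨ k = 4 ∨ k = 6 ∨ k = 8 := by omega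
  obtain ⟨t1, t2, t3, t4⟩ := table'
  rcases hk' with rfl | rfl | rfl | rfl
  · exact key 1 1 0 t1 (by decide) (by decide)
  · exact key 3 2 1 t2 (by decide) (by decide)
  · exact key 5 3 2 t3 (by decide) (by decide)
  · exact key 7 4 3 t4 (by decide) (by decide)

/-- **`²F₄(q)`, `q > 2`, has no perfect double cover.** -/
theorem noDouble_of_rln [CharP K 2] {φ : K →+* K} (hφ : Rln φ (2 ^ m)) (hm : 1 ≤ m)
    (hK : Fintype.card K = 2 ^ (2 * m + 1)) : NoDouble ↥(twistedF4 K (2 ^ m)) := by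
  classical
  have hq8 : 8 ≤ 2 ^ (2 * m + 1) := by
    calc 8 = 2 ^ 3 := by norm_num
      _ ≤ 2 ^ (2 * m + 1) := Nat.pow_le_pow_right (by norm_num) (by omega)
  obtain ⟨p, hp, hpq⟩ := Nat.exists_prime_and_dvd (n := 2 ^ (2 * m + 1) - 1) (by omega)
  have : Fact p.Prime := ⟨hp⟩
  have : Fact (Nat.Prime 2) := ⟨Nat.prime_two⟩
  have hodd : Odd p := (odd_pred _ (by omega)).of_dvd_nat hpq
  have hunits : Nat.card Kˣ = 2 ^ (2 * m + 1) - 1 := by rw [Nat.card_units, Nat.card_eq_fintype_card, hK]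
  obtain ⟨l, hl⟩ := exists_prime_orderOf_dvd_card' (G := Kˣ) p (by rw [hunits]; exact hpq)
  have hl1 : l ≠ 1 := by
    rintro rfl
    rw [orderOf_one] at hl
    exact hp.one_lt.ne hl
  have hlp : l ^ p = 1 := by rw [← hl]; exact pow_orderOf_eq_one l
  obtain ⟨T, hTD, hTp, N, hN, hTN⟩ := exists_ppart (D := DD K (2 ^ m)) D_comm hp
  have hel := exists_elt hφ hp hodd hlp hl1 hN hTN
  have hDodd : Odd (Nat.card (DD K (2 ^ m))) := by
    rw [card_D hK]
    exact (odd_pred _ (by omega)).pow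
  have hspl : ∀ k, 1 ≤ k → k ≤ 8 → Spl (DD K (2 ^ m)) (Y K (2 ^ m) k) := by
    intro k h1 h8
    have hfix : ∃ t ∈ DD K (2 ^ m), ∀ v ∈ Y K (2 ^ m) k, t * v = v * t → v = 1 := by
      by_cases hk1 : k = 1
      · obtain ⟨t, ht, -, h2⟩ := hel 2 (by norm_num) (by norm_num)
        exact ⟨t, hTD ht, h2 k h1 h8 (by omega)⟩
      · obtain ⟨t, ht, -, h2⟩ := hel 1 (by norm_num) (by norm_num)
        exact ⟨t, hTD ht, h2 k h1 h8 hk1⟩
    have hnor : ∀ t ∈ DD K (2 ^ m), ∀ v ∈ Y K (2 ^ m) k, t * v * t⁻¹ ∈ Y K (2 ^ m) k :=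
      fun t ht v hv => D_conj hφ ht k hv
    rcases Nat.mod_two_eq_zero_or_one k with hk | hk
    · have S := suzC hφ k h1 h8 hk
      have hYV : Y K (2 ^ m) k = S.V := by
        ext x
        rw [memY_even hφ k h1 h8 hk]
        rfl
      refine Spl.of_notMem hDodd hnor hfix fun L _ _ π c hd => ?_
      rw [hYV]
      refine S.notMem (sq_phi hφ) (by rw [Nat.card_eq_fintype_card, hK]; omega) hDodd hd ?_
      intro x y hx hy
      exact zv (sys hφ) ((k / 2 : ℕ) : ZMod 8) hd (exists_gamma hφ hodd hlp hl1 k h1 h8 hk) x y hx hy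
    · have hYO : Y K (2 ^ m) k = OO (sys hφ) ((k / 2 : ℕ) : ZMod 8) := by
        ext x
        rw [memY_odd hφ k h1 h8 hk]
        rfl
      refine OddSpl.Spl.of_abPre hDodd hnor hfix ?_
      rw [hYO]
      exact abPre (sys hφ) _
  have H := hyp hφ
  have hW : WHyp p (W (Y K (2 ^ m)) 8 1) T (fun i : Fin 8 => Y K (2 ^ m) (i.val + 1)) :=
    { pg := by
        refine IsPGroup.of_card (n := (2 * m + 1) * 12) ?_
        rw [card_U hφ, Nat.card_eq_fintype_card, hK, ← pow_mul]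
      idx := not_dvd_index hφ hK
      tp := hTp
      odd := hodd
      UT := by
        intro t ht x hx
        have h2 : W (Y K (2 ^ m)) 8 1 ≤ (W (Y K (2 ^ m)) 8 1).comap (MulAut.conj t).toMonoidHom :=
          W_le fun r hr1 hr2 y hy => le_W hr1 hr2 (D_conj hφ (hTD ht) r hy)
        exact h2 hx
      VU := fun i => le_W (by omega) (by omega)
      VT := fun i t ht v hv => D_conj hφ (hTD ht) _ hv
      gen := by
        refine W_le fun r hr1 hr2 => ?_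
        have h2 := le_iSup (fun i : Fin 8 => Y K (2 ^ m) (i.val + 1)) ⟨r - 1, by omega⟩
        have e1 : r - 1 + 1 = r := by omega
        simp only [e1] at h2
        exact h2
      fix := by
        intro i u hu hc
        obtain ⟨t, ht, h2, h3⟩ := hel (i.val + 1) (by omega) (by omega)
        exact H.mem_of_fixed' (fun k _ _ x hx => D_conj hφ (hTD ht) k hx) (fun k hk1 hk2 hki => h3 k hk1 hk2 hki) hu
          (hc t ht h2)
      fixT := by
        intro u hu hc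
        obtain ⟨t, ht, h2, h3⟩ := hel 1 (by norm_num) (by norm_num)
        have h4 := H.mem_of_fixed' (fun k _ _ x hx => D_conj hφ (hTD ht) k hx)
          (fun k hk1 hk2 hki => h3 k hk1 hk2 hki) hu (hc t ht)
        obtain ⟨t', ht', h2', h3'⟩ := hel 2 (by norm_num) (by norm_num)
        exact h3' 1 (by norm_num) (by norm_num) (by norm_num) u h4 (hc t' ht') }
  exact hW.noDouble fun i => OddSpl.Spl.mono (hspl (i.val + 1) (by omega) (by omega)) hTD

end main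

/-- **The row `f42` of `LieND`.** -/
theorem noDouble (F : Type) [Field F] [Fintype F] (m : ℕ) (hm : 1 ≤ m) (hF : Fintype.card F = 2 ^ (2 * m + 1)) :
    NoDouble ↥(Lie.twistedF4 F (2 ^ m)) := by
  have := Cfsg.Agent.ChevalleyStructure.TwF4.Twisted.charP_two hF
  obtain ⟨φ, hφ⟩ := exists_rln hF
  exact noDouble_of_rln hφ hm hF

end Cfsg.Agent.KFacts.Mult.TwFFour

end
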