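import Cfsg.Agent.KFacts.Mult.WittCount
import Cfsg.Agent.KFacts.Mult.WittSpan
import Cfsg.Agent.TitsThree.KInstU
import Cfsg.Agent.S0280

-- merged: Cfsg.Agent.KFacts.Mult.UnitChain
section

/-!
# Unitary groups over the field with four elements: the chain argument (helper430)

`UBase M`: `F` has four elements, a torus `T` of odd order. `Facts`: the commutators of lifts of root elements.
`false_of_facts`: no perfect double cover.
-/

set_option autoImplicit false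
set_option linter.unusedVariables false

namespace Cfsg.Agent.KFacts.Mult.UnitTwo

open Cfsg.Agent.TitsThree.Siegel Cfsg.Agent.TitsThree.WittFrame Cfsg.Agent.TitsThree.WittWeyl
open Cfsg.Agent.TitsThree.FrameCN Cfsg.Agent.KFacts.Mult.ChainZ Cfsg.Agent.KFacts.Mult.WittTwo
open Cfsg.Agent.KFacts.Mult.Calc Cfsg.Agent.KFacts.MulDef Cfsg.Agent.KFacts.Mult.Chain
open scoped commutatorElement

variable {F : Type*} [Field F] {V : Type*} [AddCommGroup V] [Module F V] {H : HForm F V} {m : ℕ}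
  {Fr : Frame H (Fin m)} {K : Type*} [Group K]

/-- `t` acts on the root groups with the weights `a` on the frame and `a0` on `V0`. -/
structure TW (M : Model Fr K) (t : K) (a : Fin m × Bool → F) (a0 : F) : Prop where
  ne : ∀ x, a x ≠ 0
  ne0 : a0 ≠ 0
  opp : ∀ x, a x * H.σ (a (neg x)) = 1
  X : ∀ x y s, t * M.X x y s * t⁻¹ = M.X x y (a x * H.σ (a y) * s)
  Z : ∀ x p, t * M.Z x p * t⁻¹ = M.Z x (Frame.Adm.smul (H.σ (a x) * a0) p)

/-- The data. -/
structure UBase (M : Model Fr K) where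
  h2 : (2 : F) = 0
  hε : H.ε = 1
  ζ : F
  hζ : ζ * ζ = ζ + 1
  hF : ∀ s : F, s = 0 ∨ s = 1 ∨ s = ζ ∨ s = ζ + 1
  hσ : ∀ s, H.σ s = s * s
  T : Subgroup K
  odd : Odd (Nat.card T)
  tw : ∀ t ∈ T, ∃ a a0, TW M t a a0

namespace UBase

variable {M : Model Fr K} (B : UBase M)

include B

theorem dbl (a : F) : a + a = 0 := by rw [← two_mul, B.h2, zero_mul]

theorem ζ_ne_zero : B.ζ ≠ 0 := by
  intro h
  have := B.hζ
  rw [h] at this
  simp at this

theorem ζ_ne_one : B.ζ ≠ 1 := by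
  intro h
  have := B.hζ
  rw [h, B.dbl, mul_one] at this
  exact one_ne_zero this

theorem u_ne_zero : B.ζ + 1 ≠ 0 := by
  intro h
  apply B.ζ_ne_one
  have := B.dbl 1
  exact (add_right_cancel (h.trans this.symm))

theorem u_ne_one : B.ζ + 1 ≠ 1 := by
  intro h
  exact B.ζ_ne_zero (by simpa using h)

theorem ζu : B.ζ * (B.ζ + 1) = 1 := by
  rw [mul_add, B.hζ, mul_one]
  have := B.dbl B.ζ
  linear_combination this

theorem uζ : (B.ζ + 1) * B.ζ = 1 := by rw [mul_comm, B.ζu]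

theorem uu : (B.ζ + 1) * (B.ζ + 1) = B.ζ := by
  have := B.dbl 1
  have h3 := B.dbl B.ζ
  have h4 := B.hζ
  linear_combination h4 + this + h3

theorem σζ : H.σ B.ζ = B.ζ + 1 := by rw [B.hσ, B.hζ]

theorem σu : H.σ (B.ζ + 1) = B.ζ := by rw [B.hσ, B.uu]

theorem norm {a : F} (ha : a ≠ 0) : a * H.σ a = 1 := by
  rw [B.hσ]
  rcases B.hF a with h | h | h | h
  · exact absurd h ha
  · rw [h]; ring
  · rw [h, B.hζ, B.ζu]
  · rw [h, B.uu, B.uζ]

/-- the central admissible pair -/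
def zc : Fr.Adm := Frame.Adm.tr B.ζ

theorem zc_w : B.zc.w = 0 := rfl

theorem tr_c (s : F) : (Frame.Adm.tr s : Fr.Adm).c = s + H.σ s := by
  rw [Frame.Adm.tr_c, B.hε, inv_one, one_mul, sub_eq_add_neg, neg_eq B.h2]

theorem zc_c : B.zc.c = 1 := by
  rw [zc, B.tr_c, B.σζ, ← add_assoc, B.dbl, zero_add]

theorem adm_cases {p : Fr.Adm} (hp : p.w = 0) : p = 1 ∨ p = B.zc := by
  have h1 := p.herm
  rw [hp, H.zero_left, neg_zero, B.hε, one_mul, B.hσ] at h1
  have key : p.c = 0 ∨ p.c = 1 := by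
    rcases B.hF p.c with h | h | h | h
    · exact Or.inl h
    · exact Or.inr h
    · exfalso
      rw [h, B.hζ, ← add_assoc, B.dbl, zero_add] at h1
      exact one_ne_zero h1
    · exfalso
      rw [h, B.uu] at h1
      have h3 : B.ζ + 1 + B.ζ = 1 := by linear_combination B.dbl B.ζ
      rw [h3] at h1
      exact one_ne_zero h1
  rcases key with h | h
  · left; exact Frame.Adm.ext hp h
  · right; exact Frame.Adm.ext hp (by rw [h, B.zc_c])

theorem tr_cases (s : F) : (Frame.Adm.tr s : Fr.Adm) = 1 ∨ (Frame.Adm.tr s : Fr.Adm) = B.zc :=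
  B.adm_cases rfl

theorem zc_ne : B.zc ≠ 1 := by
  intro h
  have := congrArg Frame.Adm.c h
  rw [B.zc_c] at this
  exact one_ne_zero this

theorem smul_fix {a : F} (ha : a ≠ 0) {p : Fr.Adm} (hp : p.w = 0) : Frame.Adm.smul a p = p := by
  apply Frame.Adm.ext
  · rw [Frame.Adm.smul_w, hp, smul_zero]
  · rw [Frame.Adm.smul_c, B.norm ha, one_mul]

theorem zc_mul : B.zc * B.zc = 1 := by
  apply Frame.Adm.ext
  · rw [Frame.Adm.mul_w, B.zc_w, add_zero]; rfl
  · rw [Frame.Adm.mul_c, B.zc_c, B.zc_w, H.zero_left, mul_zero, sub_zero, B.dbl]; rfl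

theorem ZC_mul (x : Fin m × Bool) : M.Z x B.zc * M.Z x B.zc = 1 := by
  rw [← Z_mul, B.zc_mul, Z_one]

/-! ### Moving and centralising -/

theorem fixX {t : K} {a : Fin m × Bool → F} {a0 : F} (h : TW M t a a0) {x y : Fin m × Bool}
    (hw : a x * H.σ (a y) = 1) (s : F) : Commute t (M.X x y s) := by
  have := h.X x y s
  rw [hw, one_mul, mul_inv_eq_iff_eq_mul] at this
  exact this

theorem moveX {t : K} {a : Fin m × Bool → F} {a0 : F} (h : TW M t a a0) {x y : Fin m × Bool}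
    (hw : a x * H.σ (a y) ≠ 1) (s : F) : ∃ s', ⁅t, M.X x y s'⁆ = M.X x y s := by
  set c := a x * H.σ (a y)
  refine ⟨(c - 1)⁻¹ * s, ?_⟩
  have hc : c - 1 ≠ 0 := sub_ne_zero.2 hw
  rw [commutatorElement_def, h.X, mul_inv_eq_iff_eq_mul, ← X_add]
  congr 1
  field_simp
  ring

theorem fixZ {t : K} {a : Fin m × Bool → F} {a0 : F} (h : TW M t a a0) {x : Fin m × Bool}
    (hw : H.σ (a x) * a0 = 1) (p : Fr.Adm) : Commute t (M.Z x p) := by
  have := h.Z x p
  rw [hw, Frame.Adm.one_smul, mul_inv_eq_iff_eq_mul] at this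
  exact this

theorem fixC {t : K} {a : Fin m × Bool → F} {a0 : F} (h : TW M t a a0) (x : Fin m × Bool) {p : Fr.Adm}
    (hp : p.w = 0) : Commute t (M.Z x p) := by
  have := h.Z x p
  rw [B.smul_fix (mul_ne_zero (by simpa using h.ne x) h.ne0) hp, mul_inv_eq_iff_eq_mul] at this
  exact this

theorem moveZ {t : K} {a : Fin m × Bool → F} {a0 : F} (h : TW M t a a0) {x : Fin m × Bool}
    (hw : H.σ (a x) * a0 ≠ 1) (p : Fr.Adm) : ∃ q e : Fr.Adm, e.w = 0 ∧ M.Z x p = ⁅t, M.Z x q⁆ * M.Z x e := by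
  set c := H.σ (a x) * a0
  have hc : c - 1 ≠ 0 := sub_ne_zero.2 hw
  refine ⟨Frame.Adm.smul (c - 1)⁻¹ p,
    (Frame.Adm.smul c (Frame.Adm.smul (c - 1)⁻¹ p) * (Frame.Adm.smul (c - 1)⁻¹ p)⁻¹)⁻¹ * p, ?_, ?_⟩
  · simp only [Frame.Adm.mul_w, Frame.Adm.inv_w, Frame.Adm.smul_w]
    rw [smul_smul, ← sub_eq_add_neg, ← sub_smul]
    have : c * (c - 1)⁻¹ - (c - 1)⁻¹ = 1 := by field_simp
    rw [this, one_smul, neg_add_cancel]
  · rw [commutatorElement_def, h.Z, ← Z_inv, ← Z_mul, ← Z_mul, mul_inv_cancel_left]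

end UBase

/-- The commutators of lifts. -/
structure Facts {M : Model Fr K} (B : UBase M) {L : Type*} [Group L] {π : L →* K} (ce : CE π)
    (zt : Fin m × Bool → L) : Prop where
  map_zt : ∀ x, π (zt x) = M.Z x B.zc
  sq_zt : ∀ x, zt x * zt x = 1
  tT : ∀ x, ∀ t ∈ B.T, ∀ t' : L, π t' = t → t' * zt x * t'⁻¹ = zt x
  xx : ∀ x y z w : Fin m × Bool, x.1 ≠ y.1 → z.1 ≠ w.1 → z ≠ neg x → z ≠ neg y → w ≠ neg x → w ≠ neg y →
    ∀ s t, ce.lc (M.X x y s) (M.X z w t) = 1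
  xxD : ∀ x y : Fin m × Bool, x.1 ≠ y.1 → ∀ s t,
    ce.lc (M.X x y s) (M.X x (neg y) t) = 1 ∨ ce.lc (M.X x y s) (M.X x (neg y) t) = zt x
  xz : ∀ x y z : Fin m × Bool, x.1 ≠ y.1 → x ≠ neg z → y ≠ neg z → ∀ s p, ce.lc (M.X x y s) (M.Z z p) = 1
  xxT : ∀ x y z : Fin m × Bool, x.1 ≠ y.1 → y.1 ≠ z.1 → x.1 ≠ z.1 →
    ∃ h ∈ B.T, (∀ t, Commute h (M.X (neg y) z t)) ∧ ∀ s, ∃ s', ⁅h, M.X x y s'⁆ = M.X x y s
  xzT : ∀ x z : Fin m × Bool, x.1 ≠ z.1 →
    ∃ h ∈ B.T, (∀ p, Commute h (M.Z z p)) ∧ ∀ s, ∃ s', ⁅h, M.X x (neg z) s'⁆ = M.X x (neg z) s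
  zzT : ∀ x y : Fin m × Bool, x.1 ≠ y.1 →
    ∃ h ∈ B.T, (∀ p, Commute h (M.Z x p)) ∧
      ∀ q, ∃ q' e : Fr.Adm, e.w = 0 ∧ M.Z y q = ⁅h, M.Z y q'⁆ * M.Z y e
  zcc : ∀ (x y : Fin m × Bool) (p e : Fr.Adm), x ≠ neg y → e.w = 0 → ce.lc (M.Z x p) (M.Z y e) = 1
  zz : ∀ (x : Fin m × Bool) (p q : Fr.Adm), ce.lc (M.Z x p) (M.Z x q) = 1 ∨ ce.lc (M.Z x p) (M.Z x q) = zt x

namespace Facts

variable {M : Model Fr K} {B : UBase M} {L : Type*} [Group L] {π : L →* K} {ce : CE π}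
  {zt : Fin m × Bool → L} (E : Facts B ce zt) {c : L} (hd : Dbl π c) {W : Subgroup L} {n k : ℕ}

theorem n1 {a b : Fin m × Bool} (h : a.1 ≠ b.1) : a ≠ neg b := by
  rintro rfl; exact h rfl

/-- `W` contains the lifts `zt x` of key `< k`. -/
def Sp (W : Subgroup L) (zt : Fin m × Bool → L) (k : ℕ) : Prop :=
  ∀ x : Fin m × Bool, x.2 = true → key m (pos x) (pos x) < k → zt x ∈ W

theorem ps_of_pos {x y : Fin m × Bool} (h : x ≠ y) (hx : x.2 = true) (hy : y.2 = true) : Ps x y := by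
  have l1 := (pos_lt_iff x).2 hx
  have l2 := (pos_lt_iff y).2 hy
  refine ⟨fst_ne h ?_, by omega⟩
  rintro rfl
  simp [neg] at hx
  rw [hy] at hx; exact absurd hx (by simp)

theorem conj_mem {h a : K} {U : Subgroup K} (h1 : ⁅h, a⁆ ∈ U) (h2 : a ∈ U) : h * a * h⁻¹ ∈ U := by
  have : h * a * h⁻¹ = ⁅h, a⁆ * a := by rw [commutatorElement_def, inv_mul_cancel_right]
  rw [this]; exact mul_mem h1 h2

include E hd

theorem cmXX (hn : n = (2 * m + 1) * (2 * m + 1)) (hW : Cpl π c (Vk (gens M) n) B.T (Vk (gens M) k) W)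
    (hs : Sp W zt k) {x y z w : Fin m × Bool} (h1 : Ps x y) (h2 : Ps z w)
    (hk : ∀ j, j < key m (pos x) (pos y) → j < key m (pos z) (pos w) → j < k) (s t : F) :
    CM π W (M.X x y s) (M.X z w t) := by
  have hU : ∀ {x y : Fin m × Bool} (s : F), Ps x y → M.X x y s ∈ Vk (gens M) n := by
    intro x y s h
    rw [hn]; exact mem_Vk (key_lt_bound (pos_le _) (pos_le _)) (X_mem_gens M h s)
  have main : ∀ {x y z w : Fin m × Bool} (s t : F), Ps x y → Ps z w →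
      (∀ j, j < key m (pos x) (pos y) → j < key m (pos z) (pos w) → j < k) → z = neg y →
      CM π W (M.X x y s) (M.X z w t) := by
    rintro x y _ w s t h1 h2 hk rfl
    have e := pos_add_neg y
    have l1 := h1.2
    have l2 := h2.2
    have hyw : y.1 ≠ w.1 := h2.1
    by_cases hxw : x = w
    · subst hxw
      have h3 := E.xxD x y h1.1 s (H.σ t)
      have h4 : M.X (neg y) x t = M.X x (neg y) (H.σ t) := X_swap M B.h2 B.hε (x := neg y) (y := x) hyw t
      rw [← h4] at h3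
      rcases h3 with h3 | h3
      · exact CM.of_lc_one ce h3
      · refine CM.of_lc ce ?_
        rw [h3]
        refine hs x ((pos_lt_iff x).1 (by omega)) (hk _ ?_ ?_)
        · exact key_lt_of_lt (pos_le _) (pos_le _) (by omega)
        · exact key_lt_of_lt' (pos_le _) (pos_le _) (by omega)
    · have hxw' : x.1 ≠ w.1 := by
        refine fst_ne hxw ?_
        rintro rfl
        have := pos_add_neg w
        omega
      obtain ⟨h, hT, hc1, hc2⟩ := E.xxT x y w h1.1 hyw hxw'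
      obtain ⟨s', hs'⟩ := hc2 s
      refine CM.of_torus hd hW (h := h) (x' := M.X x y s') (v := 1) hT (hU t h2) (hc1 t).eq
        (by rw [hs', mul_one]) (one_mem _) (hU _ h1) (conj_mem (by rw [hs']; exact hU _ h1) (hU _ h1)) ?_
      rw [br_XX M h1.1 hyw hxw']
      refine mem_Vk (hk _ ?_ ?_) (X_mem_gens M ⟨hxw', by omega⟩ _)
      · exact key_lt_of_lt (pos_le _) (pos_le _) (by omega)
      · exact key_lt_of_lt' (pos_le _) (pos_le _) (by omega)
  have sw : ∀ {x y : Fin m × Bool} (h : Ps x y) (s : F), M.X x y s = M.X y x (H.σ s) :=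
    fun h s => X_swap M B.h2 B.hε h.1 s
  by_cases a1 : z = neg y
  · exact main s t h1 h2 hk a1
  by_cases a2 : z = neg x
  · rw [sw h1]
    exact main _ _ h1.symm h2 (by rw [key_comm]; exact hk) a2
  by_cases a3 : w = neg y
  · rw [sw h2]
    exact main _ _ h1 h2.symm (by rw [key_comm (pos w)]; exact hk) a3
  by_cases a4 : w = neg x
  · rw [sw h1, sw h2]
    exact main _ _ h1.symm h2.symm (by rw [key_comm (pos y), key_comm (pos w)]; exact hk) a4
  exact CM.of_lc_one ce (E.xx x y z w h1.1 h2.1 a2 a1 a4 a3 s t)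

theorem cmXZ (hn : n = (2 * m + 1) * (2 * m + 1)) (hW : Cpl π c (Vk (gens M) n) B.T (Vk (gens M) k) W)
    {x y z : Fin m × Bool} (h1 : Ps x y) (h2 : z.2 = true) (s : F) (p : Fr.Adm)
    (hk : (∀ j, j < key m (pos x) (pos y) → j < key m (pos z) m → j < k) ∨
      p.w = 0 ∧ ∀ j, j < key m (pos x) (pos y) → j < key m (pos z) (pos z) → j < k) :
    CM π W (M.X x y s) (M.Z z p) := by
  have lz := (pos_lt_iff z).2 h2
  have hU : ∀ {x y : Fin m × Bool} (s : F), Ps x y → M.X x y s ∈ Vk (gens M) n := by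
    intro x y s h
    rw [hn]; exact mem_Vk (key_lt_bound (pos_le _) (pos_le _)) (X_mem_gens M h s)
  have main : ∀ {x y : Fin m × Bool} (s : F), Ps x y →
      ((∀ j, j < key m (pos x) (pos y) → j < key m (pos z) m → j < k) ∨
      p.w = 0 ∧ ∀ j, j < key m (pos x) (pos y) → j < key m (pos z) (pos z) → j < k) → y = neg z →
      CM π W (M.X x y s) (M.Z z p) := by
    rintro x _ s h1 hk rfl
    have e := pos_add_neg z
    have l1 := h1.2
    have hxz : x.1 ≠ z.1 := h1.1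
    have hx : x.2 = true := (pos_lt_iff x).1 (by omega)
    obtain ⟨h, hT, hc1, hc2⟩ := E.xzT x z hxz
    obtain ⟨s', hs'⟩ := hc2 s
    refine CM.of_torus hd hW (h := h) (x' := M.X x (neg z) s') (v := 1) hT ?_ (hc1 p).eq
      (by rw [hs', mul_one]) (one_mem _) (hU _ h1) (conj_mem (by rw [hs']; exact hU _ h1) (hU _ h1)) ?_
    · rw [hn]; exact mem_Vk (key_lt_bound (pos_le _) (by omega)) (Z_mem_gens M h2 p)
    · rw [br_XZ M B.h2 B.hε hxz]
      have hps : Ps x z := ⟨hxz, by omega⟩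
      rcases hk with hk | ⟨hp, hk⟩
      · refine mul_mem (mem_Vk (hk _ ?_ ?_) (Z_mem_gens M hx _)) (mem_Vk (hk _ ?_ ?_) (X_mem_gens M hps _))
        · exact key_lt_of_lt (pos_le _) (pos_le _) (by omega)
        · exact key_lt_of_lt' (by omega) (pos_le _) (by omega)
        · exact key_lt_of_lt (pos_le _) (pos_le _) (by omega)
        · rw [key_comm]; exact key_lt_of_lt (pos_le _) (by omega) (by omega)
      · refine mul_mem (mem_Vk (hk _ ?_ ?_) (C_mem_gens M hx _ (by rw [Frame.Adm.smul_w, hp, smul_zero])))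
          (mem_Vk (hk _ ?_ ?_) (X_mem_gens M hps _))
        · exact key_lt_of_lt (pos_le _) (pos_le _) (by omega)
        · refine (key_lt_of_lt (b' := pos x) (b := pos z) (pos_le _) (pos_le _) (by omega)).trans ?_
          exact key_lt_of_lt' (pos_le _) (pos_le _) (by omega)
        · exact key_lt_of_lt (pos_le _) (pos_le _) (by omega)
        · exact key_lt_of_lt' (pos_le _) (pos_le _) (by omega)
  have sw : ∀ {x y : Fin m × Bool} (h : Ps x y) (s : F), M.X x y s = M.X y x (H.σ s) :=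
    fun h s => X_swap M B.h2 B.hε h.1 s
  by_cases a1 : y = neg z
  · exact main s h1 hk a1
  by_cases a2 : x = neg z
  · rw [sw h1]
    exact main _ h1.symm (by rw [key_comm (pos y)]; exact hk) a2
  exact CM.of_lc_one ce (E.xz x y z h1.1 a2 a1 s p)

theorem cmZZ (hn : n = (2 * m + 1) * (2 * m + 1)) (hW : Cpl π c (Vk (gens M) n) B.T (Vk (gens M) k) W)
    (hs : Sp W zt k) {x y : Fin m × Bool} (h1 : x.2 = true) (h2 : y.2 = true) (p q : Fr.Adm)
    (hk : ∀ j, j < key m (pos x) m → j < key m (pos y) m → j < k) :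
    CM π W (M.Z x p) (M.Z y q) := by
  have l1 := (pos_lt_iff x).2 h1
  have l2 := (pos_lt_iff y).2 h2
  by_cases hxy : x = y
  · subst hxy
    rcases E.zz x p q with h | h
    · exact CM.of_lc_one ce h
    · refine CM.of_lc ce ?_
      rw [h]
      refine hs x h1 (hk _ ?_ ?_) <;> exact key_lt_of_lt (pos_le _) (by omega) l1
  · have hps := ps_of_pos hxy h1 h2
    have hU : ∀ {x : Fin m × Bool} (p : Fr.Adm), x.2 = true → M.Z x p ∈ Vk (gens M) n := by
      intro x p hx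
      rw [hn]; exact mem_Vk (key_lt_bound (pos_le _) (by omega)) (Z_mem_gens M hx p)
    obtain ⟨h, hT, hc1, hc2⟩ := E.zzT x y hps.1
    obtain ⟨q', e, he, hq⟩ := hc2 q
    refine CM.symm ?_
    have hqU : ⁅h, M.Z y q'⁆ ∈ Vk (gens M) n := by
      have : ⁅h, M.Z y q'⁆ = M.Z y q * (M.Z y e)⁻¹ := by rw [hq, mul_inv_cancel_right]
      rw [this]; exact mul_mem (hU _ h2) (inv_mem (hU _ h2))
    rw [hq]
    refine CM.mul_left' hd hW hqU ?_ (CM.symm (CM.of_lc_one ce (E.zcc x y p e (n1 hps.1) he)))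
    refine CM.of_torus hd hW (h := h) (x' := M.Z y q') (v := 1) hT (hU p h1) (hc1 p).eq
        (by rw [mul_one]) (one_mem _) (hU _ h2) (conj_mem hqU (hU _ h2)) ?_
    rw [br_ZZ M B.h2 B.hε hps.1.symm]
    refine mem_Vk (hk _ ?_ ?_) (X_mem_gens M hps.symm _)
    · rw [key_comm]; exact key_lt_of_lt (pos_le _) (by omega) l2
    · exact key_lt_of_lt (pos_le _) (by omega) l1

end Facts

/-- **No perfect double cover.** -/
theorem false_of_facts {M : Model Fr K} {B : UBase M} {L : Type*} [Group L] [Finite L] {π : L →* K} {ce : CE π}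
    {zt : Fin m × Bool → L} (E : Facts B ce zt) {c : L} (hd : Dbl π c) (hm : 2 ≤ m)
    (hidx : ¬ 2 ∣ (Vk (gens M) ((2 * m + 1) * (2 * m + 1))).index) : False := by
  have hfin : Finite K := Finite.of_surjective π hd.surj
  have other : ∀ x : Fin m × Bool, ∃ y : Fin m × Bool, y.1 ≠ x.1 := fun x => by
    have : Nontrivial (Fin m) := Fin.nontrivial_iff_two_le.2 hm
    obtain ⟨k, hk⟩ := exists_ne x.1
    exact ⟨(k, true), hk⟩
  set n := (2 * m + 1) * (2 * m + 1) with hn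
  refine false_of_chain hd (T := B.T) B.odd n (gens M)
    (fun k => {s | ∃ x : Fin m × Bool, x.2 = true ∧ key m (pos x) (pos x) = k ∧ s = zt x}) hidx ?_ ?_ ?_
  · -- the torus
    intro k hk t ht g hg
    obtain ⟨a, a0, htw⟩ := B.tw t ht
    rcases gens_cases M hg with ⟨x, y, s, h1, h2, h3, rfl⟩ | ⟨x, p, h1, h2, rfl⟩ | ⟨x, p, h1, h2, h3, rfl⟩
    · rw [htw.X, ← h3]
      exact mem_Vk (Nat.lt_succ_self _) (X_mem_gens M h1 _)
    · rw [htw.Z, ← h2]
      exact mem_Vk (Nat.lt_succ_self _) (Z_mem_gens M h1 _)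
    · rw [htw.Z, ← h3]
      exact mem_Vk (Nat.lt_succ_self _) (C_mem_gens M h1 _ (by rw [Frame.Adm.smul_w, h2, smul_zero]))
  · -- pairs
    intro k hk W hW hspec g hg l hl g' hg'
    have hs : Facts.Sp W zt k := fun x h1 h2 => hspec _ h2 _ ⟨x, h1, rfl, rfl⟩
    rcases gens_cases M hg with ⟨x, y, s, h1, h2, h3, rfl⟩ | ⟨x, p, h1, h2, rfl⟩ | ⟨x, p, h1, h2, h3, rfl⟩
    · rcases gens_cases M hg' with ⟨x', y', s', h1', h2', h3', rfl⟩ | ⟨x', p', h1', h2', rfl⟩ |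
        ⟨x', p', h1', h2', h3', rfl⟩
      · exact E.cmXX hd hn hW hs h1 h1' (fun j hj _ => by rw [h3] at hj; exact hj) _ _
      · exact E.cmXZ hd hn hW h1 h1' _ _ (Or.inl fun j hj _ => by rw [h3] at hj; exact hj)
      · exact E.cmXZ hd hn hW h1 h1' _ _ (Or.inl fun j hj _ => by rw [h3] at hj; exact hj)
    · rcases gens_cases M hg' with ⟨x', y', s', h1', h2', h3', rfl⟩ | ⟨x', p', h1', h2', rfl⟩ |
        ⟨x', p', h1', h2', h3', rfl⟩
      · exact (E.cmXZ hd hn hW h1' h1 _ _ (Or.inl fun j _ hj => by rw [h2] at hj; exact hj)).symm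
      · exact E.cmZZ hd hn hW hs h1 h1' _ _ (fun j hj _ => by rw [h2] at hj; exact hj)
      · exact CM.of_lc_one ce (E.zcc _ _ _ _ (by
          rintro rfl; simp [neg] at h1; rw [h1'] at h1; exact absurd h1 (by simp)) h2')
    · rcases gens_cases M hg' with ⟨x', y', s', h1', h2', h3', rfl⟩ | ⟨x', p', h1', h2', rfl⟩ |
        ⟨x', p', h1', h2', h3', rfl⟩
      · exact (E.cmXZ hd hn hW h1' h1 _ _ (Or.inr ⟨h2, fun j _ hj => by rw [h3] at hj; exact hj⟩)).symm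
      · exact (CM.of_lc_one ce (E.zcc _ _ _ _ (by
          rintro rfl; simp [neg] at h1'; rw [h1] at h1'; exact absurd h1' (by simp)) h2)).symm
      · exact CM.of_lc_one ce (E.zcc _ _ _ _ (by
          rintro rfl; simp [neg] at h1; rw [h1'] at h1; exact absurd h1 (by simp)) h2')
  · -- kinds
    intro k hk
    by_cases hC : ∃ x : Fin m × Bool, x.2 = true ∧ key m (pos x) (pos x) = k
    · right
      obtain ⟨x, h1, h3⟩ := hC
      have uniq : ∀ x' : Fin m × Bool, x'.2 = true → key m (pos x') (pos x') = k → x' = x := by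
        intro x' h1' h3'
        rcases key_inj (pos_le _) (pos_le _) (pos_le _) (pos_le _) (h3'.trans h3.symm) with ⟨e1, e2⟩ | ⟨e1, e2⟩ <;>
        exact pos_inj e1
      refine ⟨M.Z x B.zc, zt x, ⟨by rw [← h3]; exact C_mem_gens M h1 _ B.zc_w, ?_⟩, E.map_zt x, E.sq_zt x,
        ?_, ?_, fun t ht t' ht' => E.tT x t ht t' ht'⟩
      · intro g hg
        rcases gens_cases M hg with ⟨x', y', s', h1', h2', h3', rfl⟩ | ⟨x', p', h1', h2', rfl⟩ |
          ⟨x', p', h1', h2', h3', rfl⟩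
        · exfalso
          rcases key_inj (pos_le _) (pos_le _) (pos_le _) (pos_le _) (h3'.trans h3.symm) with ⟨e1, e2⟩ | ⟨e1, e2⟩ <;>
          omega
        · exfalso
          rcases key_inj (by omega) (pos_le _) (pos_le _) (pos_le _) (h2'.trans h3.symm) with ⟨e1, e2⟩ | ⟨e1, e2⟩ <;>
          exact pos_ne _ e2.symm
        · have := uniq x' h1' h3'
          subst this
          rcases B.adm_cases h2' with rfl | rfl
          · left; exact Z_one M x'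
          · right; rfl
      · ext s
        constructor
        · rintro ⟨x', h1', h3', rfl⟩
          rw [uniq x' h1' h3']
          rfl
        · rintro rfl
          exact ⟨x, h1, h3, rfl⟩
      · intro h
        rw [← h3] at h
        have := indep_C M h1 B.zc_w h
        rw [B.zc_c] at this
        exact one_ne_zero this
    · left
      refine ⟨?_, ?_⟩
      · ext s
        simp only [Set.mem_ofPred_eq, Set.mem_empty_iff_false, iff_false]
        rintro ⟨x, h1, h3, -⟩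
        exact hC ⟨x, h1, h3⟩
      · intro g hg
        rcases gens_cases M hg with ⟨x, y, s, h1, h2, h3, rfl⟩ | ⟨x, p, h1, h2, rfl⟩ | ⟨x, p, h1, h2, h3, rfl⟩
        · obtain ⟨h, hT, -, h5⟩ := E.xzT x (neg y) h1.1
          rw [TitsThree.WittFrame.neg_neg] at h5
          obtain ⟨s', hs'⟩ := h5 s
          refine ⟨h, hT, M.X x y s', ?_, 1, one_mem _, ?_⟩
          · rw [← h3]; exact mem_Vk (Nat.lt_succ_self _) (X_mem_gens M h1 _)
          · rw [mul_one, ← commutatorElement_def, hs']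
        · obtain ⟨y, hy⟩ := other x
          obtain ⟨h, hT, -, h5⟩ := E.zzT y x hy
          obtain ⟨q, e, he, hq⟩ := h5 p
          refine ⟨h, hT, M.Z x q, ?_, M.Z x e, ?_, ?_⟩
          · rw [← h2]; exact mem_Vk (Nat.lt_succ_self _) (Z_mem_gens M h1 _)
          · rw [← h2]
            refine mem_Vk ?_ (C_mem_gens M h1 e he)
            exact key_lt_of_lt (pos_le _) (by omega) ((pos_lt_iff x).2 h1)
          · rw [← commutatorElement_def, ← hq]
        · exact absurd ⟨x, h1, h3⟩ hC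

end Cfsg.Agent.KFacts.Mult.UnitTwo

end

-- merged: Cfsg.Agent.KFacts.Mult.UnitOdd
section

/-!
# Unitary groups of odd dimension over the field with four elements (helper430)
-/

set_option autoImplicit false
set_option linter.unusedVariables false

namespace Cfsg.Agent.KFacts.Mult.UnitTwo

open Cfsg.Agent.TitsThree.Siegel Cfsg.Agent.TitsThree.WittFrame Cfsg.Agent.TitsThree.WittWeyl
open Cfsg.Agent.TitsThree.FrameCN Cfsg.Agent.KFacts.Mult.ChainZ Cfsg.Agent.KFacts.Mult.WittTwo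
open Cfsg.Agent.KFacts.Mult.Calc Cfsg.Agent.KFacts.MulDef Cfsg.Agent.KFacts.Mult.Chain
open scoped commutatorElement

variable {F : Type*} [Field F] {V : Type*} [AddCommGroup V] [Module F V] {H : HForm F V} {m : ℕ}
  {Fr : Frame H (Fin m)} {K : Type*} [Group K]

theorem TW.mul {M : Model Fr K} {t t' : K} {a a' : Fin m × Bool → F} {a0 a0' : F} (h : TW M t a a0)
    (h' : TW M t' a' a0') : TW M (t * t') (fun x => a x * a' x) (a0 * a0') where
  ne x := mul_ne_zero (h.ne x) (h'.ne x)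
  ne0 := mul_ne_zero h.ne0 h'.ne0
  opp x := by
    rw [map_mul]
    have h1 := h.opp x
    have h2 := h'.opp x
    calc a x * a' x * (H.σ (a (neg x)) * H.σ (a' (neg x))) = (a x * H.σ (a (neg x))) * (a' x * H.σ (a' (neg x))) := by
          ring
      _ = 1 := by rw [h1, h2, one_mul]
  X x y s := by
    have e : t * t' * M.X x y s * (t * t')⁻¹ = t * (t' * M.X x y s * t'⁻¹) * t⁻¹ := by group
    rw [e, h'.X, h.X]
    congr 1
    rw [map_mul]; ring
  Z x p := by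
    have e : t * t' * M.Z x p * (t * t')⁻¹ = t * (t' * M.Z x p * t'⁻¹) * t⁻¹ := by group
    rw [e, h'.Z, h.Z, Frame.Adm.smul_smul]
    congr 2
    rw [map_mul]; ring

/-- The data in odd dimension. -/
structure UOdd {M : Model Fr K} (B : UBase M) where
  d : V
  hd : H.h d d = 1
  span : ∀ w ∈ Fr.V0, ∃ a : F, w = a • d
  ex : ∀ a : F, ∃ p : Fr.Adm, p.w = a • d
  gZ : ∀ i : Fin m, ∃ t ∈ B.T, TW M t (fun y => if y.1 = i then B.ζ + 1 else 1) (B.ζ + 1)

namespace UOdd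

variable {M : Model Fr K} {B : UBase M} (D : UOdd B)

include D

theorem h_smul (a b : F) : H.h (a • D.d) (b • D.d) = a * H.σ b := by
  rw [H.smul_left, H.smul_right, D.hd, mul_one]

theorem exists_ZZ {x y : Fin m × Bool} (hxy : x.1 ≠ y.1) (s : F) : ∃ p q, ⁅M.Z x p, M.Z y q⁆ = M.X x y s := by
  obtain ⟨p, hp⟩ := D.ex (H.σ s)
  obtain ⟨q, hq⟩ := D.ex 1
  refine ⟨p, q, ?_⟩
  rw [br_ZZ M B.h2 B.hε hxy, hp, hq, D.h_smul, map_one, mul_one, H.σσ]

omit D in
include B in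
theorem adm_comm (p q : Fr.Adm) : p * q = Frame.Adm.tr (H.h p.w q.w) * (q * p) := by
  apply Frame.Adm.ext
  · simp only [Frame.Adm.mul_w, Frame.Adm.tr_w]; abel
  · simp only [Frame.Adm.mul_c, Frame.Adm.tr_w, Frame.Adm.mul_w, Frame.Adm.tr_c, H.zero_right, B.hε, inv_one, one_mul,
      H.swap p.w q.w]
    ring

omit D in
include B in
theorem brZZ_same (x : Fin m × Bool) (p q : Fr.Adm) : ⁅M.Z x p, M.Z x q⁆ = M.Z x (Frame.Adm.tr (H.h p.w q.w)) := by
  rw [commutatorElement_def, mul_inv_eq_iff_eq_mul, mul_inv_eq_iff_eq_mul, ← Z_mul, ← Z_mul, ← Z_mul]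
  congr 1
  rw [mul_assoc]
  exact adm_comm (B := B) p q

omit D in
include B in
theorem commute_C {x y : Fin m × Bool} (hxy : x ≠ neg y) (p : Fr.Adm) {e : Fr.Adm} (he : e.w = 0) :
    Commute (M.Z x p) (M.Z y e) := by
  by_cases h : x = y
  · subst h
    rw [← commutatorElement_eq_one_iff_commute, brZZ_same (B := B), he, H.zero_right]
    have : (Frame.Adm.tr 0 : Fr.Adm) = 1 := by
      apply Frame.Adm.ext
      · rfl
      · rw [Frame.Adm.tr_c]; simp
    rw [this, Z_one]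
  · rw [← commutatorElement_eq_one_iff_commute, br_ZZ M B.h2 B.hε (fst_ne h hxy), he, H.zero_right, map_zero, X_zero]

section CE

variable {L : Type*} [Group L] {π : L →* K} (ce : CE π)

theorem xx {x y z w : Fin m × Bool} (hzw : z.1 ≠ w.1) (h1 : z ≠ neg x) (h2 : z ≠ neg y) (h3 : w ≠ neg x)
    (h4 : w ≠ neg y) (s t : F) : ce.lc (M.X x y s) (M.X z w t) = 1 := by
  obtain ⟨p, q, e⟩ := D.exists_ZZ hzw t
  rw [← e]
  have e : ∀ {a b : Fin m × Bool}, a ≠ neg b → b ≠ neg a := by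
    rintro a b h rfl
    exact h (TitsThree.WittFrame.neg_neg a).symm
  exact ce.lc_comm_eq_one (M.commute_ZX (e h1) (e h2) _ s).symm (M.commute_ZX (e h3) (e h4) _ s).symm

/-- weights of the elements of the torus -/
theorem exists_fixZ (i : Fin m) : ∃ t ∈ B.T, TW M t (fun y => if y.1 = i then B.ζ + 1 else 1) (B.ζ + 1) ∧
    ∀ (x : Fin m × Bool), x.1 = i → ∀ p, Commute t (M.Z x p) := by
  obtain ⟨t, ht, hw⟩ := D.gZ i
  refine ⟨t, ht, hw, fun x hx p => B.fixZ hw ?_ p⟩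
  simp only [hx, if_true, B.σu, B.ζu]

theorem exists_moveZ (i : Fin m) : ∃ t ∈ B.T, TW M t (fun y => if y.1 = i then B.ζ + 1 else 1) (B.ζ + 1) ∧
    ∀ (x : Fin m × Bool), x.1 ≠ i → ∀ p, ∃ q e : Fr.Adm, e.w = 0 ∧ M.Z x p = ⁅t, M.Z x q⁆ * M.Z x e := by
  obtain ⟨t, ht, hw⟩ := D.gZ i
  refine ⟨t, ht, hw, fun x hx p => B.moveZ hw ?_ p⟩
  simp only [hx, if_false, map_one, one_mul]
  exact B.u_ne_one

theorem xz {x y z : Fin m × Bool} (hxy : x.1 ≠ y.1) (h1 : x ≠ neg z) (h2 : y ≠ neg z) (s : F) (p : Fr.Adm) :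
    ce.lc (M.X x y s) (M.Z z p) = 1 := by
  have key : ∃ t, Commute t (M.Z z p) ∧ ∃ s', ⁅t, M.X x y s'⁆ = M.X x y s := by
    by_cases h3 : z.1 = x.1
    · obtain ⟨t, ht, hw⟩ := D.gZ x.1
      refine ⟨t, B.fixZ hw ?_ p, B.moveX hw ?_ s⟩
      · simp only [h3, if_true, B.σu, B.ζu]
      · simp only [if_true, if_neg hxy.symm, map_one, mul_one]
        exact B.u_ne_one
    by_cases h4 : z.1 = y.1
    · obtain ⟨t, ht, hw⟩ := D.gZ y.1
      refine ⟨t, B.fixZ hw ?_ p, B.moveX hw ?_ s⟩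
      · simp only [h4, if_true, B.σu, B.ζu]
      · simp only [if_true, if_neg hxy, B.σu, one_mul]
        exact B.ζ_ne_one
    · obtain ⟨t, ht, hw⟩ := D.gZ x.1
      obtain ⟨r, hr, hv⟩ := D.gZ y.1
      have hw' := hw.mul (hv.mul hv)
      refine ⟨_, B.fixZ hw' ?_ p, B.moveX hw' ?_ s⟩
      · simp only [if_neg h3, if_neg h4, mul_one, map_one, one_mul, B.uu, B.uζ]
      · simp only [if_true, if_neg hxy, if_neg hxy.symm, mul_one, one_mul, B.uu, B.σζ]
        exact B.ζ_ne_one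
  obtain ⟨t, hc, s', hs⟩ := key
  rw [← hs, ce.lc_swap, ce.lc_comm_eq_one hc.symm (M.commute_ZX h1 h2 p s'), inv_one]

theorem xz' {x y z : Fin m × Bool} (hxy : x.1 ≠ y.1) (h1 : x ≠ neg z) (h2 : y ≠ neg z) (s : F) (p : Fr.Adm) :
    ce.lc (M.Z z p) (M.X x y s) = 1 := by
  rw [ce.lc_swap, D.xz ce hxy h1 h2, inv_one]

theorem zc_eq (x : Fin m × Bool) : ∃ p q, ⁅M.Z x p, M.Z x q⁆ = M.Z x B.zc := by
  obtain ⟨p, hp⟩ := D.ex 1
  obtain ⟨q, hq⟩ := D.ex (B.ζ + 1)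
  refine ⟨p, q, ?_⟩
  rw [brZZ_same (B := B), hp, hq, D.h_smul, B.σu, one_mul]
  rfl

variable (hm : 2 ≤ m)

include hm in
omit D in
theorem exists_other (i : Fin m) : ∃ k, i ≠ k := by
  have : Nontrivial (Fin m) := Fin.nontrivial_iff_two_le.2 hm
  obtain ⟨k, hk⟩ := exists_ne i
  exact ⟨k, hk.symm⟩

include hm in
theorem zcc {x y : Fin m × Bool} (hxy : x ≠ neg y) (p : Fr.Adm) {e : Fr.Adm} (he : e.w = 0) :
    ce.lc (M.Z x p) (M.Z y e) = 1 := by
  -- both central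
  have h0 : ∀ e' : Fr.Adm, e'.w = 0 → ce.lc (M.Z x e') (M.Z y e) = 1 := by
    intro e' he'
    rcases B.adm_cases he' with rfl | rfl
    · rw [Z_one, ce.lc_one_left]
    obtain ⟨r, q, h⟩ := D.zc_eq x
    rw [← h, ce.lc_swap, ce.lc_comm_eq_one (commute_C (B := B) hxy r he).symm (commute_C (B := B) hxy q he).symm,
      inv_one]
  obtain ⟨k, hk⟩ := exists_other hm x.1
  obtain ⟨t, ht, hw, hmv⟩ := D.exists_moveZ k
  obtain ⟨q, e', he', hq⟩ := hmv x hk p
  rw [hq, ce.lc_mul_left (commute_C (B := B) hxy e' he), h0 e' he', mul_one, ce.lc_swap,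
    ce.lc_comm_eq_one (B.fixC hw y he).symm (commute_C (B := B) hxy q he).symm, inv_one]

include hm

theorem zcc' {x y : Fin m × Bool} (hxy : x ≠ neg y) (p : Fr.Adm) {e : Fr.Adm} (he : e.w = 0) :
    ce.lc (M.Z y e) (M.Z x p) = 1 := by
  rw [ce.lc_swap, D.zcc ce hm hxy p he, inv_one]

theorem ind {x : Fin m × Bool} {p p' q q' : Fr.Adm} (h1 : p.w = p'.w) (h2 : q.w = q'.w) :
    ce.lc (M.Z x p) (M.Z x q) = ce.lc (M.Z x p') (M.Z x q') := by
  have hx := ne_neg_self x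
  obtain ⟨e, e1, rfl⟩ : ∃ e : Fr.Adm, e.w = 0 ∧ p = p' * e :=
    ⟨p'⁻¹ * p, by rw [Frame.Adm.mul_w, Frame.Adm.inv_w, h1, neg_add_cancel], by group⟩
  obtain ⟨f, e2, rfl⟩ : ∃ e : Fr.Adm, e.w = 0 ∧ q = q' * e :=
    ⟨q'⁻¹ * q, by rw [Frame.Adm.mul_w, Frame.Adm.inv_w, h2, neg_add_cancel], by group⟩
  rw [Z_mul M x p' e, ce.lc_mul_left (commute_C (B := B) hx _ e1).symm, D.zcc' ce hm hx _ e1, mul_one, Z_mul,
    ce.lc_mul_right (commute_C (B := B) hx _ e2), D.zcc ce hm hx _ e2, mul_one]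

theorem mulL {x : Fin m × Bool} (p p' q : Fr.Adm) :
    ce.lc (M.Z x (p * p')) (M.Z x q) = ce.lc (M.Z x p') (M.Z x q) * ce.lc (M.Z x p) (M.Z x q) := by
  rw [Z_mul, ce.lc_mul_left', brZZ_same (B := B), D.zcc ce hm (ne_neg_self x) _ (Frame.Adm.tr_w _), one_mul]

theorem mulR {x : Fin m × Bool} (p q q' : Fr.Adm) :
    ce.lc (M.Z x p) (M.Z x (q * q')) = ce.lc (M.Z x p) (M.Z x q) * ce.lc (M.Z x p) (M.Z x q') := by
  rw [Z_mul, ce.lc_mul_right', brZZ_same (B := B), D.zcc ce hm (ne_neg_self x) _ (Frame.Adm.tr_w _), mul_one]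

/-- chosen admissible pairs -/
noncomputable def P1 : Fr.Adm := (D.ex 1).choose
noncomputable def Pz : Fr.Adm := (D.ex B.ζ).choose

omit hm in
theorem P1_w : D.P1.w = (1 : F) • D.d := (D.ex 1).choose_spec
omit hm in
theorem Pz_w : D.Pz.w = B.ζ • D.d := (D.ex B.ζ).choose_spec

/-- the lift of the central element `Z_x(0, 1)` -/
noncomputable def zt (x : Fin m × Bool) : L := ce.lc (M.Z x D.P1) (M.Z x D.Pz)

omit hm in
theorem map_zt (x : Fin m × Bool) : π (D.zt ce x) = M.Z x B.zc := by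
  rw [zt, ce.map_lc, brZZ_same (B := B), D.P1_w, D.Pz_w, D.h_smul, B.σζ, one_mul]
  congr 1
  refine (B.tr_cases _).resolve_left fun h => ?_
  have := congrArg Frame.Adm.c h
  rw [B.tr_c, B.σu] at this
  have h3 : B.ζ + 1 + B.ζ = 1 := by linear_combination B.dbl B.ζ
  rw [h3] at this
  exact one_ne_zero this

theorem sq_zt (x : Fin m × Bool) : D.zt ce x * D.zt ce x = 1 := by
  have h1 := D.mulL ce hm (x := x) D.P1 D.P1 D.Pz
  have h2 : (D.P1 * D.P1).w = (1 : Fr.Adm).w := by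
    rw [Frame.Adm.mul_w, ← two_smul F, B.h2, zero_smul]; rfl
  rw [D.ind ce hm h2 rfl, Z_one, ce.lc_one_left] at h1
  exact h1.symm

theorem zz (x : Fin m × Bool) (p q : Fr.Adm) :
    ce.lc (M.Z x p) (M.Z x q) = 1 ∨ ce.lc (M.Z x p) (M.Z x q) = D.zt ce x := by
  have rep : ∀ p : Fr.Adm, p.w = (1 : Fr.Adm).w ∨ p.w = D.P1.w ∨ p.w = D.Pz.w ∨ p.w = (D.P1 * D.Pz).w := by
    intro p
    obtain ⟨a, ha⟩ := D.span p.w (Fr.ok_mem p.ok)
    rw [ha, Frame.Adm.mul_w, D.P1_w, D.Pz_w, ← add_smul, add_comm (1 : F)]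
    rcases B.hF a with h | h | h | h
    · left; rw [h, zero_smul]; rfl
    · right; left; rw [h]
    · right; right; left; rw [h]
    · right; right; right; rw [h]
  have e1 : ce.lc (M.Z x D.P1) (M.Z x D.Pz) = D.zt ce x := rfl
  have e4 := D.sq_zt ce hm x
  have e2 : ce.lc (M.Z x D.Pz) (M.Z x D.P1) = D.zt ce x := by
    rw [ce.lc_swap, e1]
    exact inv_eq_of_mul_eq_one_left e4
  have aux : ∀ p q : Fr.Adm, (p = 1 ∨ p = D.P1 ∨ p = D.Pz ∨ p = D.P1 * D.Pz) →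
      (q = 1 ∨ q = D.P1 ∨ q = D.Pz ∨ q = D.P1 * D.Pz) →
      ce.lc (M.Z x p) (M.Z x q) = 1 ∨ ce.lc (M.Z x p) (M.Z x q) = D.zt ce x := by
    rintro p q (rfl | rfl | rfl | rfl) (rfl | rfl | rfl | rfl) <;>
    simp only [Z_one, CE.lc_one_left, CE.lc_one_right, e1, e2, CE.lc_self, D.mulL ce hm, D.mulR ce hm, e4, mul_one,
      one_mul, true_or, or_true]
  obtain ⟨p', hp', hp⟩ : ∃ p', (p' = 1 ∨ p' = D.P1 ∨ p' = D.Pz ∨ p' = D.P1 * D.Pz) ∧ p.w = p'.w := by
    rcases rep p with h | h | h | h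
    · exact ⟨_, Or.inl rfl, h⟩
    · exact ⟨_, Or.inr (Or.inl rfl), h⟩
    · exact ⟨_, Or.inr (Or.inr (Or.inl rfl)), h⟩
    · exact ⟨_, Or.inr (Or.inr (Or.inr rfl)), h⟩
  obtain ⟨q', hq', hq⟩ : ∃ p', (p' = 1 ∨ p' = D.P1 ∨ p' = D.Pz ∨ p' = D.P1 * D.Pz) ∧ q.w = p'.w := by
    rcases rep q with h | h | h | h
    · exact ⟨_, Or.inl rfl, h⟩
    · exact ⟨_, Or.inr (Or.inl rfl), h⟩
    · exact ⟨_, Or.inr (Or.inr (Or.inl rfl)), h⟩
    · exact ⟨_, Or.inr (Or.inr (Or.inr rfl)), h⟩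
  rw [D.ind ce hm hp hq]
  exact aux p' q' hp' hq'

theorem xxD {x y : Fin m × Bool} (hxy : x.1 ≠ y.1) (s t : F) :
    ce.lc (M.X x y s) (M.X x (neg y) t) = 1 ∨ ce.lc (M.X x y s) (M.X x (neg y) t) = D.zt ce x := by
  obtain ⟨p, q, e⟩ := D.exists_ZZ hxy s
  have n1 : ∀ {a b : Fin m × Bool}, a.1 ≠ b.1 → a ≠ neg b := by
    rintro a b h rfl; exact h rfl
  have hx := ne_neg_self x
  have h1 := ce.hw (c := M.X x (neg y) t) (a := M.Z x p) (b := M.Z y q)
    (M.commute_ZX hx (n1 (a := neg y) hxy.symm) p t).symm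
  rw [e, br_XZ M B.h2 B.hε hxy] at h1
  have c1 : Commute (M.Z x p) (M.X x y (H.σ q.c * t)) := M.commute_ZX hx (n1 hxy.symm) _ _
  have c2 : Commute (M.X x y (H.σ q.c * t)) (M.X x y s) :=
    M.commute_XX hx (n1 hxy) (n1 hxy.symm) (ne_neg_self y) _ _
  rw [ce.lc_mul_right c1, D.xz' ce hxy hx (n1 hxy.symm), mul_one, ce.lc_mul_left c2,
    D.xz' ce hxy hx (n1 hxy.symm), one_mul, D.xx ce hxy hx (n1 hxy) (n1 hxy.symm) (ne_neg_self y), mul_one] at h1
  rw [ce.lc_swap, h1]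
  rcases D.zz ce hm x p (Frame.Adm.smul (H.σ t) q) with h | h
  · left; rw [h, inv_one]
  · right; rw [h]; exact inv_eq_of_mul_eq_one_left (D.sq_zt ce hm x)

theorem tT (x : Fin m × Bool) (t : K) (ht : t ∈ B.T) (t' : L) (h : π t' = t) :
    t' * D.zt ce x * t'⁻¹ = D.zt ce x := by
  obtain ⟨a, a0, hw⟩ := B.tw t ht
  have h1 := ce.conj_lc t' (M.Z x D.P1) (M.Z x D.Pz)
  rw [h, hw.Z, hw.Z] at h1
  change t' * D.zt ce x * t'⁻¹ = _ at h1
  rcases D.zz ce hm x (Frame.Adm.smul (H.σ (a x) * a0) D.P1) (Frame.Adm.smul (H.σ (a x) * a0) D.Pz) with h3 | h3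
  · rw [h3] at h1
    have : D.zt ce x = 1 := by
      have h4 : D.zt ce x = t'⁻¹ * (t' * D.zt ce x * t'⁻¹) * t' := by group
      rw [h4, h1]; group
    rw [this]; group
  · rw [h1, h3]

/-- **The facts.** -/
theorem facts : Facts B ce (D.zt ce) where
  map_zt := D.map_zt ce
  sq_zt := D.sq_zt ce hm
  tT := fun x t ht t' h => D.tT ce hm x t ht t' h
  xx := fun x y z w _ hzw h1 h2 h3 h4 s t => D.xx ce hzw h1 h2 h3 h4 s t
  xxD := fun x y hxy s t => D.xxD ce hm hxy s t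
  xz := fun x y z hxy h1 h2 s p => D.xz ce hxy h1 h2 s p
  xxT := by
    intro x y z hxy hyz hxz
    obtain ⟨t, ht, hw⟩ := D.gZ x.1
    refine ⟨t, ht, fun s => B.fixX hw ?_ s, fun s => B.moveX hw ?_ s⟩
    · have : (neg y).1 ≠ x.1 := hxy.symm
      simp only [if_neg this, if_neg hxz.symm, map_one, mul_one]
    · simp only [if_true, if_neg hxy.symm, map_one, mul_one]
      exact B.u_ne_one
  xzT := by
    intro x z hxz
    obtain ⟨t, ht, hw⟩ := D.gZ z.1
    refine ⟨t, ht, fun s => B.fixZ hw ?_ s, fun s => B.moveX hw ?_ s⟩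
    · simp only [if_true, B.σu, B.ζu]
    · have : (neg z).1 = z.1 := rfl
      simp only [this, if_true, if_neg hxz, B.σu, one_mul]
      exact B.ζ_ne_one
  zzT := by
    intro x y hxy
    obtain ⟨t, ht, hw⟩ := D.gZ x.1
    refine ⟨t, ht, fun s => B.fixZ hw ?_ s, fun s => B.moveZ hw ?_ s⟩
    · simp only [if_true, B.σu, B.ζu]
    · simp only [if_neg hxy.symm, map_one, one_mul]
      exact B.u_ne_one
  zcc := fun x y p e h he => D.zcc ce hm h p he
  zz := D.zz ce hm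

end CE

/-- **No perfect double cover, odd dimension.** -/
theorem noDouble (hm : 2 ≤ m) (hidx : ¬ 2 ∣ (Vk (gens M) ((2 * m + 1) * (2 * m + 1))).index) : NoDouble K := by
  intro L _ _ π c hd
  have ce : CE π := CE.of_ker hd.surj hd.cen fun x hx => (hd.ker x).1 hx
  exact false_of_facts (D.facts ce hm) hd hm hidx

end UOdd

end Cfsg.Agent.KFacts.Mult.UnitTwo

end

-- merged: Cfsg.Agent.KFacts.Mult.UnitEven
section

/-!
# Unitary groups of even dimension `≥ 8` over the field with four elements (helper430)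
-/

set_option autoImplicit false
set_option linter.unusedVariables false

namespace Cfsg.Agent.KFacts.Mult.UnitTwo

open Cfsg.Agent.TitsThree.Siegel Cfsg.Agent.TitsThree.WittFrame Cfsg.Agent.TitsThree.WittWeyl
open Cfsg.Agent.TitsThree.FrameCN Cfsg.Agent.KFacts.Mult.ChainZ Cfsg.Agent.KFacts.Mult.WittTwo
open Cfsg.Agent.KFacts.Mult.Calc Cfsg.Agent.KFacts.MulDef Cfsg.Agent.KFacts.Mult.Chain
open scoped commutatorElement

variable {F : Type*} [Field F] {V : Type*} [AddCommGroup V] [Module F V] {H : HForm F V} {m : ℕ}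
  {Fr : Frame H (Fin m)} {K : Type*} [Group K]

/-- The data in even dimension. -/
structure UEven {M : Model Fr K} (B : UBase M) where
  w0 : ∀ p : Fr.Adm, p.w = 0
  hX : ∀ i j : Fin m, i ≠ j → ∃ t ∈ B.T, TW M t (fun z => if z.1 = i then B.ζ else if z.1 = j then B.ζ + 1 else 1) 1

namespace UEven

variable {M : Model Fr K} {B : UBase M} (D : UEven B)

theorem exists_fourth (hm : 4 ≤ m) (i j l : Fin m) : ∃ k, k ≠ i ∧ k ≠ j ∧ k ≠ l := by
  classical
  obtain ⟨k, hk⟩ : ∃ k, k ∉ ({i, j, l} : Finset (Fin m)) := by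
    by_contra hcon
    push Not at hcon
    have h1 : (Finset.univ : Finset (Fin m)) ⊆ {i, j, l} := fun k _ => hcon k
    have h2 := Finset.card_le_card h1
    rw [Finset.card_univ, Fintype.card_fin] at h2
    have h3 := Finset.card_le_three (a := i) (b := j) (c := l)
    omega
  simp only [Finset.mem_insert, Finset.mem_singleton, not_or] at hk
  exact ⟨k, hk⟩

include D

section CE

variable {L : Type*} [Group L] {π : L →* K} (ce : CE π)

omit D in
theorem n1 {a b : Fin m × Bool} (h : a.1 ≠ b.1) : a ≠ neg b := by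
  rintro rfl; exact h rfl

theorem xz {x y z : Fin m × Bool} (hxy : x.1 ≠ y.1) (h1 : x ≠ neg z) (h2 : y ≠ neg z) (s : F) (p : Fr.Adm) :
    ce.lc (M.X x y s) (M.Z z p) = 1 := by
  obtain ⟨t, ht, hw⟩ := D.hX x.1 y.1 hxy
  obtain ⟨s', hs⟩ := B.moveX hw (x := x) (y := y) (by
    simp only [if_true, if_neg hxy.symm, B.σu, B.hζ]
    exact B.u_ne_one) s
  rw [← hs, ce.lc_swap, ce.lc_comm_eq_one (B.fixC hw z (D.w0 p)).symm (M.commute_ZX h1 h2 p s'), inv_one]

theorem xz' {x y z : Fin m × Bool} (hxy : x.1 ≠ y.1) (h1 : x ≠ neg z) (h2 : y ≠ neg z) (s : F) (p : Fr.Adm) :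
    ce.lc (M.Z z p) (M.X x y s) = 1 := by
  rw [ce.lc_swap, D.xz ce hxy h1 h2, inv_one]

variable (hm : 4 ≤ m)

include hm

/-- the same root group -/
theorem xx0 {x y : Fin m × Bool} (hxy : x.1 ≠ y.1) (s t : F) : ce.lc (M.X x y s) (M.X x y t) = 1 := by
  obtain ⟨k, h1, h2, -⟩ := exists_fourth hm x.1 y.1 y.1
  set z : Fin m × Bool := (k, true)
  have hxz : x.1 ≠ z.1 := h1.symm
  have hzy : z.1 ≠ y.1 := h2
  have e := br_XX M hxz hzy hxy t 1
  rw [mul_one] at e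
  rw [← e]
  exact ce.lc_comm_eq_one
    (M.commute_XX (ne_neg_self x) (n1 hxy) (n1 hxz.symm) (n1 hzy) _ _)
    (M.commute_XX (n1 (a := neg z) hxz.symm) (n1 (a := neg z) hzy) (n1 hxy.symm) (ne_neg_self y) _ _)

/-- one common index -/
theorem xx1 {x y w : Fin m × Bool} (hxy : x.1 ≠ y.1) (hxw : x.1 ≠ w.1) (hyw : y.1 ≠ w.1) (s t : F) :
    ce.lc (M.X x y s) (M.X x w t) = 1 := by
  obtain ⟨k, h1, h2, h3⟩ := exists_fourth hm x.1 y.1 w.1
  obtain ⟨r, hr, hw⟩ := D.hX w.1 k h3.symm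
  obtain ⟨t', ht⟩ := B.moveX hw (x := x) (y := w) (by
    simp only [if_true, if_neg hxw, if_neg h1.symm, B.σζ, one_mul]
    exact B.u_ne_one) t
  rw [← ht]
  refine ce.lc_comm_eq_one (B.fixX hw ?_ s).symm
    (M.commute_XX (ne_neg_self x) (n1 hxy) (n1 hxw.symm) (n1 hyw.symm) _ _)
  simp only [if_neg hxw, if_neg h1.symm, if_neg hyw, if_neg h2.symm, map_one, mul_one]

/-- no common index -/
theorem xx2 {x y z w : Fin m × Bool} (hxz : x.1 ≠ z.1) (hxw : x.1 ≠ w.1) (hyz : y.1 ≠ z.1)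
    (hyw : y.1 ≠ w.1) (hzw : z.1 ≠ w.1) (s t : F) :
    ce.lc (M.X x y s) (M.X z w t) = 1 := by
  obtain ⟨r, hr, hw⟩ := D.hX z.1 w.1 hzw
  obtain ⟨t', ht⟩ := B.moveX hw (x := z) (y := w) (by
    simp only [if_true, if_neg hzw.symm, B.σu, B.hζ]
    exact B.u_ne_one) t
  rw [← ht]
  refine ce.lc_comm_eq_one (B.fixX hw ?_ s).symm
    (M.commute_XX (n1 hxz.symm) (n1 hyz.symm) (n1 hxw.symm) (n1 hyw.symm) _ _)
  simp only [if_neg hxz, if_neg hxw, if_neg hyz, if_neg hyw, map_one, mul_one]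

omit D hm in
theorem eq_of_fst {x y : Fin m × Bool} (h : x.1 = y.1) (h' : x ≠ neg y) : x = y := by
  by_contra hne
  exact fst_ne hne h' h

theorem xx {x y z w : Fin m × Bool} (hxy : x.1 ≠ y.1) (hzw : z.1 ≠ w.1) (h1 : z ≠ neg x) (h2 : z ≠ neg y)
    (h3 : w ≠ neg x) (h4 : w ≠ neg y) (s t : F) : ce.lc (M.X x y s) (M.X z w t) = 1 := by
  -- `z = x`
  have main : ∀ {x y z w : Fin m × Bool}, x.1 ≠ y.1 → z.1 ≠ w.1 → z ≠ neg x → w ≠ neg y → z.1 = x.1 →
      ∀ s t, ce.lc (M.X x y s) (M.X z w t) = 1 := by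
    intro x y z w hxy hzw h1 h4 e s t
    have := eq_of_fst e h1
    subst this
    by_cases f : w.1 = y.1
    · have := eq_of_fst f h4
      subst this
      exact D.xx0 ce hm hxy s t
    · exact D.xx1 ce hm hxy hzw (Ne.symm f) s t
  have sw : ∀ {x y : Fin m × Bool} (h : x.1 ≠ y.1) (s : F), M.X x y s = M.X y x (H.σ s) :=
    fun h s => X_swap M B.h2 B.hε h s
  by_cases e1 : z.1 = x.1
  · exact main hxy hzw h1 h4 e1 s t
  by_cases e2 : z.1 = y.1
  · rw [sw hxy]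
    exact main hxy.symm hzw h2 h3 e2 _ _
  by_cases e3 : w.1 = x.1
  · rw [sw hzw]
    exact main hxy hzw.symm h3 h2 e3 _ _
  by_cases e4 : w.1 = y.1
  · rw [sw hxy, sw hzw]
    exact main hxy.symm hzw.symm h4 h1 e4 _ _
  exact D.xx2 ce hm (Ne.symm e1) (Ne.symm e3) (Ne.symm e2) (Ne.symm e4) hzw s t

/-! ### The pairs `X_{x,y}`, `X_{x,-y}` -/

omit hm in
theorem addL {x y : Fin m × Bool} (hxy : x.1 ≠ y.1) (s s' t : F) :
    ce.lc (M.X x y (s + s')) (M.X x (neg y) t) =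
      ce.lc (M.X x y s') (M.X x (neg y) t) * ce.lc (M.X x y s) (M.X x (neg y) t) := by
  rw [X_add, ce.lc_mul_left', br_same M B.hε hxy, D.xz ce hxy (ne_neg_self x) (n1 hxy.symm), one_mul]

omit hm in
theorem addR {x y : Fin m × Bool} (hxy : x.1 ≠ y.1) (s t t' : F) :
    ce.lc (M.X x y s) (M.X x (neg y) (t + t')) =
      ce.lc (M.X x y s) (M.X x (neg y) t) * ce.lc (M.X x y s) (M.X x (neg y) t') := by
  rw [X_add, ce.lc_mul_right', br_same M B.hε hxy,
    D.xz ce (y := neg y) hxy (ne_neg_self x) (n1 (a := neg y) hxy.symm), mul_one]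

omit hm in
theorem sq {x y : Fin m × Bool} (hxy : x.1 ≠ y.1) (s t : F) :
    ce.lc (M.X x y s) (M.X x (neg y) t) * ce.lc (M.X x y s) (M.X x (neg y) t) = 1 := by
  rw [← D.addL ce hxy, B.dbl, X_zero, ce.lc_one_left]

theorem e1 {x y z : Fin m × Bool} (hxy : x.1 ≠ y.1) (hxz : x.1 ≠ z.1) (hyz : y.1 ≠ z.1) (s t u : F) :
    ce.lc (M.X x y s) (M.X x (neg y) (t * u)) = ce.lc (M.X x z t) (M.X x (neg z) (s * H.σ u)) := by
  have h1 := ce.hw (c := M.X x y s) (a := M.X x z t) (b := M.X (neg z) (neg y) u)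
    (M.commute_XX (ne_neg_self x) (n1 hxy) (n1 hxz.symm) (n1 hyz.symm) _ _)
  have b1 : ⁅M.X x z t, M.X (neg z) (neg y) u⁆ = M.X x (neg y) (t * u) :=
    br_XX M (x := x) (y := z) (z := neg y) hxz hyz.symm hxy t u
  have b2 : ⁅M.X x y s, M.X (neg z) (neg y) u⁆ = M.X x (neg z) (s * H.σ u) := by
    rw [X_swap M B.h2 B.hε (x := neg z) (y := neg y) hyz.symm]
    exact br_XX M (x := x) (y := y) (z := neg z) hxy hyz hxz s (H.σ u)
  rw [b1, b2, D.xx ce hm (x := x) (y := neg z) (z := x) (w := neg y) hxz hxy (ne_neg_self x)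
    (n1 (b := neg z) hxz) (n1 (a := neg y) hxy.symm) (n1 (a := neg y) (b := neg z) hyz), mul_one] at h1
  exact h1

theorem swapD {x y : Fin m × Bool} (hxy : x.1 ≠ y.1) (s t : F) :
    ce.lc (M.X x (neg y) t) (M.X x (neg (neg y)) s) = ce.lc (M.X x y s) (M.X x (neg y) t) := by
  rw [TitsThree.WittFrame.neg_neg, ce.lc_swap]
  exact inv_eq_of_mul_eq_one_left (D.sq ce hxy s t)

/-- `Δ_z(σ u) = Δ_z(u)` -/
theorem dσ {x z : Fin m × Bool} (hxz : x.1 ≠ z.1) (u : F) :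
    ce.lc (M.X x z 1) (M.X x (neg z) (H.σ u)) = ce.lc (M.X x z 1) (M.X x (neg z) u) := by
  obtain ⟨k, h1, h2, -⟩ := exists_fourth hm x.1 z.1 z.1
  set y : Fin m × Bool := (k, true)
  have hxy : x.1 ≠ y.1 := h1.symm
  have hyz : y.1 ≠ z.1 := h2
  -- `Δ_{-y}(u) = Δ_z(σ u)`
  have a1 := D.e1 ce hm (x := x) (y := neg y) (z := z) hxy hxz hyz 1 1 u
  rw [one_mul, one_mul] at a1
  -- `Δ_{-y}(u) = D_{x,y}(u,1) = D_{x,z}(1,u)`
  have a2 := D.swapD ce hm hxy u 1
  rw [a2] at a1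
  have a3 := D.e1 ce hm hxy hxz hyz u 1 1
  rw [mul_one, map_one, mul_one] at a3
  rw [← a1, a3]

theorem dzy {x y z : Fin m × Bool} (hxy : x.1 ≠ y.1) (hxz : x.1 ≠ z.1) (hyz : y.1 ≠ z.1) (u : F) :
    ce.lc (M.X x y 1) (M.X x (neg y) u) = ce.lc (M.X x z 1) (M.X x (neg z) u) := by
  have a1 := D.e1 ce hm hxy hxz hyz 1 1 u
  rw [one_mul, one_mul, D.dσ ce hm hxz] at a1
  exact a1

theorem d1 {x z : Fin m × Bool} (hxz : x.1 ≠ z.1) : ce.lc (M.X x z 1) (M.X x (neg z) 1) = 1 := by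
  have h1 := D.addR ce hxz 1 B.ζ (H.σ B.ζ)
  rw [D.dσ ce hm hxz, D.sq ce hxz, B.σζ, ← add_assoc, B.dbl, zero_add] at h1
  exact h1

theorem dcases {x z : Fin m × Bool} (hxz : x.1 ≠ z.1) (u : F) :
    ce.lc (M.X x z 1) (M.X x (neg z) u) = 1 ∨
      ce.lc (M.X x z 1) (M.X x (neg z) u) = ce.lc (M.X x z 1) (M.X x (neg z) B.ζ) := by
  rcases B.hF u with h | h | h | h
  · left; rw [h, X_zero, ce.lc_one_right]
  · left; rw [h]; exact D.d1 ce hm hxz
  · right; rw [h]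
  · right
    rw [h, ← B.σζ, D.dσ ce hm hxz]

/-- another index -/
noncomputable def oth (x : Fin m × Bool) : Fin m × Bool :=
  ((exists_fourth hm x.1 x.1 x.1).choose, true)

omit D in
theorem oth_ne (x : Fin m × Bool) : x.1 ≠ (oth hm x).1 := (exists_fourth hm x.1 x.1 x.1).choose_spec.1.symm

/-- the lift of the central element -/
noncomputable def zt (_ : UEven B) (ce : CE π) (hm : 4 ≤ m) (x : Fin m × Bool) : L :=
  ce.lc (M.X x (oth hm x) 1) (M.X x (neg (oth hm x)) B.ζ)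

theorem zt_eq {x z : Fin m × Bool} (hxz : x.1 ≠ z.1) :
    ce.lc (M.X x z 1) (M.X x (neg z) B.ζ) = D.zt ce hm x := by
  obtain ⟨k, h1, h2, h3⟩ := exists_fourth hm x.1 z.1 (oth hm x).1
  rw [D.dzy ce hm (x := x) (y := z) (z := (k, true)) hxz h1.symm h2.symm B.ζ]
  exact D.dzy ce hm (x := x) (y := (k, true)) (z := oth hm x) h1.symm (oth_ne hm x) h3 B.ζ

theorem xxD {x y : Fin m × Bool} (hxy : x.1 ≠ y.1) (s t : F) :
    ce.lc (M.X x y s) (M.X x (neg y) t) = 1 ∨ ce.lc (M.X x y s) (M.X x (neg y) t) = D.zt ce hm x := by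
  obtain ⟨k, h1, h2, -⟩ := exists_fourth hm x.1 y.1 y.1
  set z : Fin m × Bool := (k, true)
  have hxz : x.1 ≠ z.1 := h1.symm
  have hyz : y.1 ≠ z.1 := h2.symm
  have a1 := D.e1 ce hm hxy hxz hyz s 1 t
  rw [one_mul] at a1
  rw [a1]
  rcases D.dcases ce hm hxz (s * H.σ t) with h | h
  · left; exact h
  · right; rw [h, D.zt_eq ce hm hxz]

theorem map_zt (x : Fin m × Bool) : π (D.zt ce hm x) = M.Z x B.zc := by
  rw [zt, ce.map_lc, br_same M B.hε (oth_ne hm x), map_one, one_mul]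
  rfl

theorem sq_zt (x : Fin m × Bool) : D.zt ce hm x * D.zt ce hm x = 1 := D.sq ce (oth_ne hm x) _ _

theorem tT (x : Fin m × Bool) (t : K) (ht : t ∈ B.T) (t' : L) (h : π t' = t) :
    t' * D.zt ce hm x * t'⁻¹ = D.zt ce hm x := by
  obtain ⟨a, a0, hw⟩ := B.tw t ht
  have h1 := ce.conj_lc t' (M.X x (oth hm x) 1) (M.X x (neg (oth hm x)) B.ζ)
  rw [h, hw.X, hw.X] at h1
  change t' * D.zt ce hm x * t'⁻¹ = _ at h1
  rcases D.xxD ce hm (oth_ne hm x) (a x * H.σ (a (oth hm x)) * 1) (a x * H.σ (a (neg (oth hm x))) * B.ζ) with h3 | h3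
  · rw [h3] at h1
    have : D.zt ce hm x = 1 := by
      have h4 : D.zt ce hm x = t'⁻¹ * (t' * D.zt ce hm x * t'⁻¹) * t' := by group
      rw [h4, h1]; group
    rw [this]; group
  · rw [h1, h3]

/-- `C`-pairs -/
theorem zcc {x y : Fin m × Bool} (hxy : x ≠ neg y) (p e : Fr.Adm) : ce.lc (M.Z x p) (M.Z y e) = 1 := by
  rcases B.adm_cases (D.w0 p) with rfl | rfl
  · rw [Z_one, ce.lc_one_left]
  rcases B.adm_cases (D.w0 e) with rfl | rfl
  · rw [Z_one, ce.lc_one_right]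
  by_cases h : x = y
  · rw [h, ce.lc_self]
  have hne : x.1 ≠ y.1 := fst_ne h hxy
  obtain ⟨k, h1, h2, -⟩ := exists_fourth hm x.1 y.1 y.1
  set z : Fin m × Bool := (k, true)
  have hxz : x.1 ≠ z.1 := h1.symm
  have hyz : y.1 ≠ z.1 := h2.symm
  have e1 : ⁅M.X y (neg z) 1, M.Z z B.zc⁆ = M.Z y B.zc * M.X y z 1 := by
    rw [br_XZ M B.h2 B.hε hyz, map_one, Frame.Adm.one_smul, B.zc_c, map_one, one_mul]
  have c1 : Commute (M.Z x B.zc) (M.X y (neg z) 1) :=
    M.commute_ZX (n1 hne.symm) (n1 (a := neg z) hxz.symm) _ _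
  have c2 : Commute (M.Z x B.zc) (M.Z z B.zc) := by
    rw [← commutatorElement_eq_one_iff_commute, br_ZZ M B.h2 B.hε hxz, B.zc_w, H.zero_left, map_zero, X_zero]
  have c3 : Commute (M.Z x B.zc) (M.X y z 1) := M.commute_ZX (n1 hne.symm) (n1 hxz.symm) _ _
  have h3 := ce.lc_comm_eq_one c1 c2
  rw [e1, ce.lc_mul_right c3, D.xz' ce hyz (n1 hne.symm) (n1 hxz.symm), mul_one] at h3
  exact h3

/-- **The facts.** -/
theorem facts : Facts B ce (D.zt ce hm) where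
  map_zt := D.map_zt ce hm
  sq_zt := D.sq_zt ce hm
  tT := fun x t ht t' h => D.tT ce hm x t ht t' h
  xx := fun x y z w hxy hzw h1 h2 h3 h4 s t => D.xx ce hm hxy hzw h1 h2 h3 h4 s t
  xxD := fun x y hxy s t => D.xxD ce hm hxy s t
  xz := fun x y z hxy h1 h2 s p => D.xz ce hxy h1 h2 s p
  xxT := by
    intro x y z hxy hyz hxz
    obtain ⟨k, h1, h2, h3⟩ := exists_fourth hm x.1 y.1 z.1
    obtain ⟨t, ht, hw⟩ := D.hX x.1 k h1.symm
    refine ⟨t, ht, fun s => B.fixX hw ?_ s, fun s => B.moveX hw ?_ s⟩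
    · have a1 : (neg y).1 ≠ x.1 := hxy.symm
      have a2 : (neg y).1 ≠ k := h2.symm
      simp only [if_neg a1, if_neg a2, if_neg hxz.symm, if_neg h3.symm, map_one, mul_one]
    · simp only [if_true, if_neg hxy.symm, if_neg h2.symm, map_one, mul_one]
      exact B.ζ_ne_one
  xzT := by
    intro x z hxz
    obtain ⟨t, ht, hw⟩ := D.hX x.1 z.1 hxz
    refine ⟨t, ht, fun p => B.fixC hw z (D.w0 p), fun s => B.moveX hw ?_ s⟩
    have : (neg z).1 = z.1 := rfl
    simp only [this, if_true, if_neg hxz.symm, B.σu, B.hζ]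
    exact B.u_ne_one
  zzT := by
    intro x y hxy
    refine ⟨1, one_mem _, fun p => Commute.one_left _, fun q => ⟨1, q, D.w0 q, ?_⟩⟩
    rw [commutatorElement_one_left, one_mul]
  zcc := fun x y p e h he => D.zcc ce hm h p e
  zz := fun x p q => Or.inl (D.zcc ce hm (ne_neg_self x) p q)

end CE

/-- **No perfect double cover, even dimension.** -/
theorem noDouble (hm : 4 ≤ m) (hidx : ¬ 2 ∣ (Vk (gens M) ((2 * m + 1) * (2 * m + 1))).index) : NoDouble K := by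
  intro L _ _ π c hd
  have ce : CE π := CE.of_ker hd.surj hd.cen fun x hx => (hd.ker x).1 hx
  exact false_of_facts (D.facts ce hm) hd (by omega) hidx

end UEven

end Cfsg.Agent.KFacts.Mult.UnitTwo

end

-- merged: Cfsg.Agent.KFacts.Mult.UnitInst
section

/-!
# `PSU_5(2)` and `PSU_n(2)`, `n ≥ 7`, have no perfect double cover (helper430)
-/

set_option autoImplicit false
set_option linter.unusedVariables false

namespace Cfsg.Agent.KFacts.Mult.UnitTwo

open Cfsg.Agent.TitsThree.Siegel Cfsg.Agent.TitsThree.SiegelGen Cfsg.Agent.TitsThree.WittFrame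
open Cfsg.Agent.TitsThree.WittWeyl Cfsg.Agent.TitsThree.WBridge
open Cfsg.Agent.TitsThree.FrameCN Cfsg.Agent.KFacts.Mult.ChainZ Cfsg.Agent.KFacts.Mult.WittTwo
open Cfsg.Agent.KFacts.Mult.Calc Cfsg.Agent.KFacts.MulDef Cfsg.Agent.KFacts.Mult.Chain
open scoped commutatorElement

section Gen

variable {F : Type*} [Field F] {V : Type*} [AddCommGroup V] [Module F V] {H : HForm F V} {m : ℕ}
  {Fr : Frame H (Fin m)} {K : Type*} [Group K] (M : Model Fr K)

/-- The diagonal isometries. -/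
def torI : Subgroup M.I where
  carrier := {g | H.IsIso (g : V ≃ₗ[F] V) ∧ (∀ x, ∃ a : F, a ≠ 0 ∧ (g : V ≃ₗ[F] V) (Fr.b x) = a • Fr.b x) ∧
    ∃ a : F, a ≠ 0 ∧ ∀ w ∈ Fr.V0, (g : V ≃ₗ[F] V) w = a • w}
  one_mem' := ⟨fun _ _ => rfl, fun x => ⟨1, one_ne_zero, (one_smul F _).symm⟩,
    ⟨1, one_ne_zero, fun w _ => (one_smul F _).symm⟩⟩
  mul_mem' := by
    rintro g k ⟨h1, h2, a0, ha0, h3⟩ ⟨h1', h2', a0', ha0', h3'⟩
    refine ⟨HForm.IsIso.mul H h1 h1', fun x => ?_, a0 * a0', mul_ne_zero ha0 ha0', fun w hw => ?_⟩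
    · obtain ⟨a, ha, e⟩ := h2 x
      obtain ⟨a', ha', e'⟩ := h2' x
      refine ⟨a * a', mul_ne_zero ha ha', ?_⟩
      show (g : V ≃ₗ[F] V) ((k : V ≃ₗ[F] V) (Fr.b x)) = _
      rw [e', map_smul, e, smul_smul, mul_comm]
    · show (g : V ≃ₗ[F] V) ((k : V ≃ₗ[F] V) w) = _
      rw [h3' w hw, map_smul, h3 w hw, smul_smul, mul_comm]
  inv_mem' := by
    rintro g ⟨h1, h2, a0, ha0, h3⟩
    have inv_smul : ∀ (v : V) (a : F), a ≠ 0 → (g : V ≃ₗ[F] V) v = a • v → (g : V ≃ₗ[F] V)⁻¹ v = a⁻¹ • v := by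
      intro v a ha h
      have e : (g : V ≃ₗ[F] V)⁻¹ ((g : V ≃ₗ[F] V) v) = v := (g : V ≃ₗ[F] V).symm_apply_apply v
      rw [h, map_smul] at e
      have e2 : a⁻¹ • a • (g : V ≃ₗ[F] V)⁻¹ v = a⁻¹ • v := by rw [e]
      rwa [smul_smul, inv_mul_cancel₀ ha, one_smul] at e2
    refine ⟨HForm.IsIso.inv H h1, fun x => ?_, a0⁻¹, inv_ne_zero ha0, fun w hw => inv_smul w a0 ha0 (h3 w hw)⟩
    obtain ⟨a, ha, e⟩ := h2 x
    exact ⟨a⁻¹, inv_ne_zero ha, inv_smul _ a ha e⟩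

/-- The torus. -/
def tor : Subgroup K := (torI M).map M.φ

variable {M}

theorem tw_of (hε : H.ε = 1) (hnorm : ∀ a : F, a ≠ 0 → a * H.σ a = 1) (g : M.I) (hiso : H.IsIso (g : V ≃ₗ[F] V))
    (a : Fin m × Bool → F)
    (ha : ∀ x, a x ≠ 0) (hb : ∀ x, (g : V ≃ₗ[F] V) (Fr.b x) = a x • Fr.b x) (a0 : F) (ha0 : a0 ≠ 0)
    (h0 : ∀ w ∈ Fr.V0, (g : V ≃ₗ[F] V) w = a0 • w) : M.φ g ∈ tor M ∧ TW M (M.φ g) a a0 := by
  refine ⟨Subgroup.mem_map_of_mem _ ⟨hiso, fun x => ⟨a x, ha x, hb x⟩, a0, ha0, h0⟩, ?_⟩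
  refine ⟨ha, ha0, fun x => ?_, fun x y s => model_conj_X M hε g hiso (hb x) (hb y) s, fun x p => ?_⟩
  · have h1 := hiso (Fr.b x) (Fr.b (neg x))
    rw [hb, hb, H.smul_left, H.smul_right, Fr.hb_self_neg, eta hε, mul_one] at h1
    exact h1
  · have h1 := model_conj_Z M g hiso (hb x) p (Frame.Adm.smul a0 p) (by
      rw [h0 _ (Fr.ok_mem p.ok)]; rfl) (by rw [Frame.Adm.smul_c, hnorm a0 ha0, one_mul])
    rw [h1, Frame.Adm.smul_smul]

theorem inv_apply_of {g k : V ≃ₗ[F] V} {v w : V} (h : k v = w) : (g * k⁻¹) w = g v := by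
  show g (k⁻¹ w) = _
  rw [← h]
  congr 1
  exact k.symm_apply_apply v

/-- The base data. -/
noncomputable def uBase [Finite K] (h2 : (2 : F) = 0) (hε : H.ε = 1) (ζ : F) (hζ : ζ * ζ = ζ + 1)
    (hF : ∀ s : F, s = 0 ∨ s = 1 ∨ s = ζ ∨ s = ζ + 1) (hσ : ∀ s, H.σ s = s * s)
    (hfix : ∀ g : V ≃ₗ[F] V, (∀ x, g (Fr.b x) = Fr.b x) → (∀ w ∈ Fr.V0, g w = w) → g = 1) : UBase M := by
  have hcube : ∀ a : F, a ≠ 0 → a * a * a = 1 := by
    intro a ha
    have h11 : (1 : F) + 1 = 0 := by rw [one_add_one_eq_two, h2]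
    rcases hF a with h | h | h | h
    · exact absurd h ha
    · rw [h]; ring
    · rw [h]; linear_combination (ζ + 1) * hζ + ζ * h2
    · rw [h]; linear_combination (ζ + 4) * hζ + (4 * ζ + 2) * h2
  have hnorm : ∀ a : F, a ≠ 0 → a * H.σ a = 1 := by
    intro a ha
    rw [hσ, ← mul_assoc]; exact hcube a ha
  have hpow : ∀ g ∈ torI M, g ^ 3 = 1 := by
    rintro g ⟨h1, h2, a0, ha0, h3⟩
    apply Subtype.ext
    refine hfix _ (fun x => ?_) (fun w hw => ?_)
    · obtain ⟨a, ha, e⟩ := h2 x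
      show (g : V ≃ₗ[F] V) ((g : V ≃ₗ[F] V) ((g : V ≃ₗ[F] V) (Fr.b x))) = _
      rw [e, map_smul, map_smul, e, map_smul, e, smul_smul, smul_smul, hcube a ha, one_smul]
    · show (g : V ≃ₗ[F] V) ((g : V ≃ₗ[F] V) ((g : V ≃ₗ[F] V) w)) = _
      rw [h3 w hw, map_smul, map_smul, h3 w hw, map_smul, h3 w hw, smul_smul, smul_smul, hcube a0 ha0, one_smul]
  have hodd : Odd (Nat.card (tor M)) := by
    have hp : IsPGroup 3 (tor M) := by
      rintro ⟨t, g, hg, rfl⟩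
      refine ⟨1, Subtype.ext ?_⟩
      show M.φ g ^ 3 ^ 1 = 1
      rw [pow_one, ← map_pow, hpow g hg, map_one]
    have : Fact (Nat.Prime 3) := ⟨Nat.prime_three⟩
    obtain ⟨k, hk⟩ := IsPGroup.iff_card.1 hp
    rw [hk]
    exact Odd.pow (by decide)
  exact
    { h2 := h2, hε := hε, ζ := ζ, hζ := hζ, hF := hF, hσ := hσ, T := tor M, odd := hodd
      tw := by
        rintro t ⟨g, ⟨h1, h4, a0, ha0, h5⟩, rfl⟩
        choose a ha hb using h4
        exact ⟨a, a0, (tw_of hε hnorm g h1 a ha hb a0 ha0 h5).2⟩ }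

/-- the elements `h_{i,j}` -/
theorem exists_hX (B : UBase M) (hT : B.T = tor M) {i j : Fin m} (hij : i ≠ j) :
    ∃ t ∈ B.T, TW M t (fun z => if z.1 = i then B.ζ else if z.1 = j then B.ζ + 1 else 1) 1 := by
  set x : Fin m × Bool := (i, true) with hx
  set y : Fin m × Bool := (j, true) with hy
  have hxy : x.1 ≠ y.1 := hij
  have hz := B.ζ_ne_zero
  have neg1 : ∀ v : V, -v = v := fun v => by
    rw [neg_eq_iff_add_eq_zero, ← two_smul F, B.h2, zero_smul]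
  have zinv : (B.ζ)⁻¹ = B.ζ + 1 := inv_eq_of_mul_eq_one_right B.ζu
  have uinv : (B.ζ + 1)⁻¹ = B.ζ := by rw [← zinv, inv_inv]
  have a1 : ∀ {s : F}, s ≠ 0 → nX Fr x y s (Fr.b (neg y)) = s • Fr.b x := fun hs => nX_apply_neg Fr hxy hs
  have a2 : ∀ {s : F}, s ≠ 0 → nX Fr x y s (Fr.b x) = s⁻¹ • Fr.b (neg y) := fun hs => by
    rw [nX_apply_self Fr hxy hs, neg1]
  have a3 : ∀ {s : F}, s ≠ 0 → nX Fr x y s (Fr.b (neg x)) = H.σ s • Fr.b y := fun hs => by
    rw [nX_apply_neg' Fr hxy hs, neg1, eta B.hε, eta B.hε, B.hε, inv_one, one_mul, one_mul, one_mul]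
  have a4 : ∀ {s : F}, s ≠ 0 → nX Fr x y s (Fr.b y) = (H.σ s)⁻¹ • Fr.b (neg x) := fun hs => by
    rw [nX_apply_self' Fr hxy hs, eta B.hε, eta B.hε, B.hε, inv_one, one_mul, one_mul, one_mul]
  have hiso : H.IsIso ((mnX M x y B.ζ * (mnX M x y 1)⁻¹ : M.I) : V ≃ₗ[F] V) :=
    HForm.IsIso.mul H (isIso_nX Fr _ _ _) (HForm.IsIso.inv H (isIso_nX Fr _ _ _))
  have key := tw_of (M := M) B.hε (fun a ha => B.norm ha) (mnX M x y B.ζ * (mnX M x y 1)⁻¹) hiso
    (fun z => if z.1 = i then B.ζ else if z.1 = j then B.ζ + 1 else 1) ?_ ?_ 1 one_ne_zero ?_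
  · exact ⟨_, hT ▸ key.1, key.2⟩
  · intro z
    show (if z.1 = i then B.ζ else if z.1 = j then B.ζ + 1 else 1) ≠ 0
    split_ifs
    · exact hz
    · exact B.u_ne_zero
    · exact one_ne_zero
  · intro z
    show (nX Fr x y B.ζ * (nX Fr x y 1)⁻¹) (Fr.b z) =
      (if z.1 = i then B.ζ else if z.1 = j then B.ζ + 1 else 1) • Fr.b z
    by_cases h1 : z = x
    · subst h1
      have e : nX Fr x y 1 (Fr.b (neg y)) = Fr.b x := by rw [a1 one_ne_zero, one_smul]
      rw [inv_apply_of e, a1 hz, if_pos rfl]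
    by_cases h3 : z = neg x
    · subst h3
      have e : nX Fr x y 1 (Fr.b y) = Fr.b (neg x) := by rw [a4 one_ne_zero, map_one, inv_one, one_smul]
      rw [inv_apply_of e, a4 hz, if_pos (show (neg x).1 = i from rfl), B.σζ, uinv]
    have h4 : z.1 ≠ i := fst_ne h1 h3
    by_cases h5 : z = y
    · subst h5
      have e : nX Fr x y 1 (Fr.b (neg x)) = Fr.b y := by rw [a3 one_ne_zero, map_one, one_smul]
      rw [inv_apply_of e, a3 hz, if_neg h4, if_pos rfl, B.σζ]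
    by_cases h6 : z = neg y
    · subst h6
      have e : nX Fr x y 1 (Fr.b x) = Fr.b (neg y) := by rw [a2 one_ne_zero, inv_one, one_smul]
      rw [inv_apply_of e, a2 hz, if_neg h4, if_pos (show (neg y).1 = j from rfl), zinv]
    have h7 : z.1 ≠ j := fst_ne h5 h6
    rw [inv_apply_of (nX_apply_of_ne Fr hxy h4 h7 1), nX_apply_of_ne Fr hxy h4 h7, if_neg h4, if_neg h7, one_smul]
  · intro w hw
    show (nX Fr x y B.ζ * (nX Fr x y 1)⁻¹) w = _
    rw [inv_apply_of (nX_apply_V0 Fr hxy hw 1), nX_apply_V0 Fr hxy hw, one_smul]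

/-- the elements `g_i` -/
theorem exists_gZ (B : UBase M) (hT : B.T = tor M) {d : V} (hd : H.h d d = 1)
    (hspan : ∀ w ∈ Fr.V0, ∃ a : F, w = a • d) (p q : Fr.Adm) (hp : p.w = d) (hpc : p.c = B.ζ) (hq : q.w = d)
    (hqc : q.c = B.ζ + 1) (i : Fin m) :
    ∃ t ∈ B.T, TW M t (fun y => if y.1 = i then B.ζ + 1 else 1) (B.ζ + 1) := by
  set x : Fin m × Bool := (i, true) with hx
  have hz := B.ζ_ne_zero
  have hu := B.u_ne_zero
  have zinv : (B.ζ)⁻¹ = B.ζ + 1 := inv_eq_of_mul_eq_one_right B.ζu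
  have uinv : (B.ζ + 1)⁻¹ = B.ζ := by rw [← zinv, inv_inv]
  have a1 : ∀ r : Fr.Adm, r.c ≠ 0 → nZ Fr x r (Fr.b x) = (H.σ r.c)⁻¹ • Fr.b (neg x) := fun r hr => by
    rw [nZ_apply_self Fr x r hr, eta B.hε, B.hε, inv_one, one_mul, one_mul]
  have a2 : ∀ r : Fr.Adm, r.c ≠ 0 → nZ Fr x r (Fr.b (neg x)) = r.c • Fr.b x := fun r hr => by
    rw [nZ_apply_neg Fr x r hr, eta B.hε, one_mul]
  have a3 : ∀ r : Fr.Adm, r.c ≠ 0 → r.w = d → ∀ a : F, a • d ∈ Fr.V0 → nZ Fr x r (a • d) = (a * (1 + r.c⁻¹)) • d := by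
    intro r hr hrw a ha
    rw [nZ_apply_V0 Fr x r hr ha, hrw, H.smul_left, hd, B.hε, inv_one, one_mul, mul_one, ← add_smul]
    congr 1; ring
  have hpc' : p.c ≠ 0 := by rw [hpc]; exact hz
  have hqc' : q.c ≠ 0 := by rw [hqc]; exact hu
  have hiso : H.IsIso ((mnZ M x p * (mnZ M x q)⁻¹ : M.I) : V ≃ₗ[F] V) :=
    HForm.IsIso.mul H (isIso_nZ Fr _ _) (HForm.IsIso.inv H (isIso_nZ Fr _ _))
  have key := tw_of (M := M) B.hε (fun a ha => B.norm ha) (mnZ M x p * (mnZ M x q)⁻¹) hiso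
    (fun z => if z.1 = i then B.ζ + 1 else 1) ?_ ?_ (B.ζ + 1) hu ?_
  · exact ⟨_, hT ▸ key.1, key.2⟩
  · intro z
    show (if z.1 = i then B.ζ + 1 else 1) ≠ 0
    split_ifs
    · exact hu
    · exact one_ne_zero
  · intro z
    show (nZ Fr x p * (nZ Fr x q)⁻¹) (Fr.b z) = (if z.1 = i then B.ζ + 1 else 1) • Fr.b z
    by_cases h1 : z = x
    · subst h1
      have e : nZ Fr x q ((q.c)⁻¹ • Fr.b (neg x)) = Fr.b x := by
        rw [map_smul, a2 q hqc', smul_smul, inv_mul_cancel₀ hqc', one_smul]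
      rw [inv_apply_of e, map_smul, a2 p hpc', smul_smul, if_pos rfl, hqc, hpc, uinv, B.hζ]
    by_cases h3 : z = neg x
    · subst h3
      have hσ : H.σ q.c ≠ 0 := by simpa using hqc'
      have e : nZ Fr x q ((H.σ q.c) • Fr.b x) = Fr.b (neg x) := by
        rw [map_smul, a1 q hqc', smul_smul, mul_inv_cancel₀ hσ, one_smul]
      rw [inv_apply_of e, map_smul, a1 p hpc', smul_smul, if_pos (show (neg x).1 = i from rfl), hqc, hpc, B.σu, B.σζ,
        uinv, B.hζ]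
    have h4 : z.1 ≠ i := fst_ne h1 h3
    rw [inv_apply_of (nZ_apply_of_ne Fr (x := x) h4 q), nZ_apply_of_ne Fr (x := x) h4, if_neg h4, one_smul]
  · intro w hw
    show (nZ Fr x p * (nZ Fr x q)⁻¹) w = _
    obtain ⟨a, rfl⟩ := hspan w hw
    have hmem : ∀ c : F, c • d ∈ Fr.V0 := fun c => by
      rw [← hp]; exact Fr.V0.smul_mem c (Fr.ok_mem p.ok)
    have e : nZ Fr x q ((B.ζ * a) • d) = a • d := by
      rw [a3 q hqc' hq _ (hmem _), hqc, uinv]
      congr 1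
      have := B.ζu
      linear_combination a * this
    rw [inv_apply_of e, a3 p hpc' hp _ (hmem _), hpc, zinv, smul_smul]
    congr 1
    have h3 : (1 : F) + (B.ζ + 1) = B.ζ := by linear_combination B.h2
    rw [h3]
    linear_combination a * B.hζ

end Gen

/-! ### `PSU` -/

section Inst

open Cfsg Cfsg.Agent.LieClassical.HermBasic
open Cfsg.Agent.TitsThree.KSideU Cfsg.Agent.TitsThree.KSideUDesc Cfsg.Agent.TitsThree.KInstU

theorem four_facts {F : Type*} [Field F] [Fintype F] (hF : Fintype.card F = 2 ^ 2) :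
    (2 : F) = 0 ∧ ∃ ζ : F, ζ * ζ = ζ + 1 ∧ ∀ s : F, s = 0 ∨ s = 1 ∨ s = ζ ∨ s = ζ + 1 := by
  classical
  have h2 : (2 : F) = 0 := by
    have h1 := FiniteField.cast_card_eq_zero F
    rw [hF] at h1
    push_cast at h1
    have h3 : (2 : F) * 2 = 0 := by linear_combination h1
    exact mul_self_eq_zero.1 h3
  have h11 : (1 : F) + 1 = 0 := by rw [one_add_one_eq_two, h2]
  obtain ⟨ζ, hζ⟩ : ∃ ζ : F, ζ ∉ ({0, 1} : Finset F) := by
    by_contra hcon
    push Not at hcon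
    have h1 : (Finset.univ : Finset F) ⊆ {0, 1} := fun k _ => hcon k
    have h3 := Finset.card_le_card h1
    rw [Finset.card_univ, hF] at h3
    have h4 := Finset.card_le_two (a := (0 : F)) (b := 1)
    omega
  simp only [Finset.mem_insert, Finset.mem_singleton, not_or] at hζ
  have h3 : ζ * ζ = ζ + 1 := by
    have h4 : ζ ^ 4 = ζ := by
      have := FiniteField.pow_card ζ
      rw [hF] at this
      exact this
    have h5 : ζ * ((ζ - 1) * (ζ * ζ + ζ + 1)) = 0 := by linear_combination h4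
    have h6 : ζ * ζ + ζ + 1 = 0 :=
      (mul_eq_zero.1 ((mul_eq_zero.1 h5).resolve_left hζ.1)).resolve_left (sub_ne_zero.2 hζ.2)
    linear_combination h6 - (ζ + 1) * h2
  refine ⟨h2, ζ, h3, ?_⟩
  have d1 : ζ ≠ ζ + 1 := fun h => one_ne_zero (left_eq_add.1 h)
  have d2 : (1 : F) ≠ ζ + 1 := fun h => hζ.1 (by simpa using h)
  have d3 : (0 : F) ≠ ζ + 1 := fun h => hζ.2 (by linear_combination -h - h11)
  have hcard : ({0, 1, ζ, ζ + 1} : Finset F).card = 4 := by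
    rw [Finset.card_insert_of_notMem, Finset.card_insert_of_notMem, Finset.card_insert_of_notMem,
      Finset.card_singleton]
    · simp only [Finset.mem_singleton]; exact d1
    · simp only [Finset.mem_insert, Finset.mem_singleton, not_or]
      exact ⟨fun h => hζ.2 h.symm, d2⟩
    · simp only [Finset.mem_insert, Finset.mem_singleton, not_or]
      exact ⟨zero_ne_one, fun h => hζ.1 h.symm, d3⟩
  have huniv : ({0, 1, ζ, ζ + 1} : Finset F) = Finset.univ := by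
    apply Finset.eq_univ_of_card
    rw [hcard, hF]; norm_num
  intro s
  have : s ∈ ({0, 1, ζ, ζ + 1} : Finset F) := by rw [huniv]; exact Finset.mem_univ s
  simpa using this

/-- arithmetic -/
theorem exists_odd_part {g N e P : ℕ} (h : g * N = 2 ^ e * P) (hg : ¬ 2 ∣ g) (hP : ¬ 2 ∣ P) :
    ∃ b, N = 2 ^ e * b ∧ ¬ 2 ∣ b := by
  have h1 : (2 ^ e).Coprime g := Nat.Coprime.pow_left _ ((Nat.Prime.coprime_iff_not_dvd Nat.prime_two).2 hg)
  have h2 : 2 ^ e ∣ N := h1.dvd_of_dvd_mul_left (h ▸ Dvd.intro _ rfl)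
  obtain ⟨b, rfl⟩ := h2
  refine ⟨b, rfl, fun hb => hP ?_⟩
  have h3 : g * b = P := by
    have : 2 ^ e * (g * b) = 2 ^ e * P := by rw [← h]; ring
    exact Nat.eq_of_mul_eq_mul_left (by positivity) this
  rw [← h3]
  exact Dvd.dvd.mul_left hb g

theorem card_psu {F : Type*} [Field F] [Fintype F] (hF : Fintype.card F = 2 ^ 2) (N : ℕ) (hN : 2 ≤ N) :
    ∃ b, Nat.card (PSU N F 2) = 2 ^ (N * (N - 1) / 2) * b ∧ ¬ 2 ∣ b := by
  have h1 := Cfsg.Agent.S0280.result hF N hN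
  rw [← mul_assoc] at h1
  refine exists_odd_part h1 ?_ ?_
  · intro h
    rcases Nat.prime_two.dvd_mul.1 h with h2 | h2
    · have := h2.trans (Nat.gcd_dvd_right N (2 + 1))
      omega
    · omega
  · intro h
    obtain ⟨i, -, h3⟩ := (Prime.dvd_finsetProd_iff Nat.prime_two.prime _).1 h
    have h4 : 2 ∣ 2 ^ (i + 1) := dvd_pow_self 2 (by omega)
    have h5 : 1 ≤ 2 ^ (i + 1) := Nat.one_le_two_pow
    split_ifs at h3 <;> omega

/-- **`PSU_{2m}(2)`, `m ≥ 4`.** -/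
theorem noDouble_even {F : Type*} [Field F] [Fintype F] (hF : Fintype.card F = 2 ^ 2) {m : ℕ} (hm : 4 ≤ m) :
    NoDouble (PSU (2 * m) F 2) := by
  intro L _ _ π c hd
  have hfin : Finite (PSU (2 * m) F 2) := Finite.of_surjective π hd.surj
  obtain ⟨h2, ζ, hζ, h4⟩ := four_facts hF
  obtain ⟨W, hW⟩ := exists_wframe_even (N := 2 * m) hF rfl
  let M := model hF (N := 2 * m) (by omega) W
  let B : UBase M := uBase h2 rfl ζ hζ h4 (fun s => by rw [HU_σ, pow_two]) (fun g h1 h3 => eq_one_of_fix _ h1 h3)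
  have hw0 : ∀ w ∈ (toFrame W).V0, w = 0 := fun w hw => by
    have : w ∈ W.V0 := hw
    rw [hW] at this
    exact (Submodule.mem_bot F).1 this
  let D : UEven B := ⟨fun p => hw0 _ (Frame.ok_mem _ p.ok), fun i j hij => exists_hX B rfl hij⟩
  have nd : ∀ w ∈ (toFrame W).V0, (∀ w' ∈ (toFrame W).V0, (HU hF (2 * m)).h w w' = 0) → w = 0 :=
    fun w hw _ => hw0 w hw
  obtain ⟨b, hb1, hb2⟩ := card_psu hF (2 * m) (by omega)
  refine D.noDouble hm ?_ L π c hd
  refine not_dvd_index (isPGroup M h2 (fun v hv => mem_V0 _ hv) nd _) hb1 hb2 ?_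
  have h3 := card_le M nd (fun w hw => ⟨0, hw, by rw [hw0 w hw]; exact (PU hF (2 * m)).zero⟩)
  have h5 : 1 ≤ Nat.card (toFrame W).V0 := Nat.card_pos
  have h6 : 2 ≤ Nat.card {c : F // (toFrame W).ok 0 c} := by
    have : Nontrivial {c : F // (toFrame W).ok 0 c} :=
      ⟨⟨0, Frame.ok_zero _⟩, ⟨1, by
        have := B.zc.ok
        rw [B.zc_c] at this
        exact this⟩, fun h => zero_ne_one (congrArg Subtype.val h)⟩
    exact Finite.one_lt_card
  rw [Nat.card_eq_fintype_card (α := F), hF] at h3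
  refine le_trans ?_ h3
  have e1 : 2 * m * (2 * m - 1) / 2 = 2 * (m * m - m) + m := by
    obtain ⟨k, rfl⟩ : ∃ k, m = k + 1 := ⟨m - 1, by omega⟩
    have a1 : (k + 1) * (k + 1) - (k + 1) = (k + 1) * k := by
      rw [Nat.sub_eq_iff_eq_add (Nat.le_mul_self _)]; ring
    have a2 : 2 * (k + 1) - 1 = 2 * k + 1 := by omega
    rw [a1, a2]
    have a3 : 2 * (k + 1) * (2 * k + 1) = 2 * ((k + 1) * (2 * k + 1)) := by ring
    rw [a3, Nat.mul_div_cancel_left _ (by norm_num)]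
    ring
  rw [e1, pow_add, pow_mul]
  refine Nat.mul_le_mul_left _ ?_
  calc 2 ^ m = 1 ^ m * 2 ^ m := by rw [one_pow, one_mul]
    _ ≤ _ := Nat.mul_le_mul (Nat.pow_le_pow_left h5 m) (Nat.pow_le_pow_left h6 m)

/-- **`PSU_{2m+1}(2)`, `m ≥ 2`.** -/
theorem noDouble_odd {F : Type*} [Field F] [Fintype F] (hF : Fintype.card F = 2 ^ 2) {m : ℕ} (hm : 2 ≤ m) :
    NoDouble (PSU (2 * m + 1) F 2) := by
  intro L _ _ π c hd
  have hfin : Finite (PSU (2 * m + 1) F 2) := Finite.of_surjective π hd.surj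
  obtain ⟨h2, ζ, hζ, h4⟩ := four_facts hF
  obtain ⟨W, d, hdd, hW⟩ := exists_wframe_odd (N := 2 * m + 1) hF rfl
  let M := model hF (N := 2 * m + 1) (by omega) W
  let B : UBase M := uBase h2 rfl ζ hζ h4 (fun s => by rw [HU_σ, pow_two]) (fun g h1 h3 => eq_one_of_fix _ h1 h3)
  have hspan : ∀ w ∈ (toFrame W).V0, ∃ a : F, w = a • d := fun w hw => by
    have : w ∈ W.V0 := hw
    rw [hW] at this
    obtain ⟨a, ha⟩ := Submodule.mem_span_singleton.1 this
    exact ⟨a, ha.symm⟩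
  have hmem : ∀ a : F, a • d ∈ (toFrame W).V0 := fun a => by
    show a • d ∈ W.V0
    rw [hW]; exact Submodule.smul_mem _ _ (Submodule.mem_span_singleton_self d)
  have hh : (HU hF (2 * m + 1)).h d d = 1 := hdd
  -- admissible pairs
  have hpair : ∀ c : F, c + c * c = 1 → (toFrame W).ok d c := fun c hc => by
    refine ⟨by simpa using hmem 1, ?_⟩
    rw [ok_iff, pow_two, hc, hdd, neg_eq h2]
  let p : (toFrame W).Adm := ⟨d, ζ, hpair ζ (by rw [hζ]; linear_combination ζ * h2)⟩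
  let q : (toFrame W).Adm := ⟨d, ζ + 1, hpair (ζ + 1) (by linear_combination hζ + (2 * ζ + 1) * h2)⟩
  let D : UOdd B :=
    { d := d, hd := hh, span := hspan
      ex := fun a => ⟨Frame.Adm.smul a p, rfl⟩
      gZ := fun i => exists_gZ B rfl hh hspan p q rfl rfl rfl rfl i }
  have nd : ∀ w ∈ (toFrame W).V0, (∀ w' ∈ (toFrame W).V0, (HU hF (2 * m + 1)).h w w' = 0) → w = 0 := by
    intro w hw h
    obtain ⟨a, rfl⟩ := hspan w hw
    have h5 := h d (by simpa using hmem 1)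
    rw [(HU hF (2 * m + 1)).smul_left, hh, mul_one] at h5
    rw [h5, zero_smul]
  obtain ⟨b, hb1, hb2⟩ := card_psu hF (2 * m + 1) (by omega)
  refine D.noDouble hm ?_ L π c hd
  refine not_dvd_index (isPGroup M h2 (fun v hv => mem_V0 _ hv) nd _) hb1 hb2 ?_
  have h3 := card_le M nd (fun w hw => by
    obtain ⟨a, rfl⟩ := hspan w hw
    exact ⟨_, (Frame.Adm.smul a p).ok⟩)
  have h5 : 2 ^ 2 ≤ Nat.card (toFrame W).V0 := by
    rw [← hF, ← Nat.card_eq_fintype_card]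
    refine Nat.card_le_card_of_injective (fun a : F => (⟨a • d, hmem a⟩ : (toFrame W).V0)) ?_
    intro a a' h
    have h6 : a • d = a' • d := congrArg Subtype.val h
    have h7 := congrArg (fun v => (HU hF (2 * m + 1)).h v d) h6
    simpa only [(HU hF (2 * m + 1)).smul_left, hh, mul_one] using h7
  have h6 : 2 ≤ Nat.card {c : F // (toFrame W).ok 0 c} := by
    have : Nontrivial {c : F // (toFrame W).ok 0 c} :=
      ⟨⟨0, Frame.ok_zero _⟩, ⟨1, by
        have := B.zc.ok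
        rw [B.zc_c] at this
        exact this⟩, fun h => zero_ne_one (congrArg Subtype.val h)⟩
    exact Finite.one_lt_card
  rw [Nat.card_eq_fintype_card (α := F), hF] at h3
  refine le_trans ?_ h3
  have e1 : (2 * m + 1) * (2 * m + 1 - 1) / 2 = 2 * (m * m - m) + (2 * m + m) := by
    obtain ⟨k, rfl⟩ : ∃ k, m = k + 1 := ⟨m - 1, by omega⟩
    have a1 : (k + 1) * (k + 1) - (k + 1) = (k + 1) * k := by
      rw [Nat.sub_eq_iff_eq_add (Nat.le_mul_self _)]; ring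
    rw [a1, Nat.add_sub_cancel]
    have a3 : (2 * (k + 1) + 1) * (2 * (k + 1)) = 2 * ((2 * (k + 1) + 1) * (k + 1)) := by ring
    rw [a3, Nat.mul_div_cancel_left _ (by norm_num)]
    ring
  rw [e1, pow_add, pow_mul, pow_add, pow_mul]
  exact Nat.mul_le_mul_left _ (Nat.mul_le_mul (Nat.pow_le_pow_left h5 m) (Nat.pow_le_pow_left h6 m))

/-- **`PSU_5(2)` and `PSU_n(2)`, `n ≥ 7`, have no perfect double cover.** -/
theorem noDouble_psu {F : Type*} [Field F] [Fintype F] (hF : Fintype.card F = 2 ^ 2) {n : ℕ}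
    (hn : n = 5 ∨ 7 ≤ n) : NoDouble (PSU n F 2) := by
  rcases Nat.even_or_odd' n with ⟨m, rfl | rfl⟩
  · exact noDouble_even hF (by omega)
  · exact noDouble_odd hF (by omega)

end Inst

end Cfsg.Agent.KFacts.Mult.UnitTwo

end
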