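import Cfsg.Agent.KFacts.Mult.WeightsTwo
import Mathlib
import Cfsg.Agent.KFacts.Mult.Num
import Cfsg.Agent.KFacts.Mult.WittW
import Cfsg.Agent.Nodes.WittU

-- merged: Cfsg.Agent.KFacts.Mult.Heis
section

/-!
# Splitting of the preimage of a Heisenberg root group (ODD D10, multipliers)

`V ≤ X` is a group with a homomorphism `κ` onto the additive group of a field `K` of characteristic 2 whose kernel
`Z` is central in `V` and contained in `[V, V]`. `Heis.spl`: if some element `m` of `N(V)` centralises `Z` and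
acts on `V / Z` as a multiplication by a scalar `≠ 1`, some element `t` of odd order acts on `V / Z` as a
multiplication by a scalar `≠ 1` and without fixed points on `Z`, and the multiplications by `u` and `1 + u` are
induced by elements commuting with `t` (`u (1 + u) (u² + u + 1) ≠ 0`), then the preimage of `V` in every double
cover splits, compatibly with all subgroups `T` centralising `t` and normalising `V` and `Z`.
-/

set_option autoImplicit false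
set_option linter.unusedSectionVars false

namespace Cfsg.Agent.KFacts.Mult.Heis

open Subgroup Cfsg.Agent.KFacts.MulDef Cfsg.Agent.KFacts.MulTwo Cfsg.Agent.KFacts.Mult.Weights
  Cfsg.Agent.KFacts.Mult.WeightsTwo
open scoped commutatorElement

universe u v w

section

variable {X : Type w} [Group X] {K : Type v} [Field K]

/-- `g` normalises `V` and acts on `V / Z` as the multiplication by `a`. -/
structure Acts (V : Subgroup X) (κ : X → K) (g : X) (a : K) : Prop where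
  mem : ∀ x ∈ V, g * x * g⁻¹ ∈ V
  val : ∀ x ∈ V, κ (g * x * g⁻¹) = a * κ x

/-- See the header. -/
structure Data (V : Subgroup X) (κ : X → K) (μ t g₁ g₂ : X) (m l u : K) : Prop where
  add : ∀ x ∈ V, ∀ y ∈ V, κ (x * y) = κ x + κ y
  surj : ∀ a, ∃ x ∈ V, κ x = a
  cen : ∀ z ∈ V, κ z = 0 → ∀ x ∈ V, z * x = x * z
  der : ∀ z ∈ V, κ z = 0 → z ∈ ⁅V, V⁆
  actμ : Acts V κ μ m
  hm : m ≠ 1
  centμ : ∀ z ∈ V, κ z = 0 → μ * z = z * μ
  actt : Acts V κ t l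
  hl : l ≠ 1
  free : ∀ z ∈ V, κ z = 0 → t * z = z * t → z = 1
  odd : ∃ k : ℕ, Odd k ∧ t ^ k = 1
  act₁ : Acts V κ g₁ u
  act₂ : Acts V κ g₂ (1 + u)
  comm₁ : g₁ * t = t * g₁
  comm₂ : g₂ * t = t * g₂
  u0 : u ≠ 0
  u1 : 1 + u ≠ 0
  u2 : u * u + u + 1 ≠ 0
  two : ∀ a : K, a + a = 0

variable {V : Subgroup X} {κ : X → K} {μ t g₁ g₂ : X} {m l u : K}

namespace Data

variable (h : Data V κ μ t g₁ g₂ m l u)

include h

theorem one : κ 1 = 0 := by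
  have := h.add 1 V.one_mem 1 V.one_mem
  rw [mul_one] at this
  exact left_eq_add.1 this

theorem inv {x : X} (hx : x ∈ V) : κ x⁻¹ = -κ x := by
  have := h.add x hx x⁻¹ (inv_mem hx)
  rw [mul_inv_cancel, h.one] at this
  exact (neg_eq_of_add_eq_zero_right this.symm).symm

variable {L : Type u} [Group L] {π : L →* X} {c : L} (hd : Dbl π c)

/-- The preimage of `Z`. -/
def Zt (_h : Data V κ μ t g₁ g₂ m l u) (π : L →* X) : Subgroup L where
  carrier := {x | π x ∈ V ∧ κ (π x) = 0}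
  one_mem' := by
    rw [Set.mem_ofPred_eq, map_one]
    exact ⟨V.one_mem, _h.one⟩
  mul_mem' := by
    rintro x y ⟨hx, hx'⟩ ⟨hy, hy'⟩
    rw [Set.mem_ofPred_eq, map_mul]
    exact ⟨mul_mem hx hy, by rw [_h.add _ hx _ hy, hx', hy', add_zero]⟩
  inv_mem' := by
    rintro x ⟨hx, hx'⟩
    rw [Set.mem_ofPred_eq, map_inv]
    exact ⟨inv_mem hx, by rw [_h.inv hx, hx', neg_zero]⟩

theorem mem_Zt {x : L} : x ∈ h.Zt π ↔ π x ∈ V ∧ κ (π x) = 0 := Iff.rfl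

include hd

theorem map_c : π c = 1 := (hd.ker c).2 (Or.inr rfl)

theorem c_mem : c ∈ h.Zt π := by
  rw [mem_Zt, map_c h hd]
  exact ⟨V.one_mem, h.one⟩

/-- elements with the same image -/
theorem eq_or {x y : L} (hxy : π x = π y) : x = y ∨ x = y * c := by
  have h1 : π (y⁻¹ * x) = 1 := by rw [map_mul, map_inv, hxy, inv_mul_cancel]
  rcases (hd.ker _).1 h1 with h2 | h2
  · left; exact (inv_mul_eq_one.1 h2).symm
  · right; exact inv_mul_eq_iff_eq_mul.1 h2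

/-- `z` commutes with `[V~, V~]`. -/
theorem comm_der {z : L} (hz : z ∈ h.Zt π) {x : L} (hx : x ∈ ⁅V.comap π, V.comap π⁆) : x * z = z * x := by
  have hc := Dbl_cz hd
  have h1 : ⁅V.comap π, V.comap π⁆ ≤ centralizer ({z} : Set L) := by
    rw [commutator_le]
    intro a ha b hb
    rw [mem_centralizer_singleton_iff]
    have ha' := comm_or hd (h.cen _ hz.1 hz.2 _ ha).symm
    have hb' := comm_or hd (h.cen _ hz.1 hz.2 _ hb).symm
    -- `a z a⁻¹ = e z`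
    have key : ∀ a : L, (a * z = z * a ∨ a * z = c * (z * a)) → ∃ e : L, (∀ g : L, g * e = e * g) ∧
        a * z * a⁻¹ = e * z := by
      rintro a (h | h)
      · exact ⟨1, fun g => by simp, by rw [one_mul, h, mul_inv_cancel_right]⟩
      · exact ⟨c, hc, by rw [h]; group⟩
    obtain ⟨e, he, hae⟩ := key a ha'
    obtain ⟨f, hf, hbf⟩ := key b hb'
    have e1 : a⁻¹ * z * a = e⁻¹ * z := by
      have h2 : z = a⁻¹ * (e * z) * a := by rw [← hae]; group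
      have h3 : a⁻¹ * e = e * a⁻¹ := he _
      calc a⁻¹ * z * a = e⁻¹ * (e * a⁻¹ * z * a) := by group
        _ = e⁻¹ * (a⁻¹ * (e * z) * a) := by rw [← h3]; group
        _ = e⁻¹ * z := by rw [← h2]
    have e2 : b⁻¹ * z * b = f⁻¹ * z := by
      have h2 : z = b⁻¹ * (f * z) * b := by rw [← hbf]; group
      have h3 : b⁻¹ * f = f * b⁻¹ := hf _
      calc b⁻¹ * z * b = f⁻¹ * (f * b⁻¹ * z * b) := by group
        _ = f⁻¹ * (b⁻¹ * (f * z) * b) := by rw [← h3]; group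
        _ = f⁻¹ * z := by rw [← h2]
    have hf' : ∀ g : L, g * f⁻¹ = f⁻¹ * g := fun g => by
      have := hf g⁻¹
      calc g * f⁻¹ = (f * g⁻¹)⁻¹ := by group
        _ = (g⁻¹ * f)⁻¹ := by rw [this]
        _ = f⁻¹ * g := by group
    have he' : ∀ g : L, g * e⁻¹ = e⁻¹ * g := fun g => by
      have := he g⁻¹
      calc g * e⁻¹ = (e * g⁻¹)⁻¹ := by group
        _ = (g⁻¹ * e)⁻¹ := by rw [this]
        _ = e⁻¹ * g := by group
    have e3 : ⁅a, b⁆ * z * ⁅a, b⁆⁻¹ = z := by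
      rw [commutatorElement_def]
      calc a * b * a⁻¹ * b⁻¹ * z * (a * b * a⁻¹ * b⁻¹)⁻¹
          = a * (b * (a⁻¹ * (b⁻¹ * z * b) * a) * b⁻¹) * a⁻¹ := by group
        _ = a * (b * ((a⁻¹ * f⁻¹) * z * a) * b⁻¹) * a⁻¹ := by rw [e2]; group
        _ = a * (b * (f⁻¹ * (a⁻¹ * z * a)) * b⁻¹) * a⁻¹ := by rw [hf']; group
        _ = a * ((b * f⁻¹) * (e⁻¹ * z) * b⁻¹) * a⁻¹ := by rw [e1]; group
        _ = a * (f⁻¹ * (b * e⁻¹) * z * b⁻¹) * a⁻¹ := by rw [hf' b]; group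
        _ = a * (f⁻¹ * e⁻¹ * (b * z * b⁻¹)) * a⁻¹ := by rw [he' b]; group
        _ = a * (f⁻¹ * (e⁻¹ * f) * z) * a⁻¹ := by rw [hbf]; group
        _ = a * (e⁻¹ * z) * a⁻¹ := by rw [hf e⁻¹]; group
        _ = (a * e⁻¹) * z * a⁻¹ := by group
        _ = e⁻¹ * (a * z * a⁻¹) := by rw [he' a]; group
        _ = z := by rw [hae]; group
    rwa [mul_inv_eq_iff_eq_mul] at e3
  exact mem_centralizer_singleton_iff.1 (h1 hx)

theorem exists_der {z : L} (hz : z ∈ h.Zt π) : ∃ x ∈ ⁅V.comap π, V.comap π⁆, z = x ∨ z = x * c := by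
  have h1 : (⁅V.comap π, V.comap π⁆).map π = ⁅V, V⁆ := by
    rw [Subgroup.map_commutator, Subgroup.map_comap_eq_self_of_surjective hd.surj]
  have h2 : π z ∈ (⁅V.comap π, V.comap π⁆).map π := by rw [h1]; exact h.der _ hz.1 hz.2
  obtain ⟨x, hx, hxz⟩ := h2
  exact ⟨x, hx, eq_or h hd hxz.symm⟩

theorem comm_Zt {z z' : L} (hz : z ∈ h.Zt π) (hz' : z' ∈ h.Zt π) : z * z' = z' * z := by
  obtain ⟨x, hx, rfl | rfl⟩ := exists_der h hd hz'
  · exact (comm_der h hd hz hx).symm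
  · rw [← mul_assoc, ← comm_der h hd hz hx, mul_assoc, mul_assoc, Dbl_cz hd z]

/-- `Z~` is central in `V~`. -/
theorem cen_Zt {z : L} (hz : z ∈ h.Zt π) {x : L} (hx : π x ∈ V) : z * x = x * z := by
  have hc := Dbl_cz hd
  obtain ⟨ν, hν⟩ := hd.surj μ
  have hm1 : m - 1 ≠ 0 := sub_ne_zero.2 h.hm
  obtain ⟨y0, hy0V, hy0⟩ := h.surj (κ (π x) / (m - 1))
  obtain ⟨y, rfl⟩ := hd.surj y0
  set y' := ν * y * ν⁻¹ with hy'
  have hy'V : π y' ∈ V := by
    rw [hy', map_mul, map_mul, map_inv, hν]; exact h.actμ.mem _ hy0V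
  have hy'κ : κ (π y') = m * κ (π y) := by
    rw [hy', map_mul, map_mul, map_inv, hν]; exact h.actμ.val _ hy0V
  -- `z` commutes with `y' y⁻¹`
  have hνz : ν * z * ν⁻¹ = z ∨ ν * z * ν⁻¹ = z * c := by
    apply eq_or h hd
    rw [map_mul, map_mul, map_inv, hν, h.centμ _ hz.1 hz.2, mul_inv_cancel_right]
  have h1 : z * (y' * y⁻¹) = y' * y⁻¹ * z := by
    have h2 : ∃ e : L, (∀ g : L, g * e = e * g) ∧ z * y * z⁻¹ = e * y := by
      rcases comm_or hd (h.cen _ hz.1 hz.2 _ hy0V) with h3 | h3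
      · exact ⟨1, fun g => by simp, by rw [h3, mul_inv_cancel_right, one_mul]⟩
      · exact ⟨c, hc, by rw [h3]; group⟩
    obtain ⟨e, he, h2⟩ := h2
    have h3 : z * y' * z⁻¹ = e * y' := by
      have h4 : (ν * z * ν⁻¹) * y' * (ν * z * ν⁻¹)⁻¹ = e * y' := by
        calc (ν * z * ν⁻¹) * y' * (ν * z * ν⁻¹)⁻¹ = ν * (z * y * z⁻¹) * ν⁻¹ := by rw [hy']; group
          _ = (ν * e) * y * ν⁻¹ := by rw [h2]; group
          _ = e * y' := by rw [he ν, hy']; group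
      rcases hνz with h5 | h5
      · rwa [h5] at h4
      · rw [h5] at h4
        rw [← h4, mul_assoc z c y', ← hc y', mul_inv_rev]
        calc z * y' * z⁻¹ = z * y' * (c * c⁻¹) * z⁻¹ := by group
          _ = z * (y' * c) * (c⁻¹ * z⁻¹) := by group
    have h4 : z * (y' * y⁻¹) * z⁻¹ = y' * y⁻¹ := by
      have he' : ∀ g : L, g * e⁻¹ = e⁻¹ * g := fun g => by
        have := he g⁻¹
        calc g * e⁻¹ = (e * g⁻¹)⁻¹ := by group
          _ = (g⁻¹ * e)⁻¹ := by rw [this]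
          _ = e⁻¹ * g := by group
      calc z * (y' * y⁻¹) * z⁻¹ = (z * y' * z⁻¹) * (z * y * z⁻¹)⁻¹ := by group
        _ = e * (y' * y⁻¹ * e⁻¹) := by rw [h3, h2]; group
        _ = y' * y⁻¹ := by rw [he' (y' * y⁻¹)]; group
    rwa [mul_inv_eq_iff_eq_mul] at h4
  -- the rest lies in `Z~`
  have h2 : (y' * y⁻¹)⁻¹ * x ∈ h.Zt π := by
    have hV1 : π (y' * y⁻¹) ∈ V := by rw [map_mul, map_inv]; exact mul_mem hy'V (inv_mem hy0V)
    refine ⟨by rw [map_mul, map_inv]; exact mul_mem (inv_mem hV1) hx, ?_⟩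
    rw [map_mul, map_inv, h.add _ (inv_mem hV1) _ hx, h.inv hV1, map_mul, map_inv,
      h.add _ hy'V _ (inv_mem hy0V), h.inv hy0V, hy'κ, hy0]
    field_simp
    ring
  have h3 := comm_Zt h hd hz h2
  calc z * x = z * (y' * y⁻¹) * ((y' * y⁻¹)⁻¹ * x) := by group
    _ = y' * y⁻¹ * (z * ((y' * y⁻¹)⁻¹ * x)) := by rw [h1]; group
    _ = x * z := by rw [h3]; group

/-! ### The lift of `t` -/

theorem exists_tau : ∃ τ : L, π τ = t ∧ ∃ k : ℕ, Odd k ∧ τ ^ k = 1 := by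
  obtain ⟨τ, hτ⟩ := hd.surj t
  obtain ⟨k, hk, htk⟩ := h.odd
  have h1 : π (τ ^ k) = 1 := by rw [map_pow, hτ, htk]
  rcases (hd.ker _).1 h1 with h2 | h2
  · exact ⟨τ, hτ, k, hk, h2⟩
  · refine ⟨τ * c, by rw [map_mul, hτ, map_c h hd, mul_one], k, hk, ?_⟩
    have h3 : (τ * c) ^ k = τ ^ k * c ^ k := (show Commute τ c from Dbl_cz hd τ).mul_pow k
    obtain ⟨j, rfl⟩ := hk
    rw [h3, h2, pow_succ c, pow_mul, pow_two, hd.sq, one_pow, one_mul, hd.sq]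

variable {τ : L} (hτ : π τ = t)

include hτ

theorem tau_comm (hk : ∃ k : ℕ, Odd k ∧ τ ^ k = 1) {g : L} (hg : π g * t = t * π g) : τ * g = g * τ := by
  obtain ⟨k, hk, h1⟩ := hk
  refine commute_of_odd hd.ne hd.sq (Dbl_cz hd) hk h1 (comm_or hd ?_)
  rw [hτ]; exact hg.symm

theorem tau_mem {x : L} (hx : x ∈ h.Zt π) : τ * x * τ⁻¹ ∈ h.Zt π := by
  refine ⟨?_, ?_⟩
  · rw [map_mul, map_mul, map_inv, hτ]; exact h.actt.mem _ hx.1
  · rw [map_mul, map_mul, map_inv, hτ, h.actt.val _ hx.1, hx.2, mul_zero]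

/-- `z ↦ [τ, z]` on `Z~` -/
def δ : h.Zt π →* h.Zt π where
  toFun z := ⟨τ * z.1 * τ⁻¹ * z.1⁻¹, mul_mem (tau_mem h hd hτ z.2) (inv_mem z.2)⟩
  map_one' := by ext; simp
  map_mul' := by
    rintro ⟨x, hx⟩ ⟨y, hy⟩
    ext
    show τ * (x * y) * τ⁻¹ * (x * y)⁻¹ = τ * x * τ⁻¹ * x⁻¹ * (τ * y * τ⁻¹ * y⁻¹)
    have h1 := comm_Zt h hd (inv_mem hx) (mul_mem (tau_mem h hd hτ hy) (inv_mem hy))
    calc τ * (x * y) * τ⁻¹ * (x * y)⁻¹ = τ * x * τ⁻¹ * (τ * y * τ⁻¹ * y⁻¹ * x⁻¹) := by group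
      _ = _ := by rw [← h1]; group

/-- the complement of `⟨c⟩` in `Z~` -/
def E : Subgroup L := (δ h hd hτ).range.map (h.Zt π).subtype

theorem mem_E {x : L} : x ∈ E h hd hτ ↔ ∃ z ∈ h.Zt π, τ * z * τ⁻¹ * z⁻¹ = x := by
  constructor
  · rintro ⟨_, ⟨⟨z, hz⟩, rfl⟩, rfl⟩
    exact ⟨z, hz, rfl⟩
  · rintro ⟨z, hz, rfl⟩
    exact ⟨_, ⟨⟨z, hz⟩, rfl⟩, rfl⟩

theorem E_le : E h hd hτ ≤ h.Zt π := by
  rintro _ ⟨x, -, rfl⟩
  exact x.2

theorem c_pow_odd {k : ℕ} (hk : Odd k) : c ^ k = c := by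
  obtain ⟨j, rfl⟩ := hk
  rw [pow_succ, pow_mul, pow_two, hd.sq, one_pow, one_mul]

theorem c_notMem (hk : ∃ k : ℕ, Odd k ∧ τ ^ k = 1) : c ∉ E h hd hτ := by
  intro hc
  obtain ⟨z, hz, h1⟩ := (mem_E h hd hτ).1 hc
  obtain ⟨k, hk, h2⟩ := hk
  have h3 : ∀ n : ℕ, τ ^ n * z * (τ ^ n)⁻¹ = c ^ n * z := by
    intro n
    induction n with
    | zero => simp
    | succ n ih =>
      have e1 : τ * z * τ⁻¹ = c * z := by rw [← h1]; group
      calc τ ^ (n + 1) * z * (τ ^ (n + 1))⁻¹ = τ * (τ ^ n * z * (τ ^ n)⁻¹) * τ⁻¹ := by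
            rw [pow_succ']; group
        _ = τ * (c ^ n * z) * τ⁻¹ := by rw [ih]
        _ = (τ * c ^ n) * z * τ⁻¹ := by group
        _ = c ^ n * (τ * z * τ⁻¹) := by
            rw [show τ * c ^ n = c ^ n * τ from ((show Commute τ c from Dbl_cz hd τ).pow_right n).eq]; group
        _ = c ^ (n + 1) * z := by rw [e1, pow_succ]; group
  have h4 := h3 k
  rw [h2, c_pow_odd h hd hτ hk] at h4
  have h5 : c = 1 := by
    have : z = c * z := by simpa using h4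
    exact right_eq_mul.1 this
  exact hd.ne h5

theorem mem_or [Finite L] (hk : ∃ k : ℕ, Odd k ∧ τ ^ k = 1) {z : L} (hz : z ∈ h.Zt π) :
    z ∈ E h hd hτ ∨ z * c ∈ E h hd hτ := by
  by_cases hz1 : z ∈ E h hd hτ
  · exact Or.inl hz1
  right
  -- the index of the range is the order of the kernel
  have hker : Nat.card (δ h hd hτ).ker ≤ 2 := by
    have h1 : ∀ x : (δ h hd hτ).ker, (x : h.Zt π).1 = 1 ∨ (x : h.Zt π).1 = c := by
      rintro ⟨⟨x, hx⟩, hx1⟩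
      have h2 : τ * x * τ⁻¹ * x⁻¹ = 1 := congrArg Subtype.val hx1
      have h3 : τ * x = x * τ := by
        rw [mul_inv_eq_one, mul_inv_eq_iff_eq_mul] at h2; exact h2
      have h4 : t * π x = π x * t := by rw [← hτ, ← map_mul, h3, map_mul]
      exact (hd.ker x).1 (h.free _ hx.1 hx.2 h4)
    classical
    let f : (δ h hd hτ).ker → Bool := fun x => decide ((x : h.Zt π).1 = 1)
    have hf : Function.Injective f := by
      intro x y hxy
      have h5 : ((x : h.Zt π).1 = 1) ↔ ((y : h.Zt π).1 = 1) := by simpa [f] using hxy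
      apply Subtype.ext; apply Subtype.ext
      rcases h1 x with h6 | h6
      · rw [h6, h5.1 h6]
      · rcases h1 y with h7 | h7
        · exact absurd ((h5.2 h7).symm.trans h6) hd.ne.symm
        · rw [h6, h7]
    have := Nat.card_le_card_of_injective f hf
    simpa using this
  have hidx : (δ h hd hτ).range.index ≤ 2 := by
    have h1 := Subgroup.card_mul_index (δ h hd hτ).range
    have h2 := Subgroup.card_mul_index (δ h hd hτ).ker
    rw [Subgroup.index_ker] at h2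
    have h3 : Nat.card (δ h hd hτ).range * (δ h hd hτ).range.index =
        Nat.card (δ h hd hτ).range * Nat.card (δ h hd hτ).ker := by
      rw [h1, ← h2, mul_comm]
    have h4 : 0 < Nat.card (δ h hd hτ).range := Nat.card_pos
    rw [Nat.eq_of_mul_eq_mul_left h4 h3]
    exact hker
  have hcE : (⟨c, c_mem h hd⟩ : h.Zt π) ∉ (δ h hd hτ).range := fun hcon =>
    c_notMem h hd hτ hk ⟨_, hcon, rfl⟩
  have hzE : (⟨z, hz⟩ : h.Zt π) ∉ (δ h hd hτ).range := fun hcon => hz1 ⟨_, hcon, rfl⟩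
  have hidx2 : (δ h hd hτ).range.index = 2 := by
    have h1 : (δ h hd hτ).range.index ≠ 1 := by
      rw [Ne, Subgroup.index_eq_one]
      intro h2
      rw [h2] at hcE
      exact hcE (mem_top _)
    have h2 : (δ h hd hτ).range.index ≠ 0 := Subgroup.index_ne_zero_of_finite
    omega
  have := (Subgroup.mul_mem_iff_of_index_two hidx2 (a := ⟨z, hz⟩) (b := ⟨c, c_mem h hd⟩)).2
    (by simp only [hcE, hzE])
  exact ⟨_, this, rfl⟩

theorem sq_mem [Finite L] (hk : ∃ k : ℕ, Odd k ∧ τ ^ k = 1) {z : L} (hz : z ∈ h.Zt π) :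
    z * z ∈ E h hd hτ := by
  rcases mem_or h hd hτ hk hz with h1 | h1
  · exact mul_mem h1 h1
  · have h2 := mul_mem h1 h1
    have h3 : z * c * (z * c) = z * z := by
      calc z * c * (z * c) = z * (c * z) * c := by group
        _ = z * z * (c * c) := by rw [← Dbl_cz hd z]; group
        _ = z * z := by rw [hd.sq, mul_one]
    rwa [h3] at h2

/-- elements commuting with `τ` and normalising `Z~` normalise `E` -/
theorem conj_E {g : L} (hg : τ * g = g * τ) (hgZ : ∀ z ∈ h.Zt π, g * z * g⁻¹ ∈ h.Zt π) {x : L}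
    (hx : x ∈ E h hd hτ) : g * x * g⁻¹ ∈ E h hd hτ := by
  obtain ⟨z, hz, rfl⟩ := (mem_E h hd hτ).1 hx
  refine (mem_E h hd hτ).2 ⟨g * z * g⁻¹, hgZ z hz, ?_⟩
  have h1 : τ⁻¹ * g = g * τ⁻¹ := by
    rw [inv_mul_eq_iff_eq_mul, ← mul_assoc, hg, mul_inv_cancel_right]
  calc τ * (g * z * g⁻¹) * τ⁻¹ * (g * z * g⁻¹)⁻¹
      = (τ * g) * z * (g⁻¹ * (τ⁻¹ * g)) * z⁻¹ * g⁻¹ := by group
    _ = (g * τ) * z * (g⁻¹ * (g * τ⁻¹)) * z⁻¹ * g⁻¹ := by rw [hg, h1]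
    _ = g * (τ * z * τ⁻¹ * z⁻¹) * g⁻¹ := by group

/-- such an element acts trivially on `Z~ / E` -/
theorem conj_mod [Finite L] (hk : ∃ k : ℕ, Odd k ∧ τ ^ k = 1) {g : L} (hg : τ * g = g * τ)
    (hgZ : ∀ z ∈ h.Zt π, g * z * g⁻¹ ∈ h.Zt π) {z : L}
    (hz : z ∈ h.Zt π) : z⁻¹ * (g * z * g⁻¹) ∈ E h hd hτ := by
  rcases mem_or h hd hτ hk hz with h1 | h1
  · exact mul_mem (inv_mem h1) (conj_E h hd hτ hg hgZ h1)
  · have h2 := mul_mem (inv_mem h1) (conj_E h hd hτ hg hgZ h1)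
    have h3 : (z * c)⁻¹ * (g * (z * c) * g⁻¹) = z⁻¹ * (g * z * g⁻¹) := by
      have e1 : ∀ y : L, c⁻¹ * y = y * c⁻¹ := fun y => by
        rw [inv_mul_eq_iff_eq_mul, ← mul_assoc, ← Dbl_cz hd y, mul_inv_cancel_right]
      calc (z * c)⁻¹ * (g * (z * c) * g⁻¹) = c⁻¹ * (z⁻¹ * g * z * c * g⁻¹) := by group
        _ = z⁻¹ * g * z * (c * g⁻¹) * c⁻¹ := by rw [e1]; group
        _ = z⁻¹ * (g * z * g⁻¹) := by rw [← Dbl_cz hd g⁻¹]; group
    rwa [h3] at h2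

omit hτ

/-! ### Commutators -/

theorem C_mem {x y : L} (hx : π x ∈ V) (hy : π y ∈ V) : x * y * x⁻¹ * y⁻¹ ∈ h.Zt π := by
  have hx' : π x⁻¹ ∈ V := by rw [map_inv]; exact inv_mem hx
  have hy' : π y⁻¹ ∈ V := by rw [map_inv]; exact inv_mem hy
  have h1 : π (x * y) ∈ V := by rw [map_mul]; exact mul_mem hx hy
  have h2 : π (x * y * x⁻¹) ∈ V := by rw [map_mul]; exact mul_mem h1 hx'
  refine ⟨by rw [map_mul]; exact mul_mem h2 hy', ?_⟩
  rw [map_mul, h.add _ h2 _ hy', map_mul, h.add _ h1 _ hx', map_mul, h.add _ hx _ hy, map_inv, map_inv,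
    h.inv hx, h.inv hy]
  ring

theorem C_mul_left {x x' y : L} (hx : π x ∈ V) (hx' : π x' ∈ V) (hy : π y ∈ V) :
    (x * x') * y * (x * x')⁻¹ * y⁻¹ = (x * y * x⁻¹ * y⁻¹) * (x' * y * x'⁻¹ * y⁻¹) := by
  have h1 := cen_Zt h hd (C_mem h hd hx' hy) (x := x * y * x⁻¹ * y⁻¹) (by
    have := (C_mem h hd hx hy).1; exact this)
  have h2 := cen_Zt h hd (C_mem h hd hx' hy) hx
  calc (x * x') * y * (x * x')⁻¹ * y⁻¹ = x * (x' * y * x'⁻¹ * y⁻¹) * (y * x⁻¹ * y⁻¹) := by group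
    _ = (x' * y * x'⁻¹ * y⁻¹) * (x * y * x⁻¹ * y⁻¹) := by rw [← h2]; group
    _ = _ := h1

theorem C_mul_right {x y y' : L} (hx : π x ∈ V) (hy : π y ∈ V) (hy' : π y' ∈ V) :
    x * (y * y') * x⁻¹ * (y * y')⁻¹ = (x * y * x⁻¹ * y⁻¹) * (x * y' * x⁻¹ * y'⁻¹) := by
  have h2 := cen_Zt h hd (C_mem h hd hx hy') (x := y⁻¹) (by rw [map_inv]; exact inv_mem hy)
  calc x * (y * y') * x⁻¹ * (y * y')⁻¹ = x * y * x⁻¹ * ((x * y' * x⁻¹ * y'⁻¹) * y⁻¹) := by group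
    _ = _ := by rw [h2]; group

theorem C_congr_left {x x' y : L} (hx : π x ∈ V) (hx' : π x' ∈ V) (hy : π y ∈ V) (hxx : κ (π x) = κ (π x')) :
    x * y * x⁻¹ * y⁻¹ = x' * y * x'⁻¹ * y⁻¹ := by
  have hz : x'⁻¹ * x ∈ h.Zt π := by
    refine ⟨by rw [map_mul, map_inv]; exact mul_mem (inv_mem hx') hx, ?_⟩
    rw [map_mul, map_inv, h.add _ (inv_mem hx') _ hx, h.inv hx', hxx]
    ring
  have h1 := C_mul_left h hd hx' hz.1 hy
  rw [mul_inv_cancel_left] at h1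
  rw [h1, cen_Zt h hd hz hy]
  group

theorem C_congr_right {x y y' : L} (hx : π x ∈ V) (hy : π y ∈ V) (hy' : π y' ∈ V) (hyy : κ (π y) = κ (π y')) :
    x * y * x⁻¹ * y⁻¹ = x * y' * x⁻¹ * y'⁻¹ := by
  have hz : y'⁻¹ * y ∈ h.Zt π := by
    refine ⟨by rw [map_mul, map_inv]; exact mul_mem (inv_mem hy') hy, ?_⟩
    rw [map_mul, map_inv, h.add _ (inv_mem hy') _ hy, h.inv hy', hyy]
    ring
  have h1 := C_mul_right h hd hx hy' hz.1
  rw [mul_inv_cancel_left] at h1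
  rw [h1, ← cen_Zt h hd hz hx]
  group

theorem exists_sect (a : K) : ∃ x : L, π x ∈ V ∧ κ (π x) = a := by
  obtain ⟨y, hy, hya⟩ := h.surj a
  obtain ⟨x, rfl⟩ := hd.surj y
  exact ⟨x, hy, hya⟩

theorem acts_lift {g : L} {a : K} (hg : Acts V κ (π g) a) {x : L} (hx : π x ∈ V) :
    π (g * x * g⁻¹) ∈ V ∧ κ (π (g * x * g⁻¹)) = a * κ (π x) := by
  rw [map_mul, map_mul, map_inv]
  exact ⟨hg.mem _ hx, hg.val _ hx⟩

include hτ

/-- **`V~ / E` is abelian.** -/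
theorem C_mem_E [Finite L] (hk : ∃ k : ℕ, Odd k ∧ τ ^ k = 1) {x y : L} (hx : π x ∈ V) (hy : π y ∈ V) :
    x * y * x⁻¹ * y⁻¹ ∈ E h hd hτ := by
  obtain ⟨γ₁, hγ₁⟩ := hd.surj g₁
  obtain ⟨γ₂, hγ₂⟩ := hd.surj g₂
  have hA₁ : Acts V κ (π γ₁) u := hγ₁ ▸ h.act₁
  have hA₂ : Acts V κ (π γ₂) (1 + u) := hγ₂ ▸ h.act₂
  have hc₁ : τ * γ₁ = γ₁ * τ := tau_comm h hd hτ hk (by rw [hγ₁]; exact h.comm₁)
  have hc₂ : τ * γ₂ = γ₂ * τ := tau_comm h hd hτ hk (by rw [hγ₂]; exact h.comm₂)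
  have hz₁ : ∀ z ∈ h.Zt π, γ₁ * z * γ₁⁻¹ ∈ h.Zt π := fun z hz =>
    ⟨(acts_lift h hd hA₁ hz.1).1, by rw [(acts_lift h hd hA₁ hz.1).2, hz.2, mul_zero]⟩
  have hz₂ : ∀ z ∈ h.Zt π, γ₂ * z * γ₂⁻¹ ∈ h.Zt π := fun z hz =>
    ⟨(acts_lift h hd hA₂ hz.1).1, by rw [(acts_lift h hd hA₂ hz.1).2, hz.2, mul_zero]⟩
  have hu0 := h.u0
  have hu1 := h.u1
  set w : K := (1 + u)⁻¹ + 1 + u⁻¹ with hw
  have hw0 : w ≠ 0 := by
    intro h0
    apply h.u2
    have h1 : w * (u * (1 + u)) = u + u * (1 + u) + (1 + u) := by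
      rw [hw]; field_simp
    rw [h0, zero_mul] at h1
    have h2 : u * u + u + 1 = u + u * (1 + u) + (1 + u) - (u + u) := by ring
    have h3 : (u : K) + u = 0 := by
      -- the characteristic is 2: `E` has index 2, but we only use `κ (x * x)`; see below
      exact h.two u
    rw [h2, ← h1, h3, sub_zero]
  set a' := κ (π x) / w with ha'
  obtain ⟨x₁, hx₁, hk₁⟩ := exists_sect h hd (a' / (1 + u))
  obtain ⟨x₂, hx₂, hk₂⟩ := exists_sect h hd a'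
  obtain ⟨x₃, hx₃, hk₃⟩ := exists_sect h hd (a' / u)
  obtain ⟨y₂, hy₂, hky₂⟩ := exists_sect h hd (u * κ (π y))
  have hx12 : π (x₁ * x₂) ∈ V := by rw [map_mul]; exact mul_mem hx₁ hx₂
  have hx123 : π (x₁ * x₂ * x₃) ∈ V := by rw [map_mul]; exact mul_mem hx12 hx₃
  have hyy : π (y * y₂) ∈ V := by rw [map_mul]; exact mul_mem hy hy₂
  have e0 : x * y * x⁻¹ * y⁻¹ = (x₁ * y * x₁⁻¹ * y⁻¹) * (x₂ * y * x₂⁻¹ * y⁻¹) * (x₃ * y * x₃⁻¹ * y⁻¹) := by
    rw [← C_mul_left h hd hx₁ hx₂ hy, ← C_mul_left h hd hx12 hx₃ hy]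
    refine C_congr_left h hd hx hx123 hy ?_
    rw [map_mul, h.add _ hx12 _ hx₃, map_mul, h.add _ hx₁ _ hx₂, hk₁, hk₂, hk₃]
    have h5 : κ (π x) = a' * w := by rw [ha']; field_simp
    rw [h5, hw]
    field_simp
  -- the action of `γ₂`
  have hgx := acts_lift h hd hA₂ hx₁
  have hgy := acts_lift h hd hA₂ hy
  have e2 : γ₂ * (x₁ * y * x₁⁻¹ * y⁻¹) * γ₂⁻¹ = (x₂ * y * x₂⁻¹ * y⁻¹) * (x₂ * y₂ * x₂⁻¹ * y₂⁻¹) := by
    rw [← C_mul_right h hd hx₂ hy hy₂]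
    have e3 : γ₂ * (x₁ * y * x₁⁻¹ * y⁻¹) * γ₂⁻¹ =
        (γ₂ * x₁ * γ₂⁻¹) * (γ₂ * y * γ₂⁻¹) * (γ₂ * x₁ * γ₂⁻¹)⁻¹ * (γ₂ * y * γ₂⁻¹)⁻¹ := by group
    rw [e3, C_congr_left h hd hgx.1 hx₂ hgy.1 (by rw [hgx.2, hk₁, hk₂]; field_simp),
      C_congr_right h hd hx₂ hgy.1 hyy (by
        rw [hgy.2, map_mul, h.add _ hy _ hy₂, hky₂]; ring)]
  have hgx3 := acts_lift h hd hA₁ hx₃
  have hgy3 := acts_lift h hd hA₁ hy
  have e4 : γ₁ * (x₃ * y * x₃⁻¹ * y⁻¹) * γ₁⁻¹ = x₂ * y₂ * x₂⁻¹ * y₂⁻¹ := by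
    have e3 : γ₁ * (x₃ * y * x₃⁻¹ * y⁻¹) * γ₁⁻¹ =
        (γ₁ * x₃ * γ₁⁻¹) * (γ₁ * y * γ₁⁻¹) * (γ₁ * x₃ * γ₁⁻¹)⁻¹ * (γ₁ * y * γ₁⁻¹)⁻¹ := by group
    rw [e3, C_congr_left h hd hgx3.1 hx₂ hgy3.1 (by rw [hgx3.2, hk₃, hk₂]; field_simp),
      C_congr_right h hd hx₂ hgy3.1 hy₂ (by rw [hgy3.2, hky₂])]
  have m1 := C_mem h hd hx₁ hy
  have m2 := C_mem h hd hx₂ hy
  have m3 := C_mem h hd hx₃ hy
  have m4 := C_mem h hd hx₂ hy₂
  have p1 := conj_mod h hd hτ hk hc₂ hz₂ m1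
  have p2 := conj_mod h hd hτ hk hc₁ hz₁ m3
  rw [e2] at p1
  rw [e4] at p2
  rw [e0]
  set A := x₁ * y * x₁⁻¹ * y⁻¹
  set B := x₂ * y * x₂⁻¹ * y⁻¹
  set C := x₃ * y * x₃⁻¹ * y⁻¹
  set D := x₂ * y₂ * x₂⁻¹ * y₂⁻¹
  have mBD : B * D ∈ h.Zt π := mul_mem m2 m4
  have s1 := sq_mem h hd hτ hk mBD
  -- `A B C = (B D)² (A⁻¹ B D)⁻¹ (C⁻¹ D)⁻¹`
  have cAB : (A⁻¹ * (B * D))⁻¹ = (B * D)⁻¹ * A := by group
  have key : A * B * C = (B * D) * (B * D) * (A⁻¹ * (B * D))⁻¹ * (C⁻¹ * D)⁻¹ := by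
    have k1 : B * D * A = A * (B * D) := comm_Zt h hd mBD m1
    have k2 : D * (D⁻¹ * C) = C := by group
    have k3 : D⁻¹ * C = C * D⁻¹ := comm_Zt h hd (inv_mem m4) m3
    calc A * B * C = A * (B * D) * (D⁻¹ * C) := by group
      _ = B * D * A * (D⁻¹ * C) := by rw [k1]
      _ = _ := by group
  rw [key]
  exact mul_mem (mul_mem s1 (inv_mem p1)) (inv_mem p2)

/-! ### The complement -/

theorem tau_memV {x : L} (hx : π x ∈ V) : π (τ * x * τ⁻¹) ∈ V := by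
  rw [map_mul, map_mul, map_inv, hτ]; exact h.actt.mem _ hx

theorem A_mem {x : L} (hx : π x ∈ V) : π (τ * x * τ⁻¹ * x⁻¹) ∈ V := by
  rw [map_mul, map_inv]; exact mul_mem (tau_memV h hd hτ hx) (inv_mem hx)

theorem A_mul [Finite L] (hk : ∃ k : ℕ, Odd k ∧ τ ^ k = 1) {x y : L} (hx : π x ∈ V) (hy : π y ∈ V) :
    ∃ e ∈ E h hd hτ, (τ * x * τ⁻¹ * x⁻¹) * (τ * y * τ⁻¹ * y⁻¹) =
      τ * (x * y) * τ⁻¹ * (x * y)⁻¹ * e := by
  have hB := A_mem h hd hτ hy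
  have h1 := C_mem_E h hd hτ hk hx hB
  refine ⟨_, inv_mem h1, ?_⟩
  have h2 := cen_Zt h hd (E_le h hd hτ h1) hB
  set B := τ * y * τ⁻¹ * y⁻¹ with hBdef
  calc τ * x * τ⁻¹ * x⁻¹ * B = τ * x * τ⁻¹ * x⁻¹ * ((x * B * x⁻¹ * B⁻¹) * B) * (x * B * x⁻¹ * B⁻¹)⁻¹ := by
        rw [h2]; group
    _ = τ * x * τ⁻¹ * B * x⁻¹ * (x * B * x⁻¹ * B⁻¹)⁻¹ := by group
    _ = _ := by rw [hBdef]; group

/-- the complement of `⟨c⟩` in `V~` -/
def M [Finite L] (hk : ∃ k : ℕ, Odd k ∧ τ ^ k = 1) : Subgroup L where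
  carrier := {m | ∃ x, π x ∈ V ∧ ∃ e ∈ E h hd hτ, m = τ * x * τ⁻¹ * x⁻¹ * e}
  one_mem' := ⟨1, by rw [map_one]; exact V.one_mem, 1, one_mem _, by group⟩
  mul_mem' := by
    rintro _ _ ⟨x, hx, e, he, rfl⟩ ⟨y, hy, f, hf, rfl⟩
    obtain ⟨g, hg, h1⟩ := A_mul h hd hτ hk hx hy
    refine ⟨x * y, by rw [map_mul]; exact mul_mem hx hy, g * e * f, mul_mem (mul_mem hg he) hf, ?_⟩
    have h2 := cen_Zt h hd (E_le h hd hτ he) (A_mem h hd hτ hy)
    calc τ * x * τ⁻¹ * x⁻¹ * e * (τ * y * τ⁻¹ * y⁻¹ * f)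
        = τ * x * τ⁻¹ * x⁻¹ * (e * (τ * y * τ⁻¹ * y⁻¹)) * f := by group
      _ = (τ * x * τ⁻¹ * x⁻¹) * (τ * y * τ⁻¹ * y⁻¹) * e * f := by rw [h2]; group
      _ = _ := by rw [h1]; group
  inv_mem' := by
    rintro _ ⟨x, hx, e, he, rfl⟩
    have hx' : π x⁻¹ ∈ V := by rw [map_inv]; exact inv_mem hx
    obtain ⟨g, hg, h1⟩ := A_mul h hd hτ hk hx' hx
    refine ⟨x⁻¹, hx', e⁻¹ * g⁻¹, mul_mem (inv_mem he) (inv_mem hg), ?_⟩
    have h2 : τ * (x⁻¹ * x) * τ⁻¹ * (x⁻¹ * x)⁻¹ * g = g := by group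
    rw [h2] at h1
    have h3 : (τ * x * τ⁻¹ * x⁻¹)⁻¹ = g⁻¹ * (τ * x⁻¹ * τ⁻¹ * x⁻¹⁻¹) := by
      rw [← h1]; group
    have h4 := cen_Zt h hd (E_le h hd hτ (mul_mem (inv_mem he) (inv_mem hg))) (A_mem h hd hτ hx')
    rw [← h4, mul_inv_rev, h3]
    group

theorem mem_M [Finite L] (hk : ∃ k : ℕ, Odd k ∧ τ ^ k = 1) {m : L} :
    m ∈ M h hd hτ hk ↔ ∃ x, π x ∈ V ∧ ∃ e ∈ E h hd hτ, m = τ * x * τ⁻¹ * x⁻¹ * e := Iff.rfl

theorem tau_E {x : L} (hx : x ∈ E h hd hτ) : τ * x * τ⁻¹ ∈ E h hd hτ :=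
  conj_E h hd hτ rfl (fun _ hz => tau_mem h hd hτ hz) hx

theorem c_notMem_M [Finite L] (hk : ∃ k : ℕ, Odd k ∧ τ ^ k = 1) : c ∉ M h hd hτ hk := by
  rintro ⟨x, hx, e, he, h1⟩
  have h2 : τ * x * τ⁻¹ = c * e⁻¹ * x := by
    have h3 := cen_Zt h hd (E_le h hd hτ he) hx
    have h4 : τ * x * τ⁻¹ = c * e⁻¹ * x := by
      rw [h1]; group
    exact h4
  have h3 : ∀ n : ℕ, ∃ f ∈ E h hd hτ, τ ^ n * x * (τ ^ n)⁻¹ = c ^ n * f * x := by
    intro n
    induction n with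
    | zero => exact ⟨1, one_mem _, by simp⟩
    | succ n ih =>
      obtain ⟨f, hf, ih⟩ := ih
      refine ⟨τ * f * τ⁻¹ * e⁻¹, mul_mem (tau_E h hd hτ hf) (inv_mem he), ?_⟩
      calc τ ^ (n + 1) * x * (τ ^ (n + 1))⁻¹ = τ * (τ ^ n * x * (τ ^ n)⁻¹) * τ⁻¹ := by
            rw [pow_succ']; group
        _ = (τ * c ^ n) * f * x * τ⁻¹ := by rw [ih]; group
        _ = c ^ n * (τ * f * τ⁻¹) * (τ * x * τ⁻¹) := by
            rw [show τ * c ^ n = c ^ n * τ from ((show Commute τ c from Dbl_cz hd τ).pow_right n).eq]; group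
        _ = c ^ n * ((τ * f * τ⁻¹) * c) * e⁻¹ * x := by rw [h2]; group
        _ = c ^ (n + 1) * (τ * f * τ⁻¹ * e⁻¹) * x := by rw [Dbl_cz hd, pow_succ]; group
  obtain ⟨k, hko, hk1⟩ := hk
  obtain ⟨f, hf, h4⟩ := h3 k
  rw [hk1, c_pow_odd h hd hτ hko] at h4
  have h5 : c * f = 1 := by
    have : x = c * f * x := by simpa using h4
    exact right_eq_mul.1 this
  have h6 : c = f⁻¹ := eq_inv_of_mul_eq_one_left h5
  have h7 := inv_mem hf
  rw [← h6] at h7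
  exact c_notMem h hd hτ ⟨k, hko, hk1⟩ h7

theorem cover_M [Finite L] (hk : ∃ k : ℕ, Odd k ∧ τ ^ k = 1) {v : L} (hv : π v ∈ V) :
    v ∈ M h hd hτ hk ∨ v * c ∈ M h hd hτ hk := by
  have hl1 : l - 1 ≠ 0 := sub_ne_zero.2 h.hl
  obtain ⟨x, hx, hxk⟩ := exists_sect h hd (κ (π v) / (l - 1))
  have hA := A_mem h hd hτ hx
  have hz : (τ * x * τ⁻¹ * x⁻¹)⁻¹ * v ∈ h.Zt π := by
    refine ⟨by rw [map_mul, map_inv]; exact mul_mem (inv_mem hA) hv, ?_⟩
    rw [map_mul, map_inv, h.add _ (inv_mem hA) _ hv, h.inv hA]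
    have h1 : κ (π (τ * x * τ⁻¹ * x⁻¹)) = κ (π v) := by
      rw [map_mul, h.add _ (tau_memV h hd hτ hx) _ (by rw [map_inv]; exact inv_mem hx), map_inv, h.inv hx,
        map_mul, map_mul, map_inv, hτ, h.actt.val _ hx, hxk]
      field_simp
      ring
    rw [h1]; ring
  rcases mem_or h hd hτ hk hz with h1 | h1
  · exact Or.inl ⟨x, hx, _, h1, by group⟩
  · exact Or.inr ⟨x, hx, _, h1, by group⟩

end Data

/-- **The preimage of a Heisenberg group splits.** -/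
theorem Data.spl (h : Data V κ μ t g₁ g₂ m l u) {T : Subgroup X} (hT : ∀ s ∈ T, s * t = t * s)
    (hTV : ∀ s ∈ T, ∀ x ∈ V, s * x * s⁻¹ ∈ V) (hTκ : ∀ s ∈ T, ∀ x ∈ V, κ x = 0 → κ (s * x * s⁻¹) = 0) :
    Spl T V := by
  intro L _ _ π c hd
  obtain ⟨τ, hτ, hk⟩ := exists_tau h hd
  refine ⟨M h hd hτ hk, c_notMem_M h hd hτ hk, ?_, fun v hv => cover_M h hd hτ hk hv, ?_⟩
  · rintro _ ⟨x, hx, e, he, rfl⟩
    rw [mem_comap, map_mul]
    exact mul_mem (A_mem h hd hτ hx) (E_le h hd hτ he).1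
  · rintro s hs _ ⟨x, hx, e, he, rfl⟩
    have hs' : π s ∈ T := hs
    have h1 : τ * s = s * τ := tau_comm h hd hτ hk (hT _ hs')
    have hsx : π (s * x * s⁻¹) ∈ V := by
      rw [map_mul, map_mul, map_inv]; exact hTV _ hs' _ hx
    have hsE : s * e * s⁻¹ ∈ E h hd hτ := by
      refine conj_E h hd hτ h1 (fun z hz => ?_) he
      refine ⟨?_, ?_⟩
      · rw [map_mul, map_mul, map_inv]; exact hTV _ hs' _ hz.1
      · rw [map_mul, map_mul, map_inv]; exact hTκ _ hs' _ hz.1 hz.2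
    refine ⟨s * x * s⁻¹, hsx, s * e * s⁻¹, hsE, ?_⟩
    have h2 : τ⁻¹ * s = s * τ⁻¹ := by
      rw [inv_mul_eq_iff_eq_mul, ← mul_assoc, h1, mul_inv_cancel_right]
    calc s * (τ * x * τ⁻¹ * x⁻¹ * e) * s⁻¹ = (s * τ) * x * (s⁻¹ * (s * τ⁻¹)) * x⁻¹ * e * s⁻¹ := by group
      _ = (τ * s) * x * (s⁻¹ * (τ⁻¹ * s)) * x⁻¹ * e * s⁻¹ := by rw [h1, h2]
      _ = _ := by group

end

end Cfsg.Agent.KFacts.Mult.Heis

end

-- merged: Cfsg.Agent.KFacts.Mult.UnitaryNum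
section

/-!
# Scalars in `F_{q²}`, `q = 2^a ≥ 4` (for the unitary groups)
-/

set_option autoImplicit false

namespace Cfsg.Agent.KFacts.Mult.UnitaryNum

open Cfsg.Agent.KFacts.Mult.Num

variable {F : Type*} [Field F] [Finite F]

/-- an odd prime divisor of `2^a - 1`, `a ≥ 2` -/
theorem exists_odd_prime_dvd {a : ℕ} (ha : 2 ≤ a) : ∃ p : ℕ, p.Prime ∧ Odd p ∧ p ∣ 2 ^ a - 1 := by
  have : Fact (Nat.Prime 2) := ⟨Nat.prime_two⟩
  have hc : Nat.card (GaloisField 2 a) = 2 ^ a := GaloisField.card 2 a (by omega)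
  have h4 : 2 ^ 2 ≤ 2 ^ a := Nat.pow_le_pow_right (by norm_num) ha
  have : Finite (GaloisField 2 a) := Nat.finite_of_card_ne_zero (by rw [hc]; positivity)
  obtain ⟨p, hp, l, hodd, hl0, hl⟩ := exists_odd_prime (K := GaloisField 2 a) (by omega)
  refine ⟨p, hp.out, hodd, ?_⟩
  rw [← hc, ← Nat.card_units, ← hl, ← Units.val_mk0 hl0, orderOf_units]
  exact orderOf_dvd_natCard _

/-- a prime divisor at least 5 of `2^a - 1`, `a ≥ 3` -/
theorem exists_prime_five_dvd {a : ℕ} (ha : 3 ≤ a) : ∃ p : ℕ, p.Prime ∧ 5 ≤ p ∧ p ∣ 2 ^ a - 1 := by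
  have : Fact (Nat.Prime 2) := ⟨Nat.prime_two⟩
  have hc : Nat.card (GaloisField 2 a) = 2 ^ a := GaloisField.card 2 a (by omega)
  have h4 : 2 ^ 3 ≤ 2 ^ a := Nat.pow_le_pow_right (by norm_num) ha
  have : Finite (GaloisField 2 a) := Nat.finite_of_card_ne_zero (by rw [hc]; positivity)
  obtain ⟨p, hp, l, -, h5, hl0, hl⟩ := exists_prime_five (K := GaloisField 2 a) (by omega)
  refine ⟨p, hp.out, h5, ?_⟩
  rw [← hc, ← Nat.card_units, ← hl, ← Units.val_mk0 hl0, orderOf_units]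
  exact orderOf_dvd_natCard _

variable {q a : ℕ}

omit [Finite F] in
/-- elements whose order divides `q - 1` are fixed by `x ↦ x^q` -/
theorem pow_q_of_order {p : ℕ} (hq1 : 1 ≤ q) (hd : p ∣ q - 1) {l : F} (hl : orderOf l = p) : l ^ q = l := by
  obtain ⟨k, hk⟩ := hd
  have h1 : q = p * k + 1 := by omega
  rw [h1, pow_succ, pow_mul, ← hl, pow_orderOf_eq_one, one_pow, one_mul]

theorem exists_fixed {p : ℕ} (hp : p.Prime) (hF : Nat.card F = q ^ 2) (hq1 : 1 ≤ q) (hd : p ∣ q - 1) :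
    ∃ l : F, l ≠ 0 ∧ orderOf l = p ∧ l ^ q = l := by
  have : Fact p.Prime := ⟨hp⟩
  have h1 : p ∣ Nat.card F - 1 := by
    rw [hF]
    have : q ^ 2 - 1 = (q - 1) * (q + 1) := by
      obtain ⟨k, rfl⟩ : ∃ k, q = k + 1 := ⟨q - 1, by omega⟩
      have : (k + 1) ^ 2 = (k + 1 - 1) * (k + 1 + 1) + 1 := by
        simp; ring
      omega
    rw [this]
    exact Dvd.dvd.mul_right hd _
  obtain ⟨l, hl0, hl⟩ := exists_orderOf (K := F) h1
  exact ⟨l, hl0, hl, pow_q_of_order hq1 hd hl⟩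

/-- the scalar `l` of the theorem on Witt frames -/
theorem exists_scalar (hF : Nat.card F = q ^ 2) (hq : q = 2 ^ a) (ha : 2 ≤ a) :
    ∃ (p : ℕ) (_ : Fact p.Prime) (l : F), Odd p ∧ l ≠ 0 ∧ orderOf l = p ∧ l ^ q = l := by
  obtain ⟨p, hp, hodd, hd⟩ := exists_odd_prime_dvd ha
  have hq1 : 1 ≤ q := by rw [hq]; exact Nat.one_le_two_pow
  obtain ⟨l, h1, h2, h3⟩ := exists_fixed hp hF hq1 (hq ▸ hd)
  exact ⟨p, ⟨hp⟩, l, hodd, h1, h2, h3⟩

omit [Finite F] in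
theorem cube_ne {u : F} {p : ℕ} (h5 : 5 ≤ p) (hu : orderOf u = p) : u * u + u + 1 ≠ 0 ∧ u ≠ 1 := by
  constructor
  · intro h0
    have h1 : u ^ 3 = 1 := by
      have : u ^ 3 - 1 = (u - 1) * (u * u + u + 1) := by ring
      rw [h0, mul_zero] at this
      exact sub_eq_zero.1 this
    have h2 : orderOf u ∣ 3 := orderOf_dvd_of_pow_eq_one h1
    rw [hu] at h2
    have := Nat.le_of_dvd (by norm_num) h2
    omega
  · rintro rfl
    rw [orderOf_one] at hu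
    omega

/-- the scalars `u`, `1 + u` of the Heisenberg lemma, `q ≥ 4` -/
theorem exists_u [CharP F 2] (hF : Nat.card F = q ^ 2) (hq : q = 2 ^ a) (ha : 2 ≤ a) :
    ∃ u a₁ a₂ : F, u ≠ 0 ∧ 1 + u ≠ 0 ∧ u * u + u + 1 ≠ 0 ∧ a₁ ≠ 0 ∧ a₂ ≠ 0 ∧
      a₁ ^ q * a₁ ^ q * a₁⁻¹ = u ∧ a₂ ^ q * a₂ ^ q * a₂⁻¹ = 1 + u := by
  have : Fact (Nat.Prime 2) := ⟨Nat.prime_two⟩
  have hq1 : 1 ≤ q := by rw [hq]; exact Nat.one_le_two_pow
  have h1u : ∀ u : F, u ≠ 1 → 1 + u ≠ 0 := by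
    intro u hu h0
    apply hu
    have h2 : (1 : F) + 1 = 0 := CharTwo.add_self_eq_zero 1
    exact (add_left_cancel (h0.trans h2.symm))
  rcases Nat.lt_or_ge a 3 with h3 | h3
  · have ha2 : a = 2 := by omega
    subst ha2
    have hq4 : q = 4 := by rw [hq]; norm_num
    subst hq4
    have hp5 : Nat.Prime 5 := by norm_num
    have : Fact (Nat.Prime 5) := ⟨hp5⟩
    obtain ⟨u, hu0, hu⟩ := exists_orderOf (K := F) (p := 5) (by rw [hF]; norm_num)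
    have hu2 := cube_ne (le_refl 5) hu
    have h15 : ∀ v : F, v ≠ 0 → v ^ 15 = 1 := by
      intro v hv
      have := Fintype.ofFinite F
      have h6 := FiniteField.pow_card_sub_one_eq_one v hv
      rwa [← Nat.card_eq_fintype_card, hF] at h6
    have key : ∀ v : F, v ≠ 0 → (v ^ 13) ^ 4 * (v ^ 13) ^ 4 * (v ^ 13)⁻¹ = v := by
      intro v hv
      have h7 : (v ^ 13) ^ 4 * (v ^ 13) ^ 4 = v * v ^ 13 := by
        calc (v ^ 13) ^ 4 * (v ^ 13) ^ 4 = (v ^ 15) ^ 6 * v ^ 14 := by ring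
          _ = v * v ^ 13 := by rw [h15 v hv]; ring
      rw [h7, mul_assoc, mul_inv_cancel₀ (pow_ne_zero _ hv), mul_one]
    exact ⟨u, u ^ 13, (1 + u) ^ 13, hu0, h1u u hu2.2, hu2.1, pow_ne_zero _ hu0, pow_ne_zero _ (h1u u hu2.2),
      key u hu0, key _ (h1u u hu2.2)⟩
  · obtain ⟨p, hp, h5, hd⟩ := exists_prime_five_dvd h3
    obtain ⟨u, hu0, hu, huq⟩ := exists_fixed (F := F) hp hF hq1 (hq ▸ hd)
    have hu2 := cube_ne h5 hu
    have h1 := h1u u hu2.2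
    have h1q : (1 + u) ^ q = 1 + u := by
      rw [hq, add_pow_char_pow, one_pow, ← hq, huq]
    refine ⟨u, u, 1 + u, hu0, h1, hu2.1, hu0, h1, ?_, ?_⟩
    · rw [huq, mul_assoc, mul_inv_cancel₀ hu0, mul_one]
    · rw [h1q, mul_assoc, mul_inv_cancel₀ h1, mul_one]

/-- an element of norm 1 with nontrivial cube, `q ≥ 4` -/
theorem exists_norm_one (hF : Nat.card F = q ^ 2) (hq : 4 ≤ q) :
    ∃ b : F, b ≠ 0 ∧ b * b ^ q = 1 ∧ b ^ q * b ^ q * b⁻¹ ≠ 1 := by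
  obtain ⟨ζ, hζ⟩ := IsCyclic.exists_generator (α := Fˣ)
  have ho : orderOf ζ = q ^ 2 - 1 := by
    rw [orderOf_eq_card_of_forall_mem_zpowers hζ, Nat.card_units, hF]
  have hfac : q ^ 2 - 1 = (q - 1) * (q + 1) := by
    obtain ⟨k, rfl⟩ : ∃ k, q = k + 1 := ⟨q - 1, by omega⟩
    have : (k + 1) ^ 2 = (k + 1 - 1) * (k + 1 + 1) + 1 := by
      simp; ring
    omega
  set β : Fˣ := ζ ^ (q - 1) with hβ
  have h1 : β ^ (q + 1) = 1 := by rw [hβ, ← pow_mul, ← hfac, ← ho, pow_orderOf_eq_one]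
  have h3 : β ^ 3 ≠ 1 := by
    intro h3
    rw [hβ, ← pow_mul] at h3
    have h4 := orderOf_dvd_of_pow_eq_one h3
    rw [ho, hfac] at h4
    have h5 := Nat.le_of_dvd (by have : 0 < q - 1 := by omega
                                 positivity) h4
    have h6 : (q - 1) * 3 < (q - 1) * (q + 1) := Nat.mul_lt_mul_of_pos_left (by omega) (by omega)
    omega
  refine ⟨(β : F), β.ne_zero, ?_, ?_⟩
  · have := congrArg Units.val h1
    rw [Units.val_pow_eq_pow_val, Units.val_one, pow_succ'] at this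
    exact this
  · intro h4
    apply h3
    apply Units.ext
    rw [Units.val_pow_eq_pow_val, Units.val_one]
    have h5 : (β : F) * (β : F) ^ q = 1 := by
      have := congrArg Units.val h1
      rw [Units.val_pow_eq_pow_val, Units.val_one, pow_succ'] at this
      exact this
    have h6 : (β : F) ^ q = (β : F)⁻¹ := eq_inv_of_mul_eq_one_right h5
    rw [h6] at h4
    have h7 : (β : F) ^ 3 = ((β : F)⁻¹ * (β : F)⁻¹ * (β : F)⁻¹)⁻¹ := by
      rw [mul_inv, mul_inv, inv_inv]; ring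
    rw [h7, h4, inv_one]

end Cfsg.Agent.KFacts.Mult.UnitaryNum

end

-- merged: Cfsg.Agent.KFacts.Mult.Unitary
section

/-!
# No double covers of `PSU N F q`, `q = 2^a ≥ 4`, `N ≥ 3` (ODD D10)
-/

set_option autoImplicit false
set_option linter.unusedSectionVars false

namespace Cfsg.Agent.KFacts.Mult.Unitary

open Cfsg Cfsg.Agent.LieClassical.HermBasic
open Cfsg.Agent.KFacts.MulDef Cfsg.Agent.KFacts.Mult.WeightsTwo Cfsg.Agent.KFacts.Mult.RGDW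
  Cfsg.Agent.KFacts.Mult.RGDQ Cfsg.Agent.KFacts.Mult.RGDS Cfsg.Agent.KFacts.Mult.FieldAlt
  Cfsg.Agent.KFacts.Mult.Num Cfsg.Agent.KFacts.Mult.WittT Cfsg.Agent.KFacts.Mult.WittW
open Cfsg.Agent.ChevalleyStructure.CoxeterGeom Cfsg.Agent.Tits.Roots Cfsg.Agent.Nodes.TypeC
open Cfsg.Agent.Nodes.Comb Cfsg.Agent.Nodes.Reps Cfsg.Agent.Nodes.WittRoot Cfsg.Agent.Nodes.BNOf
  Cfsg.Agent.Nodes.WittRGD Cfsg.Agent.Nodes.RGDLib
open Cfsg.Agent.TitsThree Cfsg.Agent.TitsThree.Siegel Cfsg.Agent.TitsThree.SiegelGen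
  Cfsg.Agent.TitsThree.WittFrame Cfsg.Agent.TitsThree.WittWeyl Cfsg.Agent.TitsThree.WBridge
  Cfsg.Agent.TitsThree.KSideU Cfsg.Agent.TitsThree.KSideUDesc Cfsg.Agent.TitsThree.FrameCN
open scoped commutatorElement

/-! ### Frames with one dimensional anisotropic part -/

section Odd

variable {F : Type*} [Field F] {V : Type*} [AddCommGroup V] [Module F V] {H : HForm F V} {n : ℕ}
  {Fr : Frame H (Fin n)} {W : Type*} [Group W] (cs : CoxeterSystem (CoxeterMatrix.B n) W)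

/-- `g` is diagonal on the frame, and scalar on `V0`. -/
def Dia (Fr : Frame H (Fin n)) (g : V ≃ₗ[F] V) : Prop :=
  (∀ x, ∃ l : F, g (Fr.b x) = l • Fr.b x) ∧ ∃ τ : F, ∀ w ∈ Fr.V0, g w = τ • w

theorem Dia.comm (hV0 : ∀ v, (∀ x, H.h v (Fr.b x) = 0) → v ∈ Fr.V0) {g k : V ≃ₗ[F] V} (hg : Dia Fr g)
    (hk : Dia Fr k) : g * k = k * g := by
  have hb : ∀ x, (g * k) (Fr.b x) = (k * g) (Fr.b x) := by
    intro x
    obtain ⟨l, hl⟩ := hg.1 x
    obtain ⟨m, hm⟩ := hk.1 x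
    rw [mul_apply', mul_apply', hm, map_smul, hl, map_smul, hm, smul_comm]
  have h0 : ∀ w ∈ Fr.V0, (g * k) w = (k * g) w := by
    intro w hw
    obtain ⟨τ, hτ⟩ := hg.2
    obtain ⟨ρ, hρ⟩ := hk.2
    rw [mul_apply', mul_apply', hρ w hw, map_smul, hτ w hw, map_smul, hρ w hw, smul_comm]
  have h1 : (k * g)⁻¹ * (g * k) = 1 := by
    have hinv : (k * g)⁻¹ * (k * g) = 1 := inv_mul_cancel _
    refine eq_one_of_fix' hV0 (fun x => ?_) fun w hw => ?_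
    · rw [mul_apply' (k * g)⁻¹, hb, ← mul_apply', hinv]; rfl
    · rw [mul_apply' (k * g)⁻¹, h0 w hw, ← mul_apply', hinv]; rfl
  exact (inv_mul_eq_one.1 h1).symm

variable {i : Fin n} {d : V}

/-- `g` is the torus element with parameter `a` in the last plane. -/
structure Tr (Fr : Frame H (Fin n)) (i : Fin n) (d : V) (g : V ≃ₗ[F] V) (a : F) : Prop where
  good : Good Fr g
  ap : g (Fr.b (i, true)) = a • Fr.b (i, true)
  ap' : g (Fr.b (i, false)) = (H.σ a)⁻¹ • Fr.b (i, false)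
  ne : ∀ x : Fin n × Bool, x.1 ≠ i → g (Fr.b x) = Fr.b x
  d : g d = (H.σ a * a⁻¹) • d

theorem Tr.dia {g : V ≃ₗ[F] V} {a : F} (h : Tr Fr i d g a) (hd : ∀ w ∈ Fr.V0, ∃ s : F, w = s • d) : Dia Fr g := by
  refine ⟨fun x => ?_, H.σ a * a⁻¹, fun w hw => ?_⟩
  · by_cases hx : x.1 = i
    · obtain ⟨j, s⟩ := x
      simp only at hx
      subst hx
      cases s
      · exact ⟨_, h.ap'⟩
      · exact ⟨_, h.ap⟩
    · exact ⟨1, by rw [one_smul]; exact h.ne x hx⟩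
  · obtain ⟨s, rfl⟩ := hd w hw
    rw [map_smul, h.d, smul_comm]

/-- the action on the last root group -/
theorem Tr.conj_Z {g : V ≃ₗ[F] V} {a : F} (h : Tr Fr i d g a) (p : Fr.Adm) :
    ∃ q : Fr.Adm, g * Fr.Z (i, true) p * g⁻¹ = Fr.Z (i, true) q ∧ q.w = H.σ a • g p.w ∧ q.c = a * H.σ a * p.c := by
  obtain ⟨q, h1, h2⟩ := h.good.2 p
  refine ⟨Frame.Adm.smul (H.σ a) q, WittWeyl.conj_Z Fr h.good.1 h.ap p q h1 h2, ?_, ?_⟩
  · rw [Frame.Adm.smul_w, h1]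
  · rw [Frame.Adm.smul_c, H.σσ, h2]; ring

/-- existence of torus elements -/
theorem exists_Tr {p0 : Fr.Adm} (hp0 : p0.c ≠ 0) (hp0w : p0.w = 0) (hε : H.ε = 1) (hdd : H.h d d = 1)
    (hdV : d ∈ Fr.V0) [Finite V]
    (hex : ∀ c : F, ∃ p : Fr.Adm, p.c = c ∧ ∃ s : F, p.w = s • d) (i : Fin n) {a : F} (ha : a ≠ 0) :
    ∃ g ∈ Y0 Fr cs, Tr Fr i d g a := by
  obtain ⟨p, hpc, s, hps⟩ := hex (a * p0.c)
  have hσa : H.σ a ≠ 0 := by simpa using ha
  have hσp : H.σ p0.c ≠ 0 := by simpa using hp0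
  have hpc0 : p.c ≠ 0 := by rw [hpc]; exact mul_ne_zero ha hp0
  have hη := Fr.η_ne (i, true)
  have hinv : (nZ Fr (i, true) p0)⁻¹ * nZ Fr (i, true) p0 = 1 := inv_mul_cancel _
  have hσ0 : H.σ p0.c = -p0.c := by
    have h1 := p0.herm
    rw [hp0w, H.zero_left, neg_zero, hε, one_mul] at h1
    exact (neg_eq_of_add_eq_zero_right h1).symm
  refine ⟨nZ Fr (i, true) p * (nZ Fr (i, true) p0)⁻¹,
    mul_mem (nZ_mem_Y0 cs _ _) (inv_mem (nZ_mem_Y0 cs _ _)), ?_⟩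
  refine ⟨(good_nZ _ hpc0).mul (good_nZ _ hp0).inv, ?_, ?_, ?_, ?_⟩
  · have e1 := nZ_apply_neg Fr (i, true) p0 hp0
    have e2 : (nZ Fr (i, true) p0)⁻¹ (Fr.b (i, true)) = (Fr.η (i, true) * p0.c)⁻¹ • Fr.b (neg (i, true)) := by
      have e3 : Fr.b (i, true) = (Fr.η (i, true) * p0.c)⁻¹ • nZ Fr (i, true) p0 (Fr.b (neg (i, true))) := by
        rw [e1, smul_smul, inv_mul_cancel₀ (mul_ne_zero hη hp0), one_smul]
      conv_lhs => rw [e3]
      rw [map_smul, ← mul_apply', hinv]; rfl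
    rw [mul_apply', e2, map_smul, nZ_apply_neg Fr (i, true) _ hpc0, hpc, smul_smul]
    congr 1
    field_simp
  · have e1 := nZ_apply_self Fr (i, true) p0 hp0
    have hne : H.ε * (Fr.η (i, true))⁻¹ * (H.σ p0.c)⁻¹ ≠ 0 := by
      rw [hε, one_mul]; exact mul_ne_zero (inv_ne_zero hη) (inv_ne_zero hσp)
    have e2 : (nZ Fr (i, true) p0)⁻¹ (Fr.b (neg (i, true))) =
        (H.ε * (Fr.η (i, true))⁻¹ * (H.σ p0.c)⁻¹)⁻¹ • Fr.b (i, true) := by
      have e3 : Fr.b (neg (i, true)) =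
          (H.ε * (Fr.η (i, true))⁻¹ * (H.σ p0.c)⁻¹)⁻¹ • nZ Fr (i, true) p0 (Fr.b (i, true)) := by
        rw [e1, smul_smul, inv_mul_cancel₀ hne, one_smul]
      conv_lhs => rw [e3]
      rw [map_smul, ← mul_apply', hinv]; rfl
    show (nZ Fr (i, true) p * (nZ Fr (i, true) p0)⁻¹) (Fr.b (neg (i, true))) = _ • Fr.b (neg (i, true))
    rw [mul_apply', e2, map_smul, nZ_apply_self Fr (i, true) _ hpc0, hpc, map_mul, smul_smul, hε]
    congr 1
    field_simp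
  · intro x hx
    have e1 := nZ_apply_of_ne Fr (x := (i, true)) (z := x) hx p0
    have e2 : (nZ Fr (i, true) p0)⁻¹ (Fr.b x) = Fr.b x := by
      conv_lhs => rw [← e1]
      rw [← mul_apply', hinv]; rfl
    rw [mul_apply', e2, nZ_apply_of_ne Fr (x := (i, true)) hx]
  · have e1 : nZ Fr (i, true) p0 d = d := by
      rw [nZ_apply_V0 Fr _ _ hp0 hdV, hp0w]; simp
    have e2 : (nZ Fr (i, true) p0)⁻¹ d = d := by
      conv_lhs => rw [← e1]
      rw [← mul_apply', hinv]; rfl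
    have h1 := p.herm
    rw [hps, H.smul_left, H.smul_right, hdd, hε, one_mul, mul_one, hpc, map_mul, hσ0] at h1
    rw [mul_apply', e2, nZ_apply_V0 Fr _ _ hpc0 hdV, hps, H.smul_right, hdd, mul_one, smul_smul, hε, hpc]
    have h2 : H.σ s * s = -(a * p0.c) + H.σ a * p0.c := by linear_combination h1
    have h3 : d + ((1 : F)⁻¹ * (a * p0.c)⁻¹ * H.σ s * s) • d = ((1 : F) + (a * p0.c)⁻¹ * (H.σ s * s)) • d := by
      rw [add_smul, one_smul]; congr 2; rw [inv_one]; ring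
    rw [h3, h2]
    congr 1
    field_simp
    ring

/-- the coordinate of an element of the last root group modulo its centre -/
def kap (Fr : Frame H (Fin n)) (i : Fin n) (d : V) (g : Y0 Fr cs) : F :=
  H.h (g.1 (Fr.b (neg (i, true)))) d * (Fr.η (i, true))⁻¹

theorem kap_Z (hdV : d ∈ Fr.V0) {g : Y0 Fr cs} {p : Fr.Adm} (hg : g.1 = Fr.Z (i, true) p) :
    kap cs Fr i d g = H.h p.w d := by
  have hη := Fr.η_ne (i, true)
  rw [kap, hg, Z_apply_neg, H.add_left, H.add_left, H.smul_left, H.smul_left, Fr.h0 _ _ hdV, Fr.h0 _ _ hdV]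
  field_simp
  ring

theorem exists_of_mem {g : Y0 Fr cs} (hg : g ∈ (ZG Fr (i, true)).subgroupOf (Y0 Fr cs)) :
    ∃ p : Fr.Adm, g.1 = Fr.Z (i, true) p := Subgroup.mem_subgroupOf.1 hg

theorem mem_of_eq {g : Y0 Fr cs} {p : Fr.Adm} (hg : g.1 = Fr.Z (i, true) p) :
    g ∈ (ZG Fr (i, true)).subgroupOf (Y0 Fr cs) := Subgroup.mem_subgroupOf.2 ⟨p, hg⟩

/-- assumptions on the frame -/
structure OddFr (Fr : Frame H (Fin n)) (d : V) : Prop where
  two : ∀ a : F, a + a = 0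
  ε : H.ε = 1
  dd : H.h d d = 1
  dV : d ∈ Fr.V0
  span : ∀ w ∈ Fr.V0, ∃ s : F, w = s • d
  ex : ∀ s : F, ∃ p : Fr.Adm, p.w = s • d
  exc : ∀ c : F, ∃ p : Fr.Adm, p.c = c ∧ ∃ s : F, p.w = s • d
  tr : ∀ c : F, H.σ c = c → ∃ s : F, s + H.σ s = c
  V0 : ∀ v, (∀ x, H.h v (Fr.b x) = 0) → v ∈ Fr.V0

variable (hO : OddFr Fr d)

include hO

theorem w_eq_zero {p : Fr.Adm} (h : H.h p.w d = 0) : p.w = 0 := by
  obtain ⟨s, hs⟩ := hO.span _ (Fr.ok_mem p.ok)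
  rw [hs, H.smul_left, hO.dd, mul_one] at h
  rw [hs, h, zero_smul]

theorem acts_of {g : V ≃ₗ[F] V} (hgY : g ∈ Y0 Fr cs) {a : F} (hg : Tr Fr i d g a) :
    Heis.Acts ((ZG Fr (i, true)).subgroupOf (Y0 Fr cs)) (kap cs Fr i d) ⟨g, hgY⟩ (H.σ a * H.σ a * a⁻¹) := by
  constructor
  · intro x hx
    obtain ⟨p, hp⟩ := exists_of_mem cs hx
    obtain ⟨q, h1, -, -⟩ := hg.conj_Z p
    refine mem_of_eq cs (p := q) ?_
    rw [← h1, ← hp]; rfl
  · intro x hx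
    obtain ⟨p, hp⟩ := exists_of_mem cs hx
    obtain ⟨q, h1, h2, -⟩ := hg.conj_Z p
    obtain ⟨s, hs⟩ := hO.span _ (Fr.ok_mem p.ok)
    rw [kap_Z cs hO.dV hp, kap_Z cs hO.dV (p := q) (by rw [← h1, ← hp]; rfl), h2, hs, map_smul, hg.d,
      H.smul_left, H.smul_left, H.smul_left, H.smul_left, hO.dd]
    ring

/-- commutators in the last root group -/
theorem mem_der {z : Y0 Fr cs} (hz : z ∈ (ZG Fr (i, true)).subgroupOf (Y0 Fr cs)) (hz0 : kap cs Fr i d z = 0) :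
    z ∈ ⁅(ZG Fr (i, true)).subgroupOf (Y0 Fr cs), (ZG Fr (i, true)).subgroupOf (Y0 Fr cs)⁆ := by
  obtain ⟨p, hp⟩ := exists_of_mem cs hz
  rw [kap_Z cs hO.dV hp] at hz0
  have hw := w_eq_zero hO hz0
  have hneg : ∀ a : F, -a = a := fun a => neg_eq_of_add_eq_zero_left (hO.two a)
  have hc : H.σ p.c = p.c := by
    have h1 := p.herm
    rw [hw, H.zero_left, neg_zero, hO.ε, one_mul] at h1
    rw [← hneg (H.σ p.c)]
    exact (eq_neg_of_add_eq_zero_left h1).symm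
  obtain ⟨s, hs⟩ := hO.tr p.c hc
  obtain ⟨p₁, h₁⟩ := hO.ex s
  obtain ⟨p₂, h₂⟩ := hO.ex 1
  rw [one_smul] at h₂
  have h3 : p₁ * p₂ = p * (p₂ * p₁) := by
    apply Frame.Adm.ext
    · rw [Frame.Adm.mul_w, Frame.Adm.mul_w, Frame.Adm.mul_w, hw, zero_add, add_comm]
    · rw [Frame.Adm.mul_c, Frame.Adm.mul_c, Frame.Adm.mul_c, hw, H.zero_right, h₁, h₂, hO.ε, H.smul_right,
        H.smul_left, hO.dd, ← hs]
      have := hneg (H.σ s * 1)
      have := hneg (s * 1)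
      rw [sub_eq_add_neg, sub_eq_add_neg, sub_eq_add_neg, inv_one, one_mul, one_mul, mul_one, mul_one, hneg, hneg,
        mul_zero, neg_zero, add_zero]
      have h4 := hO.two s
      linear_combination -h4
  have h4 : z = ⁅(⟨Fr.Z (i, true) p₁, Z_mem_Y0 cs _ _⟩ : Y0 Fr cs), (⟨Fr.Z (i, true) p₂, Z_mem_Y0 cs _ _⟩ : Y0 Fr cs)⁆ := by
    apply Subtype.ext
    show z.1 = ⁅Fr.Z (i, true) p₁, Fr.Z (i, true) p₂⁆
    rw [commutatorElement_def, ← Fr.Z_mul, h3, Fr.Z_mul, Fr.Z_mul, hp]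
    group
  rw [h4]
  exact Subgroup.commutator_mem_commutator (mem_of_eq cs (p := p₁) rfl) (mem_of_eq cs (p := p₂) rfl)

/-- **The preimage of the last root group splits.** -/
theorem spl_last [Finite V] {T0 : Subgroup (V ≃ₗ[F] V)} {p : ℕ} [hpf : Fact p.Prime] {p0 : Fr.Adm} {l : F}
    (hh : Hyp Fr p0 T0 p l) (hp0w : p0.w = 0) (i : Fin n)
    {u a₁ a₂ b : F} (hu0 : u ≠ 0) (hu1 : 1 + u ≠ 0) (hu2 : u * u + u + 1 ≠ 0) (ha₁ : a₁ ≠ 0) (ha₂ : a₂ ≠ 0)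
    (e₁ : H.σ a₁ * H.σ a₁ * a₁⁻¹ = u) (e₂ : H.σ a₂ * H.σ a₂ * a₂⁻¹ = 1 + u)
    (hb0 : b ≠ 0) (hb1 : b * H.σ b = 1) (hb2 : H.σ b * H.σ b * b⁻¹ ≠ 1) :
    Spl ((TD Fr T0 p).subgroupOf (Y0 Fr cs)) ((ZG Fr (i, true)).subgroupOf (Y0 Fr cs)) := by
  obtain ⟨gμ, hμY, hμ⟩ := exists_Tr cs hh.c0 hp0w hO.ε hO.dd hO.dV hO.exc i hb0
  obtain ⟨gt, htY, ht⟩ := exists_Tr cs hh.c0 hp0w hO.ε hO.dd hO.dV hO.exc i hh.l0
  obtain ⟨g₁, h₁Y, h₁⟩ := exists_Tr cs hh.c0 hp0w hO.ε hO.dd hO.dV hO.exc i ha₁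
  obtain ⟨g₂, h₂Y, h₂⟩ := exists_Tr cs hh.c0 hp0w hO.ε hO.dd hO.dV hO.exc i ha₂
  have hdt := ht.dia hO.span
  have hl1 := hh.ne_one
  have hl2 := hh.sq_ne
  have hσl := hh.lσ
  have hD : Heis.Data ((ZG Fr (i, true)).subgroupOf (Y0 Fr cs)) (kap cs Fr i d) ⟨gμ, hμY⟩ ⟨gt, htY⟩ ⟨g₁, h₁Y⟩
      ⟨g₂, h₂Y⟩ (H.σ b * H.σ b * b⁻¹) (H.σ l * H.σ l * l⁻¹) u :=
    { add := by
        intro x hx y hy
        obtain ⟨p, hp⟩ := exists_of_mem cs hx
        obtain ⟨q, hq⟩ := exists_of_mem cs hy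
        rw [kap_Z cs hO.dV hp, kap_Z cs hO.dV hq, kap_Z cs hO.dV (p := p * q) (by
          rw [Fr.Z_mul, ← hp, ← hq]; rfl), Frame.Adm.mul_w, H.add_left]
      surj := by
        intro a
        obtain ⟨p, hp⟩ := hO.ex a
        refine ⟨⟨Fr.Z (i, true) p, Z_mem_Y0 cs _ _⟩, mem_of_eq cs (p := p) rfl, ?_⟩
        rw [kap_Z cs hO.dV (p := p) rfl, hp, H.smul_left, hO.dd, mul_one]
      cen := by
        intro z hz hz0 x hx
        obtain ⟨p, hp⟩ := exists_of_mem cs hz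
        obtain ⟨q, hq⟩ := exists_of_mem cs hx
        rw [kap_Z cs hO.dV hp] at hz0
        have hw := w_eq_zero hO hz0
        apply Subtype.ext
        show z.1 * x.1 = x.1 * z.1
        rw [hp, hq, ← Fr.Z_mul, ← Fr.Z_mul]
        congr 1
        apply Frame.Adm.ext
        · rw [Frame.Adm.mul_w, Frame.Adm.mul_w, add_comm]
        · rw [Frame.Adm.mul_c, Frame.Adm.mul_c, hw, H.zero_left, H.zero_right]; ring
      der := fun z hz hz0 => mem_der cs hO hz hz0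
      actμ := acts_of cs hO hμY hμ
      hm := hb2
      centμ := by
        intro z hz hz0
        obtain ⟨p, hp⟩ := exists_of_mem cs hz
        rw [kap_Z cs hO.dV hp] at hz0
        have hw := w_eq_zero hO hz0
        obtain ⟨q, hq1, hq2, hq3⟩ := hμ.conj_Z p
        have hqp : q = p := by
          apply Frame.Adm.ext
          · rw [hq2, hw, map_zero, smul_zero]
          · rw [hq3, hb1, one_mul]
        apply Subtype.ext
        show gμ * z.1 = z.1 * gμ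
        rw [hp, ← mul_inv_eq_iff_eq_mul, hq1, hqp]
      actt := acts_of cs hO htY ht
      hl := by
        rw [hσl, mul_assoc, mul_inv_cancel₀ hh.l0, mul_one]; exact hl1
      free := by
        intro z hz hz0 hc
        obtain ⟨p, hp⟩ := exists_of_mem cs hz
        rw [kap_Z cs hO.dV hp] at hz0
        have hw := w_eq_zero hO hz0
        obtain ⟨q, hq1, hq2, hq3⟩ := ht.conj_Z p
        have hc' : gt * z.1 = z.1 * gt := congrArg Subtype.val hc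
        rw [hp, ← mul_inv_eq_iff_eq_mul, hq1] at hc'
        have hqp := Z_inj hc'
        rw [hqp, hσl] at hq3
        have hc0 : p.c = 0 := by
          by_contra hne
          exact hl2 (mul_right_cancel₀ hne (hq3.symm.trans (one_mul _).symm))
        have hp1 : p = 1 := Frame.Adm.ext hw hc0
        apply Subtype.ext
        rw [hp, hp1, Fr.Z_one]; rfl
      odd := by
        refine ⟨p, hh.odd, Subtype.ext ?_⟩
        show gt ^ p = 1
        have hpow : ∀ (v : V) (m : F), gt v = m • v → ∀ k : ℕ, (gt ^ k) v = m ^ k • v := by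
          intro v m hv k
          induction k with
          | zero => rw [pow_zero, pow_zero, one_smul]; rfl
          | succ k ih => rw [pow_succ, mul_apply', hv, map_smul, ih, smul_smul, pow_succ, mul_comm]
        refine eq_one_of_fix' hO.V0 (fun x => ?_) fun w hw => ?_
        · by_cases hx : x.1 = i
          · obtain ⟨j, s⟩ := x
            simp only at hx
            subst hx
            cases s
            · rw [hpow _ _ ht.ap', hσl, inv_pow, hh.pow, inv_one, one_smul]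
            · rw [hpow _ _ ht.ap, hh.pow, one_smul]
          · rw [hpow _ 1 (by rw [one_smul]; exact ht.ne x hx), one_pow, one_smul]
        · obtain ⟨s, rfl⟩ := hO.span w hw
          rw [map_smul, hpow d _ ht.d, hσl, mul_inv_cancel₀ hh.l0, one_pow, one_smul]
      act₁ := e₁ ▸ acts_of cs hO h₁Y h₁
      act₂ := e₂ ▸ acts_of cs hO h₂Y h₂
      comm₁ := Subtype.ext ((h₁.dia hO.span).comm hO.V0 hdt)
      comm₂ := Subtype.ext ((h₂.dia hO.span).comm hO.V0 hdt)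
      u0 := hu0
      u1 := hu1
      u2 := hu2
      two := hO.two }
  -- elements of `TD`
  have hTD : ∀ s : Y0 Fr cs, s ∈ (TD Fr T0 p).subgroupOf (Y0 Fr cs) → ∃ l : F, s.1 (Fr.b (i, true)) = l • Fr.b (i, true) ∧
      H.σ l = l ∧ Dia Fr s.1 ∧ H.IsIso s.1 ∧ ∀ w ∈ Fr.V0, s.1 w = w := by
    intro s hs
    obtain ⟨h1, h2, h3⟩ := mem_TD.1 (Subgroup.mem_subgroupOf.1 hs)
    obtain ⟨l, -, hl', e⟩ := h2 (i, true)
    refine ⟨l, e, hl', ⟨fun x => ?_, 1, fun w hw => by rw [one_smul]; exact h3 w hw⟩, (hh.tor.good _ h1).1, h3⟩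
    obtain ⟨m, -, -, e'⟩ := h2 x
    exact ⟨m, e'⟩
  have hconj : ∀ s : Y0 Fr cs, s ∈ (TD Fr T0 p).subgroupOf (Y0 Fr cs) → ∀ q : Fr.Adm, ∃ l : F,
      s.1 * Fr.Z (i, true) q * s.1⁻¹ = Fr.Z (i, true) (Frame.Adm.smul l q) := by
    intro s hs q
    obtain ⟨l, e, hl, -, hiso, h0⟩ := hTD s hs
    exact ⟨H.σ l, WittWeyl.conj_Z Fr hiso e q q (h0 _ (Fr.ok_mem q.ok)) rfl⟩
  refine hD.spl ?_ ?_ ?_
  · intro s hs
    obtain ⟨l, -, -, hdia, -, -⟩ := hTD s hs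
    exact Subtype.ext (hdia.comm hO.V0 hdt)
  · intro s hs x hx
    obtain ⟨q, hq⟩ := exists_of_mem cs hx
    obtain ⟨l, hl⟩ := hconj s hs q
    refine mem_of_eq cs (p := Frame.Adm.smul l q) ?_
    rw [← hl, ← hq]; rfl
  · intro s hs x hx hx0
    obtain ⟨q, hq⟩ := exists_of_mem cs hx
    obtain ⟨l, hl⟩ := hconj s hs q
    rw [kap_Z cs hO.dV hq] at hx0
    rw [kap_Z cs hO.dV (p := Frame.Adm.smul l q) (by rw [← hl, ← hq]; rfl), Frame.Adm.smul_w, H.smul_left, hx0,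
      mul_zero]

end Odd

/-! ### Frames without anisotropic part -/

section Even

variable {F : Type*} [Field F] {V : Type*} [AddCommGroup V] [Module F V] {H : HForm F V} {n : ℕ}
  {Fr : Frame H (Fin n)} {W : Type*} [Group W] (cs : CoxeterSystem (CoxeterMatrix.B n) W)

/-- commutative preimage of a type II root group `{Z_x(0, c)}` from another index -/
theorem abPre_even (htr : ∀ p : Fr.Adm, ∃ m : F, p = Frame.Adm.tr m)
    {x y : Fin n × Bool} (hxy : x.1 ≠ y.1) : AbPre ((ZG Fr x).subgroupOf (Y0 Fr cs)) := by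
  apply AbPre.of_le_commutator
  rintro ⟨g, hg⟩ hgz
  rw [Subgroup.mem_subgroupOf] at hgz
  obtain ⟨p, hp⟩ := hgz
  have hp' : g = Fr.Z x p := hp
  subst hp'
  obtain ⟨m, hm⟩ := htr p
  have hη := Fr.η_ne (neg y)
  have e0 := Fr.X_mul_X_same hxy (1 : F) (m * Fr.η (neg y))
  rw [map_one, one_mul, mul_assoc, mul_inv_cancel₀ hη, mul_one, ← hm] at e0
  have e1 : (⟨Fr.Z x p, hg⟩ : Y0 Fr cs) =
      ⁅(⟨Fr.X x y 1, X_mem_Y0 cs _ _ _⟩ : Y0 Fr cs), (⟨Fr.X x (neg y) (m * Fr.η (neg y)), X_mem_Y0 cs _ _ _⟩ : Y0 Fr cs)⁆ := by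
    apply Subtype.ext
    show Fr.Z x p = ⁅Fr.X x y 1, Fr.X x (neg y) (m * Fr.η (neg y))⁆
    rw [commutatorElement_def, e0]
    group
  rw [e1]
  have hself : ∀ x : Fin n × Bool, x ≠ neg x := ne_neg_self
  have hcomm : ∀ z : Fin n × Bool, x.1 ≠ z.1 → ∀ t, (⟨Fr.X x z t, X_mem_Y0 cs _ _ _⟩ : Y0 Fr cs) ∈
      Subgroup.centralizer ((ZG Fr x).subgroupOf (Y0 Fr cs) : Set (Y0 Fr cs)) := by
    intro z hz t
    rw [Subgroup.mem_centralizer_iff]
    rintro ⟨k, hk⟩ hkz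
    rw [SetLike.mem_coe, Subgroup.mem_subgroupOf] at hkz
    obtain ⟨q, hq⟩ := hkz
    have hq' : k = Fr.Z x q := hq
    subst hq'
    apply Subtype.ext
    exact (Fr.commute_ZX (x := x) (y := x) (z := z) (hself x) (Frame.ne_neg hz) q t).eq
  exact Subgroup.commutator_mem_commutator (hcomm y hxy _) (hcomm (neg y) hxy _)

end Even

/-! ### The unitary groups -/

section Main

variable {F : Type*} [Field F] [Fintype F] {q N a : ℕ}

theorem charTwo_of_card (hF : Fintype.card F = q ^ 2) (hq : q = 2 ^ a) : CharP F 2 := by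
  obtain ⟨p, hp⟩ := CharP.exists F
  have hpp : p.Prime := (CharP.char_is_prime_or_zero F p).resolve_right (fun h0 => by
    subst h0
    exact CharP.char_ne_zero_of_finite F 0 rfl)
  obtain ⟨n, -, hn⟩ := FiniteField.card F p
  have h2 : p ∣ 2 := by
    have h3 : p ∣ 2 ^ (a * 2) := by
      rw [pow_mul, ← hq, ← hF, hn]
      exact dvd_pow_self p n.2.ne'
    exact hpp.dvd_of_dvd_pow h3
  have h3 : p = 2 := (Nat.prime_dvd_prime_iff_eq hpp Nat.prime_two).1 h2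
  exact h3 ▸ hp

theorem noDouble_PSU (hF : Fintype.card F = q ^ 2) (hq : q = 2 ^ a) (ha : 2 ≤ a) (hN : 3 ≤ N) :
    NoDouble (PSU N F q) := by
  have hchar := charTwo_of_card hF hq
  have hF' : Nat.card F = q ^ 2 := by rw [Nat.card_eq_fintype_card, hF]
  have hq4 : 4 ≤ q := by
    rw [hq]; exact Nat.pow_le_pow_right (n := 2) (by norm_num) ha
  have hcardF : 4 < Nat.card F := by rw [hF']; nlinarith
  have htwo : ∀ x : F, x + x = 0 := fun x => CharTwo.add_self_eq_zero x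
  have hneg : ∀ x : F, -x = x := fun x => CharTwo.neg_eq x
  obtain ⟨p, hp, l, hodd, hl0, hlo, hlq⟩ := UnitaryNum.exists_scalar (F := F) hF' hq ha
  obtain ⟨u, a₁, a₂, hu0, hu1, hu2, ha₁, ha₂, e₁, e₂⟩ := UnitaryNum.exists_u (F := F) hF' hq ha
  obtain ⟨b, hb0, hb1, hb2⟩ := UnitaryNum.exists_norm_one (F := F) hF' hq4
  obtain ⟨m, hm⟩ : ∃ m, N = 2 * m ∨ N = 2 * m + 1 := ⟨N / 2, by omega⟩
  have hm0 : 0 < m := by omega
  -- the common part
  have main : ∀ (W : WFrame (PU hF N) m), (∀ (p0 : (toFrame W).Adm) (hh : Hyp (toFrame W) p0 (Tor (toFrame W) (IU F q N)) p l),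
      p0.w = 0 → ∀ i : Fin m, ¬ (i : ℕ) + 1 < m →
      Spl ((TD (toFrame W) (Tor (toFrame W) (IU F q N)) p).subgroupOf (Y0 (toFrame W) (CoxeterMatrix.B m).toCoxeterSystem))
        ((ZG (toFrame W) (i, true)).subgroupOf (Y0 (toFrame W) (CoxeterMatrix.B m).toCoxeterSystem))) →
      NoDouble (PSU N F q) := by
    intro W hspl
    obtain ⟨p0, hp0, hp0w⟩ := Cfsg.Agent.Nodes.WittU.exists_adm hF W
    have hA := Cfsg.Agent.Nodes.WittU.amb_U hF W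
    have hh : Hyp (toFrame W) p0 (Tor (toFrame W) (IU F q N)) p l :=
      { tor := torT_of_amb hA hp0
        aniso := hA.ok_aniso
        c0 := hp0
        V0 := hA.V0
        odd := hodd
        l0 := hl0
        lσ := hlq
        ord := hlo }
    refine noDouble_model (CoxeterMatrix.B m).toCoxeterSystem hh hm0 (KInstU.model hF hN W) fun i => ?_
    by_cases hi : (i : ℕ) + 1 < m
    · exact spl_of_abPre' _ hh (abPre_field _ hcardF (nx_ne hi))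
    · have hnx : nx i = (i, true) := by unfold nx; rw [dif_neg hi]
      rw [hnx, PG_self]
      exact hspl p0 hh hp0w i hi
  rcases hm with hm | hm
  · -- even dimension
    obtain ⟨W, hW⟩ := exists_wframe_even hF hm
    refine main W fun p0 hh _ i hi => ?_
    have hm2 : 2 ≤ m := by omega
    have hw : ∀ r : (toFrame W).Adm, r.w = 0 := by
      intro r
      have h1 := r.ok.1
      rw [hW] at h1
      exact (Submodule.mem_bot F).1 h1
    have htr : ∀ r : (toFrame W).Adm, ∃ s : F, r = Frame.Adm.tr s := by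
      intro r
      have h1 := r.herm
      rw [hw r, HForm.zero_left, neg_zero, HU_ε, one_mul, HU_σ] at h1
      have h2 : r.c ^ q = r.c := by
        rw [← hneg (r.c ^ q)]
        exact (eq_neg_of_add_eq_zero_left h1).symm
      obtain ⟨s, hs⟩ := exists_trace_eq hF h2
      refine ⟨s, Frame.Adm.ext (hw r) ?_⟩
      rw [Frame.Adm.tr_c, HU_ε, inv_one, one_mul, HU_σ, sub_eq_add_neg, hneg, hs]
    have hj : ∃ j : Fin m, i ≠ j := by
      by_contra hcon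
      push Not at hcon
      have h1 := hcon ⟨0, hm0⟩
      have h2 := hcon ⟨1, by omega⟩
      have h3 := h1.symm.trans h2
      rw [Fin.mk.injEq] at h3
      omega
    obtain ⟨j, hij⟩ := hj
    have hab := abPre_even (CoxeterMatrix.B m).toCoxeterSystem htr (x := (i, true)) (y := (j, true)) hij
    have hnx : nx i = (i, true) := by unfold nx; rw [dif_neg hi]
    have h3 := spl_of_abPre' (CoxeterMatrix.B m).toCoxeterSystem hh (i := i) (by rw [hnx, PG_self]; exact hab)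
    rwa [hnx, PG_self] at h3
  · -- odd dimension
    obtain ⟨W, d, hdd, hW⟩ := exists_wframe_odd hF hm
    refine main W fun p0 hh hp0w i hi => ?_
    have hO : OddFr (toFrame W) d :=
      { two := htwo
        ε := rfl
        dd := hdd
        dV := by
          show d ∈ W.V0
          rw [hW]; exact Submodule.mem_span_singleton_self d
        span := by
          intro w hw
          have h1 : w ∈ W.V0 := hw
          rw [hW] at h1
          obtain ⟨s, hs⟩ := Submodule.mem_span_singleton.1 h1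
          exact ⟨s, hs.symm⟩
        ex := by
          intro s
          obtain ⟨c, hc⟩ := (PU hF N).ex (s • d)
          exact ⟨⟨s • d, c, by
            show s • d ∈ W.V0
            rw [hW]; exact Submodule.smul_mem _ _ (Submodule.mem_span_singleton_self d), hc⟩, rfl⟩
        exc := by
          intro c
          have h1 : (-(c + c ^ q)) ^ q = -(c + c ^ q) := by
            rw [neg_pow_q hF, add_pow_q hF, pow_q_pow_q hF, add_comm]
          obtain ⟨s, hs⟩ := exists_norm_eq hF h1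
          refine ⟨⟨s • d, c, ?_, ?_⟩, rfl, s, rfl⟩
          · show s • d ∈ W.V0
            rw [hW]; exact Submodule.smul_mem _ _ (Submodule.mem_span_singleton_self d)
          · rw [ok_iff, herm_smul_left, herm_smul_right, hdd, mul_one, hs, _root_.neg_neg]
        tr := by
          intro c hc
          exact exists_trace_eq hF hc
        V0 := hh.V0 }
    exact spl_last (CoxeterMatrix.B m).toCoxeterSystem hO hh hp0w i hu0 hu1 hu2 ha₁ ha₂ e₁ e₂ hb0 hb1 hb2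

/-! ### The literal fields of `OddHalf/D9/MultOf.lean` -/

theorem card_eq {F : Type*} [Fintype F] {a : ℕ} (hF : Fintype.card F = 4 ^ a) : Fintype.card F = (2 ^ a) ^ 2 := by
  rw [hF, ← pow_mul, mul_comm, pow_mul]
  norm_num

theorem u3 (F : Type) [Field F] [Fintype F] (a : ℕ) (ha : 2 ≤ a) (hF : Fintype.card F = 4 ^ a) :
    NoDouble (PSU 3 F (2 ^ a)) := noDouble_PSU (card_eq hF) rfl ha le_rfl

theorem u4 (F : Type) [Field F] [Fintype F] (a : ℕ) (ha : 2 ≤ a) (hF : Fintype.card F = 4 ^ a) :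
    NoDouble (PSU 4 F (2 ^ a)) := noDouble_PSU (card_eq hF) rfl ha (by norm_num)

theorem u5 (F : Type) [Field F] [Fintype F] (a : ℕ) (ha : 2 ≤ a) (hF : Fintype.card F = 4 ^ a) :
    NoDouble (PSU 5 F (2 ^ a)) := noDouble_PSU (card_eq hF) rfl ha (by norm_num)

theorem u (F : Type) [Field F] [Fintype F] (a n : ℕ) (ha : 2 ≤ a) (hF : Fintype.card F = 4 ^ a) (hn : 6 ≤ n) :
    NoDouble (PSU n F (2 ^ a)) := noDouble_PSU (card_eq hF) rfl ha (by omega)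

end Main

end Cfsg.Agent.KFacts.Mult.Unitary

end
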