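import Cfsg.Agent.KFacts.Mult.Chain
import Cfsg.Agent.KFacts.Mult.Calc
import Cfsg.Agent.TitsThree.FrameCN

-- merged: Cfsg.Agent.KFacts.Mult.ChainZ
section

/-!
# Splitting of a double cover over a chain of root groups, some of them centralised by the torus (helper430)

`CM π W x y`: the lifts of `x` and `y` commute modulo `W`.

`exists_cpl`: `V k` is the subgroup generated by the sets `gens j`, `j < k`. If lifts of elements of `gens k` and of
`gens l` commute modulo any complement of `⟨c⟩` in the preimage of `V k` (which contains the prescribed elements `spec j`,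
`j < k`), and `gens k` is either moved by the group `T` of odd order or a single involution `z` (centralised by `T`, with
a lift which is an involution), then `⟨c⟩` has a complement over all the `V k`.
-/

set_option autoImplicit false
set_option linter.style.haveILetI false

namespace Cfsg.Agent.KFacts.Mult.ChainZ

open Subgroup Cfsg.Agent.KFacts.MulTwo Cfsg.Agent.KFacts.MulDef Cfsg.Agent.KFacts.Mult.Chain
open Cfsg.Agent.KFacts.Mult.Calc
open scoped commutatorElement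

variable {L X : Type*} [Group L] [Group X] {π : L →* X} {c : L}

/-- The step of the construction (helper611, `Chain.step`), with `W' ≤ W`. -/
theorem stepLe (hd : Dbl π c) {U V V' T : Subgroup X} {W' : Subgroup L} [Fintype T] (hT : Odd (Fintype.card T))
    (hVU : V ≤ U) (hTV : ∀ t ∈ T, ∀ v ∈ V, t * v * t⁻¹ ∈ V) (hW' : Cpl π c U T V' W') (hV'V : V' ≤ V)
    (hcomm : ∀ v u : L, π v ∈ V → π u ∈ U → ⁅v, u⁆ ∈ W')
    (hgen : ∀ v ∈ V, v ∈ closure {x : X | ∃ t ∈ T, ∃ v ∈ V, x = t * v * t⁻¹ * v⁻¹} ⊔ V') :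
    ∃ W : Subgroup L, Cpl π c U T V W ∧ W' ≤ W := by
  classical
  let VL : Subgroup L := V.comap π
  have memVL : ∀ x : L, x ∈ VL ↔ π x ∈ V := fun x => Iff.rfl
  have hWV : W' ≤ VL := fun w hw => hV'V (hW'.le w hw)
  have hcV : c ∈ VL := by
    rw [memVL, (hd.ker c).2 (Or.inr rfl)]; exact one_mem _
  have hn : (W'.subgroupOf VL).Normal := by
    constructor
    intro w hw g
    exact hW'.conjU g (hVU g.2) w hw
  let A := ↥VL ⧸ W'.subgroupOf VL
  let mk : ↥VL →* A := QuotientGroup.mk' (W'.subgroupOf VL)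
  have mk_eq : ∀ x y : ↥VL, mk x = mk y ↔ (x : L)⁻¹ * y ∈ W' := by
    intro x y
    show (QuotientGroup.mk x : A) = QuotientGroup.mk y ↔ _
    rw [QuotientGroup.eq]
    rfl
  have mk_one : ∀ x : ↥VL, mk x = 1 ↔ (x : L) ∈ W' := by
    intro x
    show (QuotientGroup.mk x : A) = 1 ↔ _
    rw [QuotientGroup.eq_one_iff]
    rfl
  have hcommA : ∀ a b : A, a * b = b * a := by
    intro a b
    obtain ⟨x, rfl⟩ := QuotientGroup.mk'_surjective _ a
    obtain ⟨y, rfl⟩ := QuotientGroup.mk'_surjective _ b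
    show mk x * mk y = mk y * mk x
    rw [← map_mul, ← map_mul, mk_eq]
    have h1 := hcomm (y : L)⁻¹ (x : L)⁻¹ (VL.inv_mem y.2) (by rw [map_inv]; exact inv_mem (hVU x.2))
    have h2 : ⁅(y : L)⁻¹, (x : L)⁻¹⁆ = ((x * y : ↥VL) : L)⁻¹ * ((y * x : ↥VL) : L) := by
      rw [commutatorElement_def]; push_cast; group
    rwa [h2] at h1
  letI : CommGroup A := { (inferInstance : Group A) with mul_comm := hcommA }
  -- lifts of the elements of `T`
  let s : X → L := Function.surjInv hd.surj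
  have hs : ∀ x, π (s x) = x := Function.surjInv_eq hd.surj
  have hcj : ∀ t : L, π t ∈ T → ∀ v ∈ VL, t * v * t⁻¹ ∈ VL := by
    intro t ht v hv
    rw [memVL, map_mul, map_mul, map_inv]
    exact hTV _ ht _ hv
  let cj : ∀ t : L, π t ∈ T → (↥VL →* ↥VL) := fun t ht =>
    { toFun := fun v => ⟨t * v * t⁻¹, hcj t ht v v.2⟩
      map_one' := by apply Subtype.ext; simp
      map_mul' := by
        intro x y
        apply Subtype.ext
        show t * (x * y) * t⁻¹ = t * x * t⁻¹ * (t * y * t⁻¹)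
        group }
  have hsT : ∀ t : T, π (s t) ∈ T := fun t => by rw [hs]; exact t.2
  let N : ↥VL →* A := ∏ t : T, mk.comp (cj (s t) (hsT t))
  have hN : ∀ v : ↥VL, N v = ∏ t : T, mk (cj (s t) (hsT t) v) := by
    intro v
    show (∏ t : T, mk.comp (cj (s t) (hsT t))) v = _
    rw [MonoidHom.finsetProd_apply]
    rfl
  -- invariance
  have hNinv : ∀ (t : L) (ht : π t ∈ T) (v : ↥VL), N (cj t ht v) = N v := by
    intro t ht v
    rw [hN, hN]
    refine Fintype.prod_equiv (Equiv.mulRight (⟨π t, ht⟩ : T)) _ _ ?_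
    intro r
    congr 1
    apply Subtype.ext
    show s r * (t * v * t⁻¹) * (s r)⁻¹ = s (r * π t : X) * v * (s (r * π t : X))⁻¹
    have h1 : π (s r * t) = π (s (r * π t : X)) := by rw [map_mul, hs, hs]
    rw [← conj_eq hd h1]
    group
  have hNW : ∀ w : ↥VL, (w : L) ∈ W' → N w = 1 := by
    intro w hw
    rw [hN]
    apply Finset.prod_eq_one
    intro t _
    rw [mk_one]
    exact hW'.conjT _ (hsT t) _ hw
  have hNc : N ⟨c, hcV⟩ = mk ⟨c, hcV⟩ := by
    rw [hN]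
    have h1 : ∀ t : T, mk (cj (s t) (hsT t) ⟨c, hcV⟩) = mk ⟨c, hcV⟩ := by
      intro t
      congr 1
      apply Subtype.ext
      show s t * c * (s t)⁻¹ = c
      rw [← hd.cen, mul_inv_cancel_right]
    rw [Finset.prod_congr rfl fun t _ => h1 t, Finset.prod_const, Finset.card_univ]
    obtain ⟨k, hk⟩ := hT
    have h2 : mk ⟨c, hcV⟩ * mk ⟨c, hcV⟩ = 1 := by
      rw [← map_mul]
      have : (⟨c, hcV⟩ * ⟨c, hcV⟩ : ↥VL) = 1 := Subtype.ext hd.sq
      rw [this, map_one]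
    rw [hk, pow_succ, pow_mul, pow_two, h2, one_pow, one_mul]
  have hc1 : mk ⟨c, hcV⟩ ≠ 1 := fun h => hW'.not_mem ((mk_one _).1 h)
  -- the values on `V'`
  have hNV' : ∀ v : ↥VL, π v ∈ V' → N v = 1 ∨ N v = mk ⟨c, hcV⟩ := by
    intro v hv
    rcases hW'.cov v hv with h1 | h1
    · left; exact hNW v h1
    · right
      have h2 : N (⟨c, hcV⟩ * v) = 1 := hNW _ h1
      rw [map_mul, hNc] at h2
      have h3 : mk ⟨c, hcV⟩ * mk ⟨c, hcV⟩ = 1 := by
        rw [← map_mul]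
        have : (⟨c, hcV⟩ * ⟨c, hcV⟩ : ↥VL) = 1 := Subtype.ext hd.sq
        rw [this, map_one]
      exact mul_left_cancel (h2.trans h3.symm)
  -- the values on `V`
  have hmm : mk ⟨c, hcV⟩ * mk ⟨c, hcV⟩ = 1 := by
    rw [← map_mul]
    have : (⟨c, hcV⟩ * ⟨c, hcV⟩ : ↥VL) = 1 := Subtype.ext hd.sq
    rw [this, map_one]
  have hval : ∀ v : ↥VL, N v = 1 ∨ N v = mk ⟨c, hcV⟩ := by
    -- the subgroup of values
    let Z : Subgroup A :=
      { carrier := {a | a = 1 ∨ a = mk ⟨c, hcV⟩}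
        one_mem' := Or.inl rfl
        mul_mem' := by
          rintro a b (rfl | rfl) (rfl | rfl)
          · left; rw [mul_one]
          · right; rw [one_mul]
          · right; rw [mul_one]
          · left; exact hmm
        inv_mem' := by
          rintro a (rfl | rfl)
          · left; rw [inv_one]
          · right; exact inv_eq_of_mul_eq_one_left hmm }
    let D : Subgroup X := (Z.comap N).map (π.comp VL.subtype)
    have hD1 : closure {x : X | ∃ t ∈ T, ∃ v ∈ V, x = t * v * t⁻¹ * v⁻¹} ≤ D := by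
      rw [closure_le]
      rintro _ ⟨t, ht, v, hv, rfl⟩
      obtain ⟨t, rfl⟩ := hd.surj t
      obtain ⟨v, rfl⟩ := hd.surj v
      refine ⟨cj t ht ⟨v, hv⟩ * (⟨v, hv⟩ : ↥VL)⁻¹, ?_, ?_⟩
      · left
        rw [map_mul, hNinv t ht, map_inv, mul_inv_cancel]
      · show π (t * v * t⁻¹ * v⁻¹) = _
        simp only [map_mul, map_inv]
    have hD2 : V' ≤ D := by
      intro v hv
      obtain ⟨v, rfl⟩ := hd.surj v
      exact ⟨⟨v, hV'V hv⟩, hNV' _ hv, rfl⟩
    intro v
    obtain ⟨w, hw, e⟩ := (sup_le hD1 hD2) (hgen (π v) v.2)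
    have e' : π (w : L) = π (v : L) := e
    have hwZ : N w ∈ Z := hw
    rcases eq_or hd e'.symm with h1 | h1
    · have : v = w := Subtype.ext h1
      rw [this]; exact hwZ
    · have : v = ⟨c, hcV⟩ * w := Subtype.ext h1
      rw [this, map_mul, hNc]
      exact Z.mul_mem (Or.inr rfl) hwZ
  refine ⟨N.ker.map VL.subtype, ⟨?_, ?_, ?_, ?_, ?_⟩, fun w hw => ⟨⟨w, hWV hw⟩, hNW _ hw, rfl⟩⟩
  · rintro _ ⟨w, -, rfl⟩
    exact w.2
  · rintro ⟨w, hw, e⟩
    have hw' : w = ⟨c, hcV⟩ := Subtype.ext e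
    rw [SetLike.mem_coe, MonoidHom.mem_ker, hw', hNc] at hw
    exact hc1 hw
  · intro v hv
    rcases hval ⟨v, hv⟩ with h1 | h1
    · left; exact ⟨⟨v, hv⟩, h1, rfl⟩
    · right
      refine ⟨⟨c, hcV⟩ * ⟨v, hv⟩, ?_, rfl⟩
      rw [SetLike.mem_coe, MonoidHom.mem_ker, map_mul, hNc, h1, hmm]
  · rintro u hu _ ⟨w, hw, rfl⟩
    have h1 : ⁅(w : L), u⁆ ∈ W' := hcomm w u w.2 hu
    have h2 : ⁅u, (w : L)⁆ ∈ W' := by rw [← commutatorElement_inv]; exact inv_mem h1
    refine ⟨⟨⁅u, (w : L)⁆, hWV h2⟩ * w, ?_, ?_⟩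
    · rw [SetLike.mem_coe, MonoidHom.mem_ker, map_mul, hNW _ h2, one_mul]
      exact hw
    · show ⁅u, (w : L)⁆ * w = u * w * u⁻¹
      rw [commutatorElement_def, inv_mul_cancel_right]
  · rintro t ht _ ⟨w, hw, rfl⟩
    refine ⟨cj t ht w, ?_, rfl⟩
    rw [SetLike.mem_coe, MonoidHom.mem_ker, hNinv t ht]
    exact hw

/-- Lifts of `x` and `y` commute modulo `W`. -/
def CM (π : L →* X) (W : Subgroup L) (x y : X) : Prop := ∀ a b : L, π a = x → π b = y → ⁅a, b⁆ ∈ W

namespace CM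

variable {W : Subgroup L} {x y : X}

theorem symm (h : CM π W x y) : CM π W y x := fun a b ha hb => by
  rw [← commutatorElement_inv]; exact inv_mem (h b a hb ha)

theorem of_lc (h : CE π) (hx : h.lc x y ∈ W) : CM π W x y := fun a b ha hb => by
  rw [h.comm_eq' ha hb]; exact hx

theorem lc_mem (h : CE π) (hx : CM π W x y) : h.lc x y ∈ W := hx _ _ (h.map_lift x) (h.map_lift y)

theorem of_lc_one (h : CE π) (hx : h.lc x y = 1) : CM π W x y := of_lc h (by rw [hx]; exact one_mem _)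

theorem mul_right (hn : ∀ u : L, π u = y → ∀ w ∈ W, u * w * u⁻¹ ∈ W) {y' : X} (h1 : CM π W x y) (h2 : CM π W x y')
    (hs : Function.Surjective π) : CM π W x (y * y') := by
  intro a b ha hb
  obtain ⟨b1, hb1⟩ := hs y
  have e : ⁅a, b⁆ = ⁅a, b1⁆ * (b1 * ⁅a, b1⁻¹ * b⁆ * b1⁻¹) := by
    simp only [commutatorElement_def]; group
  rw [e]
  refine mul_mem (h1 a b1 ha hb1) (hn b1 hb1 _ (h2 a _ ha ?_))
  rw [map_mul, map_inv, hb, hb1]; group

theorem inv_right (hn : ∀ u : L, π u = y⁻¹ → ∀ w ∈ W, u * w * u⁻¹ ∈ W) (h1 : CM π W x y) : CM π W x y⁻¹ := by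
  intro a b ha hb
  have e : ⁅a, b⁆ = b * ⁅a, b⁻¹⁆⁻¹ * b⁻¹ := by
    simp only [commutatorElement_def]; group
  rw [e]
  refine hn b hb _ (inv_mem (h1 a _ ha ?_))
  rw [map_inv, hb, inv_inv]

end CM

section CplLemmas

variable {U T V : Subgroup X} {W : Subgroup L} (hd : Dbl π c) (hW : Cpl π c U T V W)

include hd hW

theorem CM.of_mem {x y : X} (hx : x ∈ V) (hy : y ∈ U) : CM π W x y := by
  have key : ∀ a b : L, a ∈ W → π b = y → ⁅a, b⁆ ∈ W := by
    intro a b ha hb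
    have e : ⁅a, b⁆ = a * (b * a⁻¹ * b⁻¹) := by simp only [commutatorElement_def]; group
    rw [e]
    exact mul_mem ha (hW.conjU b (by rw [hb]; exact hy) _ (inv_mem ha))
  intro a b ha hb
  rcases hW.cov a (by rw [ha]; exact hx) with h | h
  · exact key a b h hb
  · have h1 := key _ b h hb
    rwa [← comm_eq (π := π) hd (b := b) (b' := b) (a := a) (a' := c * a) ?_ rfl] at h1
    rw [map_mul, (hd.ker c).2 (Or.inr rfl), one_mul]

theorem CM.mul_left' {x x' y : X} (hx : x ∈ U) (h1 : CM π W x y) (h2 : CM π W x' y) : CM π W (x * x') y :=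
  (h1.symm.mul_right (fun u hu w hw => hW.conjU u (by rw [hu]; exact hx) w hw) h2.symm hd.surj).symm

theorem CM.mul_right' {x y y' : X} (hy : y ∈ U) (h1 : CM π W x y) (h2 : CM π W x y') : CM π W x (y * y') :=
  h1.mul_right (fun u hu w hw => hW.conjU u (by rw [hu]; exact hy) w hw) h2 hd.surj

/-- The torus lemma: `h` centralises `y` and `x = [h, x'] v` with `v ∈ V`. -/
theorem CM.of_torus {h x' x y v : X} (hT : h ∈ T) (hy : y ∈ U) (hhy : h * y = y * h)
    (hx : x = ⁅h, x'⁆ * v) (hv : v ∈ V) (hx' : x' ∈ U) (hhx : h * x' * h⁻¹ ∈ U) (hc : ⁅x', y⁆ ∈ V) : CM π W x y := by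
  rw [hx]
  have hcU : ⁅h, x'⁆ ∈ U := by rw [commutatorElement_def]; exact mul_mem hhx (inv_mem hx')
  refine CM.mul_left' hd hW hcU ?_ (CM.of_mem hd hW hv hy)
  intro a b ha hb
  obtain ⟨t, ht⟩ := hd.surj h
  obtain ⟨z, hz⟩ := hd.surj x'
  rw [comm_eq (π := π) hd (a := a) (a' := ⁅t, z⁆) (b := b) (b' := b) (by rw [ha, map_commutatorElement, ht, hz]) rfl]
  -- `⁅z, b⁆ = w` or `c * w`
  have hπ : π ⁅z, b⁆ ∈ V := by rw [map_commutatorElement, hz, hb]; exact hc
  have htU : π t ∈ T := by rw [ht]; exact hT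
  -- `t z t⁻¹` and `b`
  have e1 : ⁅t * z * t⁻¹, b⁆ = t * ⁅z, b⁆ * t⁻¹ := by
    have : t * ⁅z, b⁆ * t⁻¹ = ⁅t * z * t⁻¹, t * b * t⁻¹⁆ := conjugate_commutatorElement _ _ _
    rw [this]
    refine comm_eq (π := π) hd rfl ?_
    rw [map_mul, map_mul, map_inv, ht, hb, hhy, mul_inv_cancel_right]
  have hzU : π z ∈ U := by rw [hz]; exact hx'
  have hzU' : π (t * z * t⁻¹) ∈ U := by rw [map_mul, map_mul, map_inv, ht, hz]; exact hhx
  have e2 : ⁅⁅t, z⁆, b⁆ = (t * z * t⁻¹) * ⁅z⁻¹, b⁆ * (t * z * t⁻¹)⁻¹ * ⁅t * z * t⁻¹, b⁆ := by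
    simp only [commutatorElement_def]; group
  have e3 : ⁅z⁻¹, b⁆ = z⁻¹ * ⁅z, b⁆⁻¹ * z := by simp only [commutatorElement_def]; group
  have hcc : ∀ g : L, g * c = c * g := fun g => (hd.cen g).symm
  have hz1 : π z⁻¹ ∈ U := by rw [map_inv]; exact inv_mem hzU
  rcases hW.cov _ hπ with h1 | h1
  · rw [e2, e1, e3]
    refine mul_mem (hW.conjU _ hzU' _ ?_) (hW.conjT t htU _ h1)
    have := hW.conjU z⁻¹ hz1 _ (inv_mem h1)
    rwa [inv_inv] at this
  · -- `⁅z, b⁆ = c w`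
    obtain ⟨w, hw, e⟩ : ∃ w ∈ W, ⁅z, b⁆ = c * w := ⟨c * ⁅z, b⁆, h1, by rw [← mul_assoc, hd.sq, one_mul]⟩
    rw [e2, e1, e3, e]
    have e4 : (t * z * t⁻¹) * (z⁻¹ * (c * w)⁻¹ * z) * (t * z * t⁻¹)⁻¹ * (t * (c * w) * t⁻¹) =
        (t * z * t⁻¹) * (z⁻¹ * w⁻¹ * z) * (t * z * t⁻¹)⁻¹ * (t * w * t⁻¹) := by
      have h2 : ∀ g k : L, g * (c * k) = c * (g * k) := fun g k => by rw [← mul_assoc, hcc, mul_assoc]
      have h3 : c⁻¹ = c := inv_eq_of_mul_eq_one_left hd.sq
      rw [mul_inv_rev, h3]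
      simp only [mul_assoc, h2]
      rw [← mul_assoc c c, hd.sq, one_mul]
    rw [e4]
    refine mul_mem (hW.conjU _ hzU' _ ?_) (hW.conjT t htU _ hw)
    have := hW.conjU z⁻¹ hz1 _ (inv_mem hw)
    rwa [inv_inv] at this

end CplLemmas

/-- `V k` : the group generated by the first `k` sets of root elements. -/
def Vk (gens : ℕ → Set X) (k : ℕ) : Subgroup X := closure (⋃ j ∈ Finset.range k, gens j)

theorem mem_Vk {gens : ℕ → Set X} {k j : ℕ} (hj : j < k) {g : X} (hg : g ∈ gens j) : g ∈ Vk gens k := by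
  apply Subgroup.subset_closure
  simp only [Set.mem_iUnion, Finset.mem_range]
  exact ⟨j, hj, hg⟩

theorem Vk_le {gens : ℕ → Set X} {k : ℕ} {K : Subgroup X} (h : ∀ j < k, ∀ g ∈ gens j, g ∈ K) : Vk gens k ≤ K := by
  unfold Vk
  rw [closure_le]
  intro g hg
  simp only [Set.mem_iUnion, Finset.mem_range] at hg
  obtain ⟨j, hj, hg⟩ := hg
  exact h j hj g hg

theorem Vk_mono {gens : ℕ → Set X} {k k' : ℕ} (h : k ≤ k') : Vk gens k ≤ Vk gens k' :=
  Vk_le fun _ hj _ hg => mem_Vk (lt_of_lt_of_le hj h) hg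

theorem Vk_zero {gens : ℕ → Set X} : Vk gens 0 = ⊥ := by
  rw [eq_bot_iff]
  exact Vk_le fun j hj => absurd hj (Nat.not_lt_zero j)

theorem Vk_succ {gens : ℕ → Set X} {k : ℕ} {K : Subgroup X} (h : ∀ g ∈ gens k, g ∈ K) (h' : Vk gens k ≤ K) :
    Vk gens (k + 1) ≤ K := by
  refine Vk_le fun j hj g hg => ?_
  rcases Nat.lt_succ_iff_lt_or_eq.1 hj with h1 | rfl
  · exact h' (mem_Vk h1 hg)
  · exact h g hg

/-- induction over a group given by generators (as a set) for `CM` on the right -/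
theorem CM.closure_right {U T V : Subgroup X} {W : Subgroup L} (hd : Dbl π c) (hW : Cpl π c U T V W) {x : X}
    {S : Set X} (hS : ∀ s ∈ S, s ∈ U) (h : ∀ s ∈ S, CM π W x s) : ∀ y ∈ closure S, CM π W x y := by
  intro y hy
  have hSU : closure S ≤ U := by rw [closure_le]; exact hS
  induction hy using closure_induction with
  | mem y hy => exact h y hy
  | one =>
    intro a b ha hb
    rw [comm_eq (π := π) hd (a := a) (a' := a) (b := b) (b' := 1) rfl (by rw [hb, map_one]),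
      commutatorElement_one_right]
    exact one_mem _
  | mul y z hy hz h1 h2 => exact CM.mul_right' hd hW (hSU hy) h1 h2
  | inv y hy h1 =>
    exact h1.inv_right fun u hu w hw => hW.conjU u (by rw [hu]; exact inv_mem (hSU hy)) w hw

/-- **The chain theorem.** -/
theorem exists_cpl [Finite L] (hd : Dbl π c) {T : Subgroup X} [Finite T] (hT : Odd (Nat.card T)) (n : ℕ)
    (gens : ℕ → Set X) (spec : ℕ → Set L)
    (hTg : ∀ k < n, ∀ t ∈ T, ∀ g ∈ gens k, t * g * t⁻¹ ∈ Vk gens (k + 1))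
    (pair : ∀ k < n, ∀ W : Subgroup L, Cpl π c (Vk gens n) T (Vk gens k) W → (∀ j < k, ∀ s ∈ spec j, s ∈ W) →
      ∀ g ∈ gens k, ∀ l < n, ∀ g' ∈ gens l, CM π W g g')
    (kind : ∀ k < n, (spec k = ∅ ∧ ∀ g ∈ gens k, ∃ t ∈ T, ∃ v ∈ Vk gens (k + 1), ∃ w ∈ Vk gens k,
        g = t * v * t⁻¹ * v⁻¹ * w) ∨
      (∃ (z : X) (ω : L), (z ∈ gens k ∧ ∀ g ∈ gens k, g = 1 ∨ g = z) ∧ π ω = z ∧ ω * ω = 1 ∧ spec k = {ω} ∧
        z ∉ Vk gens k ∧
        ∀ t ∈ T, ∀ t' : L, π t' = t → t' * ω * t'⁻¹ = ω)) :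
    ∀ k ≤ n, ∃ W : Subgroup L, Cpl π c (Vk gens n) T (Vk gens k) W ∧ ∀ j < k, ∀ s ∈ spec j, s ∈ W := by
  classical
  haveI : Fintype T := Fintype.ofFinite T
  have hTc : Odd (Fintype.card T) := by rwa [← Nat.card_eq_fintype_card]
  intro k
  induction k with
  | zero =>
    intro _
    refine ⟨⊥, ⟨?_, ?_, ?_, ?_, ?_⟩, fun j hj => absurd hj (Nat.not_lt_zero j)⟩
    · intro w hw
      rw [mem_bot] at hw
      rw [hw, map_one]; exact one_mem _
    · rw [mem_bot]; exact hd.ne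
    · intro v hv
      rw [Vk_zero, mem_bot] at hv
      rcases (hd.ker v).1 hv with rfl | rfl
      · left; exact one_mem _
      · right; rw [hd.sq]; exact one_mem _
    · intro u _ w hw
      rw [mem_bot] at hw ⊢
      rw [hw, mul_one, mul_inv_cancel]
    · intro u _ w hw
      rw [mem_bot] at hw ⊢
      rw [hw, mul_one, mul_inv_cancel]
  | succ k ih =>
    intro hk
    have hkn : k < n := hk
    obtain ⟨W, hW, hspec⟩ := ih hkn.le
    have hgU : ∀ j < n, ∀ g ∈ gens j, g ∈ Vk gens n := fun j hj g hg => mem_Vk hj hg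
    -- commutation modulo `W`
    have h1 : ∀ g ∈ gens k, ∀ y ∈ Vk gens n, CM π W g y := by
      intro g hg y hy
      refine CM.closure_right hd hW ?_ ?_ y hy
      · intro s hs
        simp only [Set.mem_iUnion, Finset.mem_range] at hs
        obtain ⟨j, hj, hs⟩ := hs
        exact hgU j hj s hs
      · intro s hs
        simp only [Set.mem_iUnion, Finset.mem_range] at hs
        obtain ⟨j, hj, hs⟩ := hs
        exact pair k hkn W hW hspec g hg j hj s hs
    have h2 : ∀ x ∈ Vk gens (k + 1), ∀ y ∈ Vk gens n, CM π W x y := by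
      intro x hx y hy
      refine (CM.closure_right hd hW (x := y) ?_ ?_ x hx).symm
      · intro s hs
        simp only [Set.mem_iUnion, Finset.mem_range] at hs
        obtain ⟨j, hj, hs⟩ := hs
        exact hgU j (by omega) s hs
      · intro s hs
        simp only [Set.mem_iUnion, Finset.mem_range] at hs
        obtain ⟨j, hj, hs⟩ := hs
        rcases Nat.lt_succ_iff_lt_or_eq.1 hj with h3 | rfl
        · exact (CM.of_mem hd hW (mem_Vk h3 hs) hy).symm
        · exact (h1 s hs y hy).symm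
    have hcomm : ∀ v u : L, π v ∈ Vk gens (k + 1) → π u ∈ Vk gens n → ⁅v, u⁆ ∈ W := fun v u hv hu =>
      h2 _ hv _ hu v u rfl rfl
    rcases kind k hkn with ⟨hs, hmv⟩ | ⟨z, ω, ⟨hzg, hg⟩, hz, hω, hs, hzV, hTz⟩
    · -- moved by the torus
      have hTV : ∀ t ∈ T, ∀ v ∈ Vk gens (k + 1), t * v * t⁻¹ ∈ Vk gens (k + 1) := by
        intro t ht v hv
        have : Vk gens (k + 1) ≤ (Vk gens (k + 1)).comap (MulAut.conj t).toMonoidHom := by
          refine Vk_le fun j hj g hg => ?_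
          exact Vk_mono hj (hTg j (by omega) t ht g hg)
        exact this hv
      obtain ⟨W', hW', hle⟩ := stepLe hd hTc (Vk_mono hkn) hTV hW (Vk_mono (Nat.le_succ k)) hcomm (by
        intro v hv
        have : Vk gens (k + 1) ≤
            closure {x : X | ∃ t ∈ T, ∃ v ∈ Vk gens (k + 1), x = t * v * t⁻¹ * v⁻¹} ⊔ Vk gens k := by
          refine Vk_succ (fun g hg => ?_) le_sup_right
          obtain ⟨t, ht, v, hv, w, hw, rfl⟩ := hmv g hg
          exact mul_mem_sup (Subgroup.subset_closure ⟨t, ht, v, hv, rfl⟩) hw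
        exact this hv)
      refine ⟨W', hW', fun j hj s hsj => ?_⟩
      rcases Nat.lt_succ_iff_lt_or_eq.1 hj with h3 | rfl
      · exact hle (hspec j h3 s hsj)
      · rw [hs] at hsj; exact absurd hsj (Set.notMem_empty s)
    · -- a fixed involution
      have hzU : z ∈ Vk gens n := hgU k hkn z hzg
      have hzV1 : z ∈ Vk gens (k + 1) := mem_Vk (Nat.lt_succ_self k) hzg
      have hωinv : ω⁻¹ = ω := inv_eq_of_mul_eq_one_left hω
      -- `ω` normalises `W`
      have hωW : ∀ w ∈ W, ω * w * ω⁻¹ ∈ W := fun w hw => hW.conjU ω (by rw [hz]; exact hzU) w hw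
      let W1 : Subgroup L :=
        { carrier := {x | x ∈ W ∨ ω * x ∈ W}
          one_mem' := Or.inl (one_mem _)
          mul_mem' := by
            rintro x y (hx | hx) (hy | hy)
            · exact Or.inl (mul_mem hx hy)
            · right
              have e : ω * (x * y) = (ω * x * ω⁻¹) * (ω * y) := by group
              rw [e]; exact mul_mem (hωW x hx) hy
            · right
              rw [← mul_assoc]; exact mul_mem hx hy
            · left
              have e : x * y = ω * (ω * x) * ω⁻¹ * (ω * y) := by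
                have : ω * (ω * x) * ω⁻¹ * (ω * y) = (ω * ω) * x * y := by group
                rw [this, hω, one_mul]
              rw [e]; exact mul_mem (hωW _ hx) hy
          inv_mem' := by
            rintro x (hx | hx)
            · exact Or.inl (inv_mem hx)
            · right
              have e : ω * x⁻¹ = ω * (ω * x)⁻¹ * ω⁻¹ := by
                rw [mul_inv_rev]
                have : ω * (x⁻¹ * ω⁻¹) * ω⁻¹ = ω * x⁻¹ * (ω * ω)⁻¹ := by group
                rw [this, hω, inv_one, mul_one]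
              rw [e]; exact hωW _ (inv_mem hx) }
      have hW1 : ∀ x : L, x ∈ W1 ↔ x ∈ W ∨ ω * x ∈ W := fun x => Iff.rfl
      have hωW1 : ω ∈ W1 := (hW1 _).2 (Or.inr (by rw [hω]; exact one_mem _))
      have hle : W ≤ W1 := fun w hw => (hW1 _).2 (Or.inl hw)
      refine ⟨W1, ⟨?_, ?_, ?_, ?_, ?_⟩, fun j hj s hsj => ?_⟩
      · rintro x (hx | hx)
        · exact Vk_mono (Nat.le_succ k) (hW.le x hx)
        · have e : π x = z⁻¹ * π (ω * x) := by rw [map_mul, hz]; group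
          rw [e]
          exact mul_mem (inv_mem hzV1) (Vk_mono (Nat.le_succ k) (hW.le _ hx))
      · rintro (hx | hx)
        · exact hW.not_mem hx
        · apply hzV
          have := hW.le _ hx
          rwa [map_mul, hz, (hd.ker c).2 (Or.inr rfl), mul_one] at this
      · intro v hv
        have hV1 : Vk gens (k + 1) ≤ W1.map π := by
          refine Vk_succ (fun g hg' => ?_) ?_
          · rcases hg g hg' with h1 | h1
            · rw [h1]; exact one_mem _
            · rw [h1, ← hz]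
              exact mem_map_of_mem _ hωW1
          · intro g hg'
            obtain ⟨a, rfl⟩ := hd.surj g
            rcases hW.cov a hg' with h | h
            · exact mem_map_of_mem _ (hle h)
            · have : π a = π (c * a) := by rw [map_mul, (hd.ker c).2 (Or.inr rfl), one_mul]
              rw [this]
              exact mem_map_of_mem _ (hle h)
        obtain ⟨w, hw, e⟩ := hV1 hv
        rcases eq_or hd e.symm with h | h
        · left; rw [h]; exact hw
        · right; rw [h, ← mul_assoc, hd.sq, one_mul]; exact hw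
      · rintro u hu x (hx | hx)
        · exact Or.inl (hW.conjU u hu x hx)
        · right
          have e : ω * (u * x * u⁻¹) = u * (⁅u⁻¹, ω⁆ * (ω * x)) * u⁻¹ := by
            rw [commutatorElement_def]; group
          rw [e]
          refine hW.conjU u hu _ (mul_mem ?_ hx)
          rw [← commutatorElement_inv]
          exact inv_mem (hcomm ω u⁻¹ (by rw [hz]; exact hzV1) (by rw [map_inv]; exact inv_mem hu))
      · rintro t ht x (hx | hx)
        · exact Or.inl (hW.conjT t ht x hx)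
        · right
          have e1 := hTz _ ht t rfl
          have e : ω * (t * x * t⁻¹) = t * (ω * x) * t⁻¹ := by
            nth_rewrite 1 [← e1]; group
          rw [e]
          exact hW.conjT t ht _ hx
      · rcases Nat.lt_succ_iff_lt_or_eq.1 hj with h3 | rfl
        · exact hle (hspec j h3 s hsj)
        · rw [hs] at hsj
          have : s = ω := hsj
          rw [this]; exact hωW1

/-- The end: no perfect double cover. -/
theorem false_of_chain [Finite L] (hd : Dbl π c) {T : Subgroup X} [Finite T] (hT : Odd (Nat.card T)) (n : ℕ)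
    (gens : ℕ → Set X) (spec : ℕ → Set L) (hidx : ¬ 2 ∣ (Vk gens n).index)
    (hTg : ∀ k < n, ∀ t ∈ T, ∀ g ∈ gens k, t * g * t⁻¹ ∈ Vk gens (k + 1))
    (pair : ∀ k < n, ∀ W : Subgroup L, Cpl π c (Vk gens n) T (Vk gens k) W → (∀ j < k, ∀ s ∈ spec j, s ∈ W) →
      ∀ g ∈ gens k, ∀ l < n, ∀ g' ∈ gens l, CM π W g g')
    (kind : ∀ k < n, (spec k = ∅ ∧ ∀ g ∈ gens k, ∃ t ∈ T, ∃ v ∈ Vk gens (k + 1), ∃ w ∈ Vk gens k,
        g = t * v * t⁻¹ * v⁻¹ * w) ∨
      (∃ (z : X) (ω : L), (z ∈ gens k ∧ ∀ g ∈ gens k, g = 1 ∨ g = z) ∧ π ω = z ∧ ω * ω = 1 ∧ spec k = {ω} ∧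
        z ∉ Vk gens k ∧
        ∀ t ∈ T, ∀ t' : L, π t' = t → t' * ω * t'⁻¹ = ω)) : False := by
  obtain ⟨W, hW, -⟩ := exists_cpl hd hT n gens spec hTg pair kind n le_rfl
  refine hd.toCtr.false_of_compl (P := (Vk gens n).comap π) (P₁ := W) ?_ ?_ hW.not_mem fun x hx => hW.cov x hx
  · show π c ∈ Vk gens n
    rw [(hd.ker c).2 (Or.inr rfl)]; exact one_mem _
  · rwa [index_comap_of_surjective _ hd.surj]

end Cfsg.Agent.KFacts.Mult.ChainZ

end

-- merged: Cfsg.Agent.KFacts.Mult.WittTwo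
section

/-!
# Models over Witt frames in characteristic 2 (helper430)

Relations between the root elements of a model (`ε = 1`, `2 = 0`), positions of the signed indices, the flag of the
positive system, independence of the root groups.
-/

set_option autoImplicit false
set_option linter.unnecessarySeqFocus false
set_option linter.unusedVariables false

namespace Cfsg.Agent.KFacts.Mult.WittTwo

open Cfsg.Agent.TitsThree.Siegel Cfsg.Agent.TitsThree.WittFrame Cfsg.Agent.TitsThree.WittWeyl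
open Cfsg.Agent.TitsThree.FrameCN
open scoped commutatorElement

variable {F : Type*} [Field F] {V : Type*} [AddCommGroup V] [Module F V] {H : HForm F V} {m : ℕ}
  {Fr : Frame H (Fin m)} {K : Type*} [Group K]

/-! ### Relations -/

section Rel

variable (M : Model Fr K)

theorem X_add (x y : Fin m × Bool) (s t : F) : M.X x y (s + t) = M.X x y s * M.X x y t := by
  rw [Model.X, Model.X, Model.X, ← map_mul]
  congr 1
  exact Subtype.ext (Fr.X_add x y s t)

theorem X_zero (x y : Fin m × Bool) : M.X x y 0 = 1 := by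
  have := X_add M x y 0 0
  rw [add_zero] at this
  exact left_eq_mul.1 this

theorem Z_mul (x : Fin m × Bool) (p q : Fr.Adm) : M.Z x (p * q) = M.Z x p * M.Z x q := by
  rw [Model.Z, Model.Z, Model.Z, ← map_mul]
  congr 1
  exact Subtype.ext (Fr.Z_mul x p q)

theorem Z_one (x : Fin m × Bool) : M.Z x 1 = 1 := by
  have := Z_mul M x 1 1
  rw [mul_one] at this
  exact left_eq_mul.1 this

theorem Z_inv (x : Fin m × Bool) (p : Fr.Adm) : M.Z x p⁻¹ = (M.Z x p)⁻¹ := by
  rw [eq_inv_iff_mul_eq_one, ← Z_mul, inv_mul_cancel, Z_one]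

/-- from an identity of linear maps to an identity in `K` -/
theorem comm_of_eq {a b c : M.I} (h : (a : V ≃ₗ[F] V) * b * (a : V ≃ₗ[F] V)⁻¹ = c * b) :
    ⁅M.φ a, M.φ b⁆ = M.φ c := by
  rw [← map_commutatorElement]
  congr 1
  apply Subtype.ext
  show (a : V ≃ₗ[F] V) * b * (a : V ≃ₗ[F] V)⁻¹ * (b : V ≃ₗ[F] V)⁻¹ = c
  rw [h, mul_inv_cancel_right]

variable (h2 : (2 : F) = 0) (hε : H.ε = 1)

include h2 in
theorem neg_eq (a : F) : -a = a := by
  have h3 : a + a = 0 := by rw [← two_mul, h2, zero_mul]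
  rw [← sub_eq_zero, neg_sub_left, h3, neg_zero]

include hε in
theorem eta (x : Fin m × Bool) : Fr.η x = 1 := by
  rw [Frame.η, hε]; split_ifs <;> rfl

include h2 hε in
theorem X_swap {x y : Fin m × Bool} (h : x.1 ≠ y.1) (t : F) : M.X x y t = M.X y x (H.σ t) := by
  rw [Model.X, Model.X]
  congr 1
  apply Subtype.ext
  show Fr.X x y t = Fr.X y x (H.σ t)
  rw [Fr.X_swap h, eta hε, eta hε, hε, inv_one, one_mul, one_mul, one_mul, neg_eq h2]

/-- (R2) -/
theorem br_XX {x y z : Fin m × Bool} (hxy : x.1 ≠ y.1) (hyz : y.1 ≠ z.1) (hxz : x.1 ≠ z.1) (s t : F) :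
    ⁅M.X x y s, M.X (neg y) z t⁆ = M.X x z (s * t) := by
  rw [Model.X, Model.X, Model.X]
  exact comm_of_eq M (Fr.conj_X_X hxy hyz hxz s t)

include hε in
/-- (R3) -/
theorem br_same {x y : Fin m × Bool} (hxy : x.1 ≠ y.1) (s t : F) :
    ⁅M.X x y s, M.X x (neg y) t⁆ = M.Z x (Frame.Adm.tr (H.σ s * t)) := by
  rw [Model.X, Model.X, Model.Z]
  apply comm_of_eq M
  have h1 := Fr.X_mul_X_same hxy s t
  rw [eta hε, inv_one, mul_one] at h1
  show Fr.X x y s * Fr.X x (neg y) t * (Fr.X x y s)⁻¹ = _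
  rw [h1]
  show Fr.Z x _ * (Fr.X x (neg y) t * Fr.X x y s) * (Fr.X x y s)⁻¹ = Fr.Z x _ * Fr.X x (neg y) t
  group

include h2 hε in
/-- (R4) -/
theorem br_XZ {x y : Fin m × Bool} (hxy : x.1 ≠ y.1) (t : F) (p : Fr.Adm) :
    ⁅M.X x (neg y) t, M.Z y p⁆ = M.Z x (Frame.Adm.smul (H.σ t) p) * M.X x y (H.σ p.c * t) := by
  rw [Model.X, Model.Z, Model.Z, Model.X, ← map_mul]
  apply comm_of_eq M
  have h1 := Fr.conj_X_Z hxy t p
  rw [eta hε, hε, inv_one, one_mul, one_mul, neg_eq h2] at h1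
  exact h1

include h2 hε in
/-- (R5) -/
theorem br_ZZ {x y : Fin m × Bool} (hxy : x.1 ≠ y.1) (p q : Fr.Adm) :
    ⁅M.Z x p, M.Z y q⁆ = M.X x y (H.σ (H.h p.w q.w)) := by
  rw [Model.Z, Model.Z, Model.X]
  apply comm_of_eq M
  have h1 := Fr.Z_mul_Z hxy p q
  rw [eta hε, one_mul, neg_eq h2] at h1
  show Fr.Z x p * Fr.Z y q * (Fr.Z x p)⁻¹ = _
  rw [h1]
  show Fr.X x y _ * (Fr.Z y q * Fr.Z x p) * (Fr.Z x p)⁻¹ = Fr.X x y _ * Fr.Z y q
  group

end Rel

/-! ### Positions -/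

/-- position of a signed index in the flag -/
def pos (x : Fin m × Bool) : ℕ := if x.2 then x.1 else 2 * m - x.1

theorem pos_le (x : Fin m × Bool) : pos x ≤ 2 * m := by
  have := x.1.2
  unfold pos; split_ifs <;> omega

theorem pos_neg (x : Fin m × Bool) : pos (neg x) = 2 * m - pos x := by
  have := x.1.2
  unfold pos neg
  cases h : x.2 <;> simp <;> omega

theorem pos_ne (x : Fin m × Bool) : pos x ≠ m := by
  have := x.1.2
  unfold pos; split_ifs <;> omega

theorem pos_lt_iff (x : Fin m × Bool) : pos x < m ↔ x.2 = true := by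
  have := x.1.2
  unfold pos; cases h : x.2 <;> simp <;> omega

theorem pos_inj {x y : Fin m × Bool} (h : pos x = pos y) : x = y := by
  have hx := x.1.2
  have hy := y.1.2
  unfold pos at h
  obtain ⟨a, s⟩ := x
  obtain ⟨b, t⟩ := y
  cases s <;> cases t <;> simp at h hx hy ⊢ <;> first | (apply Fin.ext; omega) | omega

theorem pos_add_neg (x : Fin m × Bool) : pos x + pos (neg x) = 2 * m := by
  have := pos_le x
  rw [pos_neg]; omega

theorem fst_ne {x y : Fin m × Bool} (h1 : x ≠ y) (h2 : x ≠ neg y) : x.1 ≠ y.1 := by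
  intro h
  obtain ⟨a, s⟩ := x
  obtain ⟨b, t⟩ := y
  simp only at h
  subst h
  cases s <;> cases t <;> simp [neg] at h1 h2

/-- the key of the pair of positions `a, b` -/
def key (m a b : ℕ) : ℕ := min a b * (2 * m + 1) + max a b

theorem key_comm (a b : ℕ) : key m a b = key m b a := by
  unfold key; rw [min_comm, max_comm]

theorem key_lt_of_lt {a b b' : ℕ} (ha : a ≤ 2 * m) (hb : b ≤ 2 * m) (h : b' < b) : key m a b' < key m a b := by
  unfold key
  rcases le_total a b' with h1 | h1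
  · rw [min_eq_left h1, max_eq_right h1, min_eq_left (h1.trans h.le), max_eq_right (h1.trans h.le)]
    omega
  · rw [min_eq_right h1, max_eq_left h1]
    rcases le_total a b with h3 | h3
    · rw [min_eq_left h3, max_eq_right h3]
      rcases h1.lt_or_eq with h4 | h4
      · have : b' * (2 * m + 1) + (2 * m + 1) ≤ a * (2 * m + 1) := by
          have : (b' + 1) * (2 * m + 1) ≤ a * (2 * m + 1) := Nat.mul_le_mul_right _ h4
          linarith [this]
        omega
      · subst h4; omega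
    · rw [min_eq_right h3, max_eq_left h3]
      have : (b' + 1) * (2 * m + 1) ≤ b * (2 * m + 1) := Nat.mul_le_mul_right _ h
      have h5 : (b' + 1) * (2 * m + 1) = b' * (2 * m + 1) + (2 * m + 1) := by ring
      omega

theorem lt_of_key_lt {a b b' : ℕ} (ha : a ≤ 2 * m) (hb' : b' ≤ 2 * m) (h : key m a b' < key m a b) : b' < b := by
  rcases lt_trichotomy b b' with h1 | h1 | h1
  · exact absurd (key_lt_of_lt ha hb' h1) (not_lt.2 h.le)
  · subst h1; exact absurd h (lt_irrefl _)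
  · exact h1

theorem key_lt_of_lt' {a b b' : ℕ} (ha : a ≤ 2 * m) (hb : b ≤ 2 * m) (h : b' < b) : key m b' a < key m b a := by
  rw [key_comm b', key_comm b]; exact key_lt_of_lt ha hb h

theorem key_inj {a b a' b' : ℕ} (hb : b ≤ 2 * m) (hb' : b' ≤ 2 * m) (ha : a ≤ 2 * m) (ha' : a' ≤ 2 * m)
    (h : key m a b = key m a' b') : (a = a' ∧ b = b') ∨ (a = b' ∧ b = a') := by
  unfold key at h
  have e1 : min a b = min a' b' := by
    have h1 : (min a b * (2 * m + 1) + max a b) / (2 * m + 1) = min a b := by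
      rw [mul_comm, Nat.mul_add_div (by omega), Nat.div_eq_of_lt (by omega), add_zero]
    have h2 : (min a' b' * (2 * m + 1) + max a' b') / (2 * m + 1) = min a' b' := by
      rw [mul_comm, Nat.mul_add_div (by omega), Nat.div_eq_of_lt (by omega), add_zero]
    rw [← h1, h, h2]
  rw [e1] at h
  omega

theorem key_lt_bound {a b : ℕ} (ha : a ≤ 2 * m) (hb : b ≤ 2 * m) : key m a b < (2 * m + 1) * (2 * m + 1) := by
  unfold key
  have : min a b * (2 * m + 1) ≤ 2 * m * (2 * m + 1) := Nat.mul_le_mul_right _ (by omega)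
  have h5 : (2 * m + 1) * (2 * m + 1) = 2 * m * (2 * m + 1) + (2 * m + 1) := by ring
  omega

/-! ### The flag -/

/-- A positive pair. -/
def Ps (x y : Fin m × Bool) : Prop := x.1 ≠ y.1 ∧ pos x + pos y < 2 * m

theorem Ps.symm {x y : Fin m × Bool} (h : Ps x y) : Ps y x := ⟨h.1.symm, by rw [add_comm]; exact h.2⟩

variable (Fr)

/-- The flag. -/
def N (p : ℕ) : Submodule F V where
  carrier := {v | (∀ u, p ≤ pos u → H.h v (Fr.b (neg u)) = 0) ∧ (p ≤ m → ∀ w ∈ Fr.V0, H.h v w = 0)}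
  add_mem' := by
    rintro v v' ⟨h1, h3⟩ ⟨h1', h3'⟩
    exact ⟨fun u hu => by rw [H.add_left, h1 u hu, h1' u hu, add_zero],
      fun hp w hw => by rw [H.add_left, h3 hp w hw, h3' hp w hw, add_zero]⟩
  zero_mem' := ⟨fun _ _ => H.zero_left _, fun _ _ _ => H.zero_left _⟩
  smul_mem' := by
    rintro a v ⟨h1, h3⟩
    exact ⟨fun u hu => by rw [H.smul_left, h1 u hu, mul_zero],
      fun hp w hw => by rw [H.smul_left, h3 hp w hw, mul_zero]⟩

variable {Fr}

theorem mem_N {p : ℕ} {v : V} : v ∈ N Fr p ↔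
    (∀ u, p ≤ pos u → H.h v (Fr.b (neg u)) = 0) ∧ (p ≤ m → ∀ w ∈ Fr.V0, H.h v w = 0) := Iff.rfl

theorem N_mono {p p' : ℕ} (h : p ≤ p') : N Fr p ≤ N Fr p' := fun v hv =>
  ⟨fun u hu => hv.1 u (h.trans hu), fun hp => hv.2 (h.trans hp)⟩

theorem b_mem_N {p : ℕ} {y : Fin m × Bool} (h : pos y < p) : Fr.b y ∈ N Fr p := by
  refine ⟨fun u hu => ?_, fun _ w hw => Fr.h0 y w hw⟩
  apply Fr.hb_ne
  intro h1
  have : u = y := by rw [← TitsThree.WittFrame.neg_neg u, h1, TitsThree.WittFrame.neg_neg]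
  subst this; omega

theorem V0_le_N {p : ℕ} (h : m < p) {w : V} (hw : w ∈ Fr.V0) : w ∈ N Fr p :=
  ⟨fun u _ => Fr.h0' _ hw, fun hp => absurd hp (by omega)⟩

theorem b_not_mem_N {y : Fin m × Bool} {t : F} (h : t • Fr.b y ∈ N Fr (pos y)) : t = 0 := by
  have := h.1 y le_rfl
  rw [H.smul_left, Fr.hb_self_neg] at this
  exact (mul_eq_zero.1 this).resolve_right (Fr.η_ne _)

theorem N_top : N Fr (2 * m + 1) = ⊤ := by
  rw [eq_top_iff]
  intro v _
  exact ⟨fun u hu => absurd (pos_le u) (by omega), fun hp => absurd hp (by omega)⟩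

/-- `g - 1` maps `N (p+1)` to `N p`. -/
def Lw (Fr : Frame H (Fin m)) (g : V ≃ₗ[F] V) : Prop := ∀ p, ∀ v ∈ N Fr (p + 1), g v - v ∈ N Fr p

theorem Lw_X {x y : Fin m × Bool} (h : Ps x y) (t : F) : Lw Fr (Fr.X x y t) := by
  intro p v hv
  have h1 := pos_neg x
  have h2 := pos_neg y
  have hx := pos_le x
  have hy := pos_le y
  have hps := h.2
  have e : Fr.X x y t v - v = (H.h v (Fr.b x) * Fr.sc y t) • Fr.b y
      - (H.ε⁻¹ * H.σ (Fr.sc y t) * H.h v (Fr.b y)) • Fr.b x := by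
    rw [X_apply Fr h.1]; abel
  rw [e]
  refine Submodule.sub_mem _ ?_ ?_
  · by_cases hp : pos y < p
    · exact Submodule.smul_mem _ _ (b_mem_N hp)
    · have := hv.1 (neg x) (by omega)
      rw [TitsThree.WittFrame.neg_neg] at this
      rw [this, zero_mul, zero_smul]; exact zero_mem _
  · by_cases hp : pos x < p
    · exact Submodule.smul_mem _ _ (b_mem_N hp)
    · have := hv.1 (neg y) (by omega)
      rw [TitsThree.WittFrame.neg_neg] at this
      rw [this, mul_zero, zero_smul]; exact zero_mem _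

theorem Lw_Z {x : Fin m × Bool} (h : x.2 = true) (q : Fr.Adm) : Lw Fr (Fr.Z x q) := by
  intro p v hv
  have h1 := pos_neg x
  have hx := (pos_lt_iff x).2 h
  have e : Fr.Z x q v - v = H.h v (Fr.b x) • q.w - (H.ε⁻¹ * H.h v q.w) • Fr.b x
      + (q.c * H.h v (Fr.b x)) • Fr.b x := by
    rw [Z_apply]; abel
  rw [e]
  have hb : p ≤ pos (neg x) - 1 → H.h v (Fr.b x) = 0 := by
    intro hp
    have := hv.1 (neg x) (by omega)
    rwa [TitsThree.WittFrame.neg_neg] at this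
  refine Submodule.add_mem _ (Submodule.sub_mem _ ?_ ?_) ?_
  · by_cases hp : m < p
    · exact Submodule.smul_mem _ _ (V0_le_N hp (Fr.ok_mem q.ok))
    · rw [hb (by omega), zero_smul]; exact zero_mem _
  · by_cases hp : pos x < p
    · exact Submodule.smul_mem _ _ (b_mem_N hp)
    · rw [hv.2 (by omega) _ (Fr.ok_mem q.ok), mul_zero, zero_smul]; exact zero_mem _
  · by_cases hp : pos x < p
    · exact Submodule.smul_mem _ _ (b_mem_N hp)
    · rw [hb (by omega), mul_zero, zero_smul]; exact zero_mem _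


theorem Lw.one : Lw Fr 1 := fun p v _ => by
  have : (1 : V ≃ₗ[F] V) v - v = 0 := sub_self v
  rw [this]; exact zero_mem _

theorem Lw.map {g : V ≃ₗ[F] V} (h : Lw Fr g) {p : ℕ} {v : V} (hv : v ∈ N Fr p) : g v ∈ N Fr p := by
  have h1 := h p v (N_mono (Nat.le_succ p) hv)
  have := Submodule.add_mem _ h1 hv
  rwa [sub_add_cancel] at this

theorem Lw.mul {g k : V ≃ₗ[F] V} (hg : Lw Fr g) (hk : Lw Fr k) : Lw Fr (g * k) := by
  intro p v hv
  have e : (g * k) v - v = g (k v - v) + (g v - v) := by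
    rw [mul_apply', map_sub]; abel
  rw [e]
  exact Submodule.add_mem _ (hg.map (hk p v hv)) (hg p v hv)

/-- Unipotent elements with `g b - b ∈ N p`. -/
def Fx (Fr : Frame H (Fin m)) (p : ℕ) (b : V) (g : V ≃ₗ[F] V) : Prop := Lw Fr g ∧ g b - b ∈ N Fr p

theorem Fx.mul {p : ℕ} {b : V} {g k : V ≃ₗ[F] V} (hg : Fx Fr p b g) (hk : Fx Fr p b k) : Fx Fr p b (g * k) := by
  refine ⟨hg.1.mul hk.1, ?_⟩
  have e : (g * k) b - b = g (k b - b) + (g b - b) := by
    rw [mul_apply', map_sub]; abel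
  rw [e]
  exact Submodule.add_mem _ (hg.1.map hk.2) hg.2

theorem Fx.closure {p : ℕ} {b : V} {S : Set (V ≃ₗ[F] V)} (hinv : ∀ g ∈ S, g⁻¹ ∈ S) (h : ∀ g ∈ S, Fx Fr p b g) :
    ∀ g ∈ Subgroup.closure S, Fx Fr p b g := by
  have key : ∀ g ∈ Subgroup.closure S, Fx Fr p b g ∧ Fx Fr p b g⁻¹ := by
    intro g hg
    induction hg using Subgroup.closure_induction with
    | mem g hg => exact ⟨h g hg, h _ (hinv g hg)⟩
    | one =>
      have : Fx Fr p b (1 : V ≃ₗ[F] V) := ⟨Lw.one, by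
        have : (1 : V ≃ₗ[F] V) b - b = 0 := sub_self b
        rw [this]; exact zero_mem _⟩
      rw [inv_one]; exact ⟨this, this⟩
    | mul g k _ _ h1 h2 => rw [mul_inv_rev]; exact ⟨h1.1.mul h2.1, h2.2.mul h1.2⟩
    | inv g _ h1 => rw [inv_inv]; exact ⟨h1.2, h1.1⟩
  exact fun g hg => (key g hg).1

/-! ### The generators -/

/-- The root elements of key `k`. -/
inductive GI (Fr : Frame H (Fin m)) (k : ℕ) : (V ≃ₗ[F] V) → Prop
  | X {x y : Fin m × Bool} (h : Ps x y) (hk : key m (pos x) (pos y) = k) (t : F) : GI Fr k (Fr.X x y t)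
  | Z {x : Fin m × Bool} (h : x.2 = true) (hk : key m (pos x) m = k) (p : Fr.Adm) : GI Fr k (Fr.Z x p)
  | C {x : Fin m × Bool} (h : x.2 = true) (hk : key m (pos x) (pos x) = k) (p : Fr.Adm) (hp : p.w = 0) :
      GI Fr k (Fr.Z x p)

theorem GI.inv {k : ℕ} {g : V ≃ₗ[F] V} (h : GI Fr k g) : GI Fr k g⁻¹ := by
  cases h with
  | X h hk t => rw [← Fr.X_neg]; exact .X h hk _
  | Z h hk p => rw [← Fr.Z_inv]; exact .Z h hk _
  | C h hk p hp => rw [← Fr.Z_inv]; exact .C h hk _ (by simp [hp])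

theorem GI.lw {k : ℕ} {g : V ≃ₗ[F] V} (h : GI Fr k g) : Lw Fr g := by
  cases h with
  | X h hk t => exact Lw_X h t
  | Z h hk p => exact Lw_Z h p
  | C h hk p hp => exact Lw_Z h p

/-- the group generated by the root elements of key `< k` -/
def VI (Fr : Frame H (Fin m)) (k : ℕ) : Subgroup (V ≃ₗ[F] V) := Subgroup.closure {g | ∃ j < k, GI Fr j g}

theorem GI.mem_VI {j k : ℕ} {g : V ≃ₗ[F] V} (h : GI Fr j g) (hj : j < k) : g ∈ VI Fr k :=
  Subgroup.subset_closure ⟨j, hj, h⟩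

theorem Fx.of_VI {p k : ℕ} {b : V} (h : ∀ j < k, ∀ g, GI Fr j g → g b - b ∈ N Fr p) {g : V ≃ₗ[F] V}
    (hg : g ∈ VI Fr k) : Fx Fr p b g :=
  Fx.closure (S := {g | ∃ j < k, GI Fr j g}) (fun _ ⟨j, hj, hg⟩ => ⟨j, hj, hg.inv⟩)
    (fun _ ⟨j, hj, hg⟩ => ⟨hg.lw, h j hj _ hg⟩) g hg

theorem lw_of_VI {k : ℕ} {g : V ≃ₗ[F] V} (hg : g ∈ VI Fr k) : Lw Fr g :=
  (Fx.of_VI (p := 0) (b := 0) (fun _ _ g _ => by rw [map_zero, sub_zero]; exact zero_mem _) hg).1

theorem b_fix {g : V ≃ₗ[F] V} (hg : Lw Fr g) {x : Fin m × Bool} (h : ∃ a : F, g (Fr.b x) = a • Fr.b x) :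
    g (Fr.b x) = Fr.b x := by
  obtain ⟨a, ha⟩ := h
  have h1 := hg (pos x) (Fr.b x) (b_mem_N (Nat.lt_succ_self _))
  rw [ha] at h1 ⊢
  have e : a • Fr.b x - Fr.b x = (a - 1) • Fr.b x := by rw [sub_smul, one_smul]
  rw [e] at h1
  rw [sub_eq_zero.1 (b_not_mem_N h1), one_smul]

/-- `b (-x)` is moved into `N (pos y)` by the root elements of key smaller than the key of `x, y` (`pos x ≤ pos y`). -/
theorem GI.mem_N {x : Fin m × Bool} (hx : x.2 = true) {p : ℕ} (hp : pos x ≤ p) (hp2 : p ≤ 2 * m) {j : ℕ}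
    (hj : j < key m (pos x) p) {g : V ≃ₗ[F] V} (h : GI Fr j g) : g (Fr.b (neg x)) - Fr.b (neg x) ∈ N Fr p := by
  have hxl := pos_le x
  have hxm := (pos_lt_iff x).2 hx
  cases h with
  | @X u v h hk t =>
    have hv := pos_le v
    have hu := pos_le u
    rw [← hk] at hj
    by_cases h1 : u = x
    · subst h1
      have h3 := lt_of_key_lt hu hv hj
      have h4 := X_apply_neg' Fr h.1 t
      rw [h4, sub_sub_cancel_left]
      exact Submodule.neg_mem _ (Submodule.smul_mem _ _ (b_mem_N h3))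
    · by_cases h2 : v = x
      · subst h2
        rw [key_comm] at hj
        have h4 := X_apply_neg Fr h.1 t
        rw [h4, add_sub_cancel_left]
        exact Submodule.smul_mem _ _ (b_mem_N (lt_of_key_lt hv hu hj))
      · rw [X_apply_of_ne Fr h.1 (fun h' => h1 (by
          rw [← TitsThree.WittFrame.neg_neg x, h', TitsThree.WittFrame.neg_neg])) (fun h' => h2 (by
          rw [← TitsThree.WittFrame.neg_neg x, h', TitsThree.WittFrame.neg_neg])), sub_self]
        exact zero_mem _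
  | @Z u h hk q =>
    rw [← hk] at hj
    by_cases h1 : u = x
    · subst h1
      have h3 : m < p := lt_of_key_lt hxl (by omega) hj
      rw [Z_apply_neg]
      have e : Fr.b (neg u) + Fr.η u • q.w + (q.c * Fr.η u) • Fr.b u - Fr.b (neg u) =
          Fr.η u • q.w + (q.c * Fr.η u) • Fr.b u := by abel
      rw [e]
      exact Submodule.add_mem _ (Submodule.smul_mem _ _ (V0_le_N h3 (Fr.ok_mem q.ok)))
        (Submodule.smul_mem _ _ (b_mem_N (by omega)))
    · rw [Z_apply_of_ne Fr (fun h' => h1 (by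
        rw [← TitsThree.WittFrame.neg_neg x, h', TitsThree.WittFrame.neg_neg])), sub_self]
      exact zero_mem _
  | @C u h hk q hq =>
    rw [← hk] at hj
    by_cases h1 : u = x
    · subst h1
      have h3 := lt_of_key_lt hxl hxl hj
      rw [Z_apply_neg, hq, smul_zero, add_zero, add_sub_cancel_left]
      exact Submodule.smul_mem _ _ (b_mem_N h3)
    · rw [Z_apply_of_ne Fr (fun h' => h1 (by
        rw [← TitsThree.WittFrame.neg_neg x, h', TitsThree.WittFrame.neg_neg])), sub_self]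
      exact zero_mem _


/-! ### Independence in `K` -/

section Indep

open Cfsg.Agent.KFacts.Mult.ChainZ

variable (M : Model Fr K)

/-- The root elements of key `k` in `K`. -/
def gens (k : ℕ) : Set K := {a | ∃ g : M.I, GI Fr k g ∧ M.φ g = a}

theorem X_mem_gens {x y : Fin m × Bool} (h : Ps x y) (t : F) : M.X x y t ∈ gens M (key m (pos x) (pos y)) :=
  ⟨⟨_, M.hX _ _ _⟩, .X h rfl t, rfl⟩

theorem Z_mem_gens {x : Fin m × Bool} (h : x.2 = true) (p : Fr.Adm) : M.Z x p ∈ gens M (key m (pos x) m) :=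
  ⟨⟨_, M.hZ _ _⟩, .Z h rfl p, rfl⟩

theorem C_mem_gens {x : Fin m × Bool} (h : x.2 = true) (p : Fr.Adm) (hp : p.w = 0) :
    M.Z x p ∈ gens M (key m (pos x) (pos x)) :=
  ⟨⟨_, M.hZ _ _⟩, .C h rfl p hp, rfl⟩

/-- case analysis for the generators -/
theorem gens_cases {k : ℕ} {a : K} (ha : a ∈ gens M k) :
    (∃ x y t, Ps x y ∧ pos x < pos y ∧ key m (pos x) (pos y) = k ∧ a = M.X x y t) ∨
    (∃ x p, x.2 = true ∧ key m (pos x) m = k ∧ a = M.Z x p) ∨
    (∃ x p, x.2 = true ∧ p.w = 0 ∧ key m (pos x) (pos x) = k ∧ a = M.Z x p) := by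
  obtain ⟨⟨g, hg⟩, h, rfl⟩ := ha
  cases h with
  | @X x y h hk t =>
    left
    rcases lt_trichotomy (pos x) (pos y) with h1 | h1 | h1
    · exact ⟨x, y, t, h, h1, hk, rfl⟩
    · exact absurd (congrArg Prod.fst (pos_inj h1)) h.1
    · refine ⟨y, x, -(H.ε⁻¹ * Fr.η x * Fr.η y * H.σ t), h.symm, h1, by rw [key_comm]; exact hk, ?_⟩
      rw [Model.X]
      congr 1
      exact Subtype.ext (Fr.X_swap h.1 t)
  | Z h hk p => exact Or.inr (Or.inl ⟨_, p, h, hk, rfl⟩)
  | C h hk p hp => exact Or.inr (Or.inr ⟨_, p, h, hp, hk, rfl⟩)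

theorem exists_of_mem {k : ℕ} {a : K} (ha : a ∈ Vk (gens M) k) : ∃ g : M.I, (g : V ≃ₗ[F] V) ∈ VI Fr k ∧ M.φ g = a := by
  have : Vk (gens M) k ≤ ((VI Fr k).subgroupOf M.I).map M.φ := by
    refine Vk_le fun j hj g hg => ?_
    obtain ⟨g, hg, rfl⟩ := hg
    exact Subgroup.mem_map_of_mem _ (Subgroup.mem_subgroupOf.2 (hg.mem_VI hj))
  obtain ⟨g, hg, e⟩ := this ha
  exact ⟨g, Subgroup.mem_subgroupOf.1 hg, e⟩

theorem indep {x : Fin m × Bool} (hx : x.2 = true) {p : ℕ} (hp : pos x ≤ p) (hp2 : p ≤ 2 * m) {g : M.I}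
    (hlw : Lw Fr g) (hlw' : Lw Fr (g : V ≃ₗ[F] V)⁻¹) (hmem : M.φ g ∈ Vk (gens M) (key m (pos x) p)) :
    (g : V ≃ₗ[F] V) (Fr.b (neg x)) - Fr.b (neg x) ∈ N Fr p := by
  obtain ⟨v, hv, e⟩ := exists_of_mem M hmem
  have hs : M.φ (v⁻¹ * g) = 1 := by rw [map_mul, map_inv, e, inv_mul_cancel]
  have hv' : Lw Fr (v : V ≃ₗ[F] V)⁻¹ := lw_of_VI (inv_mem hv)
  have h1 : ((v⁻¹ * g : M.I) : V ≃ₗ[F] V) (Fr.b (neg x)) = Fr.b (neg x) := by
    refine b_fix (hv'.mul hlw) ?_
    exact M.ker _ _ hs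
  have h2 : (g : V ≃ₗ[F] V) (Fr.b (neg x)) = (v : V ≃ₗ[F] V) (Fr.b (neg x)) := by
    have h3 := congrArg (v : V ≃ₗ[F] V) h1
    rw [← mul_apply'] at h3
    have h4 : (v : V ≃ₗ[F] V) * ((v⁻¹ * g : M.I) : V ≃ₗ[F] V) = g := by
      push_cast; group
    rwa [h4] at h3
  rw [h2]
  exact (Fx.of_VI (fun j hj g hg => hg.mem_N hx hp hp2 hj) hv).2

theorem indep_X {x y : Fin m × Bool} (h : Ps x y) (hlt : pos x < pos y) {t : F}
    (hmem : M.X x y t ∈ Vk (gens M) (key m (pos x) (pos y))) : t = 0 := by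
  have hx : x.2 = true := (pos_lt_iff x).1 (by have := h.2; omega)
  have h1 := indep M hx hlt.le (pos_le y) (g := ⟨_, M.hX x y t⟩) (Lw_X h t)
    (by rw [← Fr.X_neg]; exact Lw_X h _) hmem
  have h2 : Fr.X x y t (Fr.b (neg x)) - Fr.b (neg x) = (-(H.ε⁻¹ * Fr.η x * Fr.η y * H.σ t)) • Fr.b y := by
    rw [X_apply_neg' Fr h.1, neg_smul]; abel
  have h3 : (-(H.ε⁻¹ * Fr.η x * Fr.η y * H.σ t)) = 0 := b_not_mem_N (by rw [← h2]; exact h1)
  have h4 := Fr.η_ne x
  have h5 := Fr.η_ne y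
  have h6 := H.ε_ne
  have h7 : H.σ t = 0 := by
    rw [neg_eq_zero] at h3
    have h8 : H.ε⁻¹ * Fr.η x * Fr.η y ≠ 0 := mul_ne_zero (mul_ne_zero (inv_ne_zero h6) h4) h5
    exact (mul_eq_zero.1 h3).resolve_left h8
  simpa using h7

theorem indep_Z (nd : ∀ w ∈ Fr.V0, (∀ w' ∈ Fr.V0, H.h w w' = 0) → w = 0) {x : Fin m × Bool} (hx : x.2 = true)
    {p : Fr.Adm} (hmem : M.Z x p ∈ Vk (gens M) (key m (pos x) m)) : p.w = 0 := by
  have hxm := (pos_lt_iff x).2 hx
  have h1 := indep M hx hxm.le (by omega) (g := ⟨_, M.hZ x p⟩) (Lw_Z hx p)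
    (by rw [← Fr.Z_inv]; exact Lw_Z hx _) hmem
  have e : Fr.Z x p (Fr.b (neg x)) - Fr.b (neg x) = Fr.η x • p.w + (p.c * Fr.η x) • Fr.b x := by
    rw [Z_apply_neg]; abel
  change Fr.Z x p (Fr.b (neg x)) - Fr.b (neg x) ∈ _ at h1
  rw [e] at h1
  have h2 : Fr.η x • p.w ∈ N Fr m := by
    have := Submodule.sub_mem _ h1 (Submodule.smul_mem _ (p.c * Fr.η x) (b_mem_N (Fr := Fr) hxm))
    rwa [add_sub_cancel_right] at this
  refine nd _ (Fr.ok_mem p.ok) fun w' hw' => ?_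
  have h3 := h2.2 le_rfl w' hw'
  rw [H.smul_left] at h3
  exact (mul_eq_zero.1 h3).resolve_left (Fr.η_ne x)

theorem indep_C {x : Fin m × Bool} (hx : x.2 = true) {p : Fr.Adm} (hp : p.w = 0)
    (hmem : M.Z x p ∈ Vk (gens M) (key m (pos x) (pos x))) : p.c = 0 := by
  have hxm := (pos_lt_iff x).2 hx
  have h1 := indep M hx le_rfl (pos_le x) (g := ⟨_, M.hZ x p⟩) (Lw_Z hx p)
    (by rw [← Fr.Z_inv]; exact Lw_Z hx _) hmem
  have e : Fr.Z x p (Fr.b (neg x)) - Fr.b (neg x) = (p.c * Fr.η x) • Fr.b x := by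
    rw [Z_apply_neg, hp]; simp
  change Fr.Z x p (Fr.b (neg x)) - Fr.b (neg x) ∈ _ at h1
  rw [e] at h1
  exact (mul_eq_zero.1 (b_not_mem_N h1)).resolve_right (Fr.η_ne x)

end Indep

/-! ### The group is a 2-group -/

section TwoGroup

open Cfsg.Agent.KFacts.Mult.ChainZ

theorem N_zero (hV0 : ∀ v, (∀ x, H.h v (Fr.b x) = 0) → v ∈ Fr.V0)
    (nd : ∀ w ∈ Fr.V0, (∀ w' ∈ Fr.V0, H.h w w' = 0) → w = 0) {v : V} (hv : v ∈ N Fr 0) : v = 0 := by
  refine nd v (hV0 v fun x => ?_) (hv.2 (Nat.zero_le _))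
  have := hv.1 (neg x) (Nat.zero_le _)
  rwa [TitsThree.WittFrame.neg_neg] at this

theorem sq_step (h2 : (2 : F) = 0) {g : V ≃ₗ[F] V} {j : ℕ} (h : ∀ p, ∀ v ∈ N Fr (p + j), g v - v ∈ N Fr p) :
    ∀ p, ∀ v ∈ N Fr (p + 2 * j), (g * g) v - v ∈ N Fr p := by
  intro p v hv
  have e : (g * g) v - v = g (g v - v) - (g v - v) := by
    rw [mul_apply', map_sub]
    have h3 : (2 : F) • (g v - v) = 0 := by rw [h2, zero_smul]
    rw [two_smul] at h3
    have : g (g v) - v - (g (g v) - g v - (g v - v)) = (g v - v) + (g v - v) := by abel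
    rw [h3] at this
    exact sub_eq_zero.1 this
  rw [e]
  refine h p _ (h (p + j) v ?_)
  have : p + j + j = p + 2 * j := by ring
  rwa [this]

theorem pow_step (h2 : (2 : F) = 0) {g : V ≃ₗ[F] V} (h : Lw Fr g) (e : ℕ) :
    ∀ p, ∀ v ∈ N Fr (p + 2 ^ e), (g ^ 2 ^ e) v - v ∈ N Fr p := by
  induction e with
  | zero =>
    intro p v hv
    rw [pow_zero] at hv ⊢
    rw [pow_one]
    exact h p v hv
  | succ e ih =>
    have := sq_step h2 ih
    intro p v hv
    have e1 : g ^ 2 ^ (e + 1) = g ^ 2 ^ e * g ^ 2 ^ e := by rw [← pow_add]; congr 1; ring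
    rw [e1]
    apply this
    rwa [← pow_succ']

theorem pow_eq_one (h2 : (2 : F) = 0) (hV0 : ∀ v, (∀ x, H.h v (Fr.b x) = 0) → v ∈ Fr.V0)
    (nd : ∀ w ∈ Fr.V0, (∀ w' ∈ Fr.V0, H.h w w' = 0) → w = 0) {g : V ≃ₗ[F] V} (h : Lw Fr g) :
    ∃ e, g ^ 2 ^ e = 1 := by
  refine ⟨2 * m + 1, ?_⟩
  ext v
  have h1 : v ∈ N Fr (0 + 2 ^ (2 * m + 1)) := by
    refine N_mono (p := 2 * m + 1) ?_ ?_
    · rw [zero_add]; exact Nat.lt_two_pow_self.le
    · rw [N_top]; trivial
  have h3 := N_zero hV0 nd (pow_step h2 h (2 * m + 1) 0 v h1)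
  exact sub_eq_zero.1 h3

theorem isPGroup (M : Model Fr K) (h2 : (2 : F) = 0) (hV0 : ∀ v, (∀ x, H.h v (Fr.b x) = 0) → v ∈ Fr.V0)
    (nd : ∀ w ∈ Fr.V0, (∀ w' ∈ Fr.V0, H.h w w' = 0) → w = 0) (k : ℕ) : IsPGroup 2 ↥(Vk (gens M) k) := by
  rintro ⟨a, ha⟩
  obtain ⟨g, hg, rfl⟩ := exists_of_mem M ha
  obtain ⟨e, he⟩ := pow_eq_one h2 hV0 nd (lw_of_VI hg)
  refine ⟨e, Subtype.ext ?_⟩
  show M.φ g ^ 2 ^ e = 1
  rw [← map_pow]
  have : g ^ 2 ^ e = 1 := Subtype.ext he
  rw [this, map_one]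

end TwoGroup

end Cfsg.Agent.KFacts.Mult.WittTwo

end
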